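import Mathlib

/-!
Certified coset enumeration, edge by edge, with static time stamps (letters are involutions).

A certificate is a function `chunk : ℕ → ℕ`; chunk `q` holds the rows of the nodes `64 q, …, 64 q + 63`,
a row being eight 32-bit fields.  Field `c` (`c < 7`) of node `i` is `T + 2^16 S + 2^24 D`, where `T - 1` is the image
of node `i` under letter `c` (`T = 0`: edge not known), `S` is a time stamp (greater = earlier) and `D` the index of
the rotated word that closes the edge (`D = 0`: tree edge).  Field 7 of node `j` is `8 i + c` if the tree edge into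
`j` is `(i, c)`.  The code of a rotated word with first letter `c`, rest `u` (and, for a rotated subgroup word,
second part `v`) is `c + 2^8 |u| + 2^16 (|v| + 1 or 0) + 2^24 Σ 32 u_t 2^(8 t)` (digits of `v` after those of `u`).
-/

set_option autoImplicit false

namespace Cfsg.Agent.SporadicB.CosetCert

/-! ### kernel-friendly checker -/

/-- `cond b x false` -/
noncomputable def guard' (b x : Bool) : Bool := Bool.rec (motive := fun _ => Bool) false x b

/-- the row of node `i` (shifted to bit 0) -/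
noncomputable def row (chunk : ℕ → ℕ) (i : ℕ) : ℕ :=
  Nat.rec (motive := fun _ => ℕ) 0
    (fun q _ => Nat.shiftRight (chunk q) (Nat.mul 256 (Nat.mod i 64)))
    (Nat.succ (Nat.div i 64))

/-- walk along `n` digits of the word `w` from node `i` to `tgt`, using fields `≥ s` only (`s = 65536 * stamp`). -/
noncomputable def walk (chunk : ℕ → ℕ) (s tgt : ℕ) (n : ℕ) : ℕ → ℕ → Bool :=
  Nat.rec (motive := fun _ => ℕ → ℕ → Bool) (fun _ i => Nat.beq i tgt)
    (fun _ ih w i =>
      (fun r : ℕ => Bool.rec (motive := fun _ => Bool) false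
        (Nat.rec (motive := fun _ => Bool) false (fun m _ => ih (Nat.div w 256) m) (Nat.mod r 65536))
        (Nat.ble s r))
      (Nat.mod (Nat.shiftRight (row chunk i) (Nat.mod w 256)) 16777216))
    n

/-- check of the rotated word with code `w` at the edge `(i, c)` with target `j`, `s = 65536 * (stamp + 1)` -/
noncomputable def chkWord (chunk : ℕ → ℕ) (i c s j w : ℕ) : Bool :=
  Bool.rec (motive := fun _ => Bool) false
    (Nat.rec (motive := fun _ => Bool)
      (walk chunk s i (Nat.mod (Nat.shiftRight w 8) 256) (Nat.shiftRight w 24) j)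
      (fun l _ => Bool.rec (motive := fun _ => Bool) false
        (walk chunk s i l (Nat.shiftRight w (Nat.add 24 (Nat.mul 8 (Nat.mod (Nat.shiftRight w 8) 256)))) 0)
        (walk chunk s 0 (Nat.mod (Nat.shiftRight w 8) 256) (Nat.shiftRight w 24) j))
      (Nat.mod (Nat.shiftRight w 16) 256))
    (Nat.beq (Nat.mod w 256) c)

/-- check of the edge `(i, c)` whose target is `j`, with `r = T + 2^16 S` and `D = d` -/
noncomputable def chkTo (chunk wd : ℕ → ℕ) (i c r d j : ℕ) : Bool :=
  Bool.rec (motive := fun _ => Bool) false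
    (Bool.rec (motive := fun _ => Bool) true
      (Nat.rec (motive := fun _ => Bool)
        (Bool.rec (motive := fun _ => Bool) false (Nat.ble (Nat.succ i) j)
          (Nat.beq (Nat.mod (Nat.shiftRight (row chunk j) 224) 4294967296) (Nat.add (Nat.mul 8 i) c)))
        (fun m _ => chkWord chunk i c (Nat.mul 65536 (Nat.succ (Nat.shiftRight r 16))) j (wd m))
        d)
      (Nat.ble i j))
    (Nat.beq (Nat.add (Nat.mod (Nat.shiftRight (row chunk j) (Nat.mul 32 c)) 16777216) j) (Nat.add r i))

/-- check of field `c` of node `i` -/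
noncomputable def chkEdge (chunk wd : ℕ → ℕ) (n i c : ℕ) : Bool :=
  (fun f => Nat.rec (motive := fun _ => Bool) true
    (fun j _ => Bool.rec (motive := fun _ => Bool) false
      (chkTo chunk wd i c (Nat.mod f 16777216) (Nat.mod (Nat.shiftRight f 24) 256) j)
      (Nat.ble (Nat.succ j) n)) (Nat.mod f 65536)) (Nat.shiftRight (row chunk i) (Nat.mul 32 c))

/-- check of the fields `0, …, k - 1` of node `i` -/
noncomputable def chkNode (chunk wd : ℕ → ℕ) (n i k : ℕ) : Bool :=
  Nat.rec (motive := fun _ => Bool) true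
    (fun c ih => Bool.rec (motive := fun _ => Bool) false ih (chkEdge chunk wd n i c)) k

/-- check of the nodes `lo, …, lo + cnt - 1` -/
noncomputable def chkNodes (chunk wd : ℕ → ℕ) (n k lo cnt : ℕ) : Bool :=
  Nat.rec (motive := fun _ => Bool) true
    (fun m ih => Bool.rec (motive := fun _ => Bool) false ih (Nat.rec (motive := fun _ => Bool) false
      (fun i _ => chkNode chunk wd n i k) (Nat.succ (Nat.add lo m)))) cnt

/-- field `c` of node `i` is known -/
noncomputable def fullNode (chunk : ℕ → ℕ) (i k : ℕ) : Bool :=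
  Nat.rec (motive := fun _ => Bool) true
    (fun c ih => Bool.rec (motive := fun _ => Bool) false ih
      (Nat.ble 1 (Nat.mod (Nat.shiftRight (row chunk i) (Nat.mul 32 c)) 65536))) k

/-- all fields `0, …, k - 1` of the nodes `lo, …, lo + cnt - 1` are known -/
noncomputable def fullNodes (chunk : ℕ → ℕ) (k lo cnt : ℕ) : Bool :=
  Nat.rec (motive := fun _ => Bool) true
    (fun m ih => Bool.rec (motive := fun _ => Bool) false ih (Nat.rec (motive := fun _ => Bool) false
      (fun i _ => fullNode chunk i k) (Nat.succ (Nat.add lo m)))) cnt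

/-! ### elimination of the kernel combinators -/

theorem brec_true {b x : Bool} (h : (Bool.rec (motive := fun _ => Bool) false x b : Bool) = true) :
    b = true ∧ x = true := by
  cases b
  · exact absurd h (by simp)
  · exact ⟨rfl, h⟩

theorem nrec_true {n : ℕ} {F : ℕ → Bool}
    (h : (Nat.rec (motive := fun _ => Bool) false (fun m _ => F m) n : Bool) = true) :
    ∃ m, n = m + 1 ∧ F m = true := by
  cases n with
  | zero => exact absurd h (by simp)
  | succ m => exact ⟨m, rfl, h⟩

theorem chkNode_elim {chunk wd : ℕ → ℕ} {n i : ℕ} :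
    ∀ {k : ℕ}, chkNode chunk wd n i k = true → ∀ c < k, chkEdge chunk wd n i c = true := by
  intro k
  induction k with
  | zero => intro _ c hc; exact absurd hc (Nat.not_lt_zero _)
  | succ k ih =>
    intro h c hc
    have h' := brec_true (b := chkEdge chunk wd n i k) (x := chkNode chunk wd n i k) h
    rcases Nat.lt_succ_iff_lt_or_eq.1 hc with hc | rfl
    · exact ih h'.2 c hc
    · exact h'.1

theorem chkNodes_elim {chunk wd : ℕ → ℕ} {n k lo : ℕ} :
    ∀ {cnt : ℕ}, chkNodes chunk wd n k lo cnt = true →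
      ∀ i, lo ≤ i → i < lo + cnt → chkNode chunk wd n i k = true := by
  intro cnt
  induction cnt with
  | zero => intro _ i h1 h2; omega
  | succ m ih =>
    intro h i h1 h2
    have h' := brec_true (b := chkNode chunk wd n (lo + m) k) (x := chkNodes chunk wd n k lo m) h
    rcases Nat.lt_or_ge i (lo + m) with hi | hi
    · exact ih h'.2 i h1 hi
    · have : i = lo + m := by omega
      subst this; exact h'.1

theorem fullNode_elim {chunk : ℕ → ℕ} {i : ℕ} :
    ∀ {k : ℕ}, fullNode chunk i k = true → ∀ c < k, (row chunk i >>> (32 * c)) % 65536 ≠ 0 := by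
  intro k
  induction k with
  | zero => intro _ c hc; exact absurd hc (Nat.not_lt_zero _)
  | succ k ih =>
    intro h c hc
    have h' := brec_true (b := Nat.ble 1 (Nat.mod (Nat.shiftRight (row chunk i) (Nat.mul 32 k)) 65536))
      (x := fullNode chunk i k) h
    rcases Nat.lt_succ_iff_lt_or_eq.1 hc with hc | rfl
    · exact ih h'.2 c hc
    · have := Nat.le_of_ble_eq_true h'.1
      exact Nat.one_le_iff_ne_zero.1 this

theorem fullNodes_elim {chunk : ℕ → ℕ} {k lo : ℕ} :
    ∀ {cnt : ℕ}, fullNodes chunk k lo cnt = true →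
      ∀ i, lo ≤ i → i < lo + cnt → fullNode chunk i k = true := by
  intro cnt
  induction cnt with
  | zero => intro _ i h1 h2; omega
  | succ m ih =>
    intro h i h1 h2
    have h' := brec_true (b := fullNode chunk (lo + m) k) (x := fullNodes chunk k lo m) h
    rcases Nat.lt_or_ge i (lo + m) with hi | hi
    · exact ih h'.2 i h1 hi
    · have : i = lo + m := by omega
      subst this; exact h'.1

/-! ### words -/

variable {G : Type*} [Group G]

/-- value of a word -/
def ev (x : ℕ → G) (w : List ℕ) : G := (w.map x).prod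

@[simp] theorem ev_nil (x : ℕ → G) : ev x [] = 1 := rfl

@[simp] theorem ev_cons (x : ℕ → G) (c : ℕ) (w : List ℕ) : ev x (c :: w) = x c * ev x w := by
  simp [ev]

@[simp] theorem ev_append (x : ℕ → G) (v w : List ℕ) : ev x (v ++ w) = ev x v * ev x w := by
  simp [ev]

theorem ev_reverse {x : ℕ → G} (hx : ∀ c, x c * x c = 1) (w : List ℕ) :
    ev x w.reverse = (ev x w)⁻¹ := by
  induction w with
  | nil => simp
  | cons c w ih =>
    rw [List.reverse_cons, ev_append, ih, ev_cons, ev_cons, ev_nil, mul_one, mul_inv_rev,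
      inv_eq_of_mul_eq_one_left (hx c)]

/-- digits of a word, followed by `z` -/
def encD : List ℕ → ℕ → ℕ
  | [], z => z
  | d :: u, z => 32 * d + 256 * encD u z

/-- code of a rotated relator `c :: u` -/
def codeR (c : ℕ) (u : List ℕ) : ℕ := c + 256 * u.length + 16777216 * encD u 0

/-- code of a rotated subgroup word: `v ++ c :: u` lies in the subgroup -/
def codeS (c : ℕ) (u v : List ℕ) : ℕ :=
  c + 256 * u.length + 65536 * (v.length + 1) + 16777216 * encD u (encD v 0)

/-- the code `w` is not used, or it codes a rotated relator, or a rotated subgroup word -/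
def ValidW (A : Subgroup G) (x : ℕ → G) (k w : ℕ) : Prop :=
  k ≤ w % 256 ∨
  (∃ c u, w = codeR c u ∧ c < k ∧ (∀ d ∈ u, d < k) ∧ u.length < 256 ∧ x c * ev x u = 1) ∨
  (∃ c u v, w = codeS c u v ∧ c < k ∧ (∀ d ∈ u, d < k) ∧ (∀ d ∈ v, d < k) ∧ u.length < 256 ∧
    v.length < 255 ∧ ev x v * x c * ev x u ∈ A)

theorem encD_shift (u : List ℕ) (hu : ∀ d ∈ u, d < 8) (z : ℕ) : encD u z >>> (8 * u.length) = z := by
  induction u with
  | nil => simp [encD]
  | cons d u ih =>
    have hd : d < 8 := hu d (by simp)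
    have h1 : encD (d :: u) z >>> 8 = encD u z := by
      rw [Nat.shiftRight_eq_div_pow, encD]; omega
    rw [List.length_cons, Nat.mul_succ, Nat.add_comm, Nat.shiftRight_add, h1]
    exact ih (fun e he => hu e (List.mem_cons_of_mem _ he))

/-- the edge `(i, c, j)` holds for the representatives `rep` of right cosets of `A` -/
def Edge (A : Subgroup G) (x rep : ℕ → G) (i c j : ℕ) : Prop := rep i * x c * (rep j)⁻¹ ∈ A

theorem Edge.symm {A : Subgroup G} {x rep : ℕ → G} (hx : ∀ c, x c * x c = 1) {i c j : ℕ}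
    (h : Edge A x rep i c j) : Edge A x rep j c i := by
  have := A.inv_mem h
  have e : (rep i * x c * (rep j)⁻¹)⁻¹ = rep j * x c * (rep i)⁻¹ := by
    rw [mul_inv_rev, mul_inv_rev, inv_inv, inv_eq_of_mul_eq_one_left (hx c), mul_assoc]
  rwa [e] at this

/-- one step of a walk -/
theorem walk_succ {chunk : ℕ → ℕ} {s tgt l w i : ℕ}
    (h : walk chunk s tgt (l + 1) w i = true) :
    ∃ m, (row chunk i >>> (w % 256)) % 65536 = m + 1 ∧ s ≤ (row chunk i >>> (w % 256)) % 16777216 ∧
      walk chunk s tgt l (w / 256) m = true := by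
  have h1 := brec_true (b := Nat.ble s ((row chunk i >>> (w % 256)) % 16777216))
    (x := Nat.rec (motive := fun _ => Bool) false (fun m _ => walk chunk s tgt l (w / 256) m)
      ((row chunk i >>> (w % 256)) % 16777216 % 65536)) h
  obtain ⟨m, hm, hw⟩ := nrec_true h1.2
  refine ⟨m, ?_, Nat.le_of_ble_eq_true h1.1, hw⟩
  rw [← hm]; omega

theorem walk_sound {A : Subgroup G} {x rep : ℕ → G} {chunk : ℕ → ℕ} {n k s tgt : ℕ} (hk : k ≤ 7)
    (hI : ∀ i < n, ∀ c < k, ∀ m, (row chunk i >>> (32 * c)) % 65536 = m + 1 →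
      s ≤ (row chunk i >>> (32 * c)) % 16777216 → m < n ∧ Edge A x rep i c m) :
    ∀ (u : List ℕ) (z i : ℕ), (∀ d ∈ u, d < k) → i < n →
      walk chunk s tgt u.length (encD u z) i = true →
      tgt < n ∧ rep i * ev x u * (rep tgt)⁻¹ ∈ A := by
  intro u
  induction u with
  | nil =>
    intro z i _ hi h
    have : i = tgt := Nat.eq_of_beq_eq_true h
    subst this
    exact ⟨hi, by simp [A.one_mem]⟩
  | cons d u ih =>
    intro z i hu hi h
    have hd : d < k := hu d (by simp)
    obtain ⟨m, hm, hs, hw⟩ := walk_succ h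
    have e1 : encD (d :: u) z % 256 = 32 * d := by rw [encD]; omega
    have e2 : encD (d :: u) z / 256 = encD u z := by rw [encD]; omega
    rw [e1] at hm hs
    rw [e2] at hw
    obtain ⟨hmn, hE⟩ := hI i hi d hd m hm hs
    obtain ⟨ht, hP⟩ := ih z m (fun e he => hu e (List.mem_cons_of_mem _ he)) hmn hw
    refine ⟨ht, ?_⟩
    have := A.mul_mem hE hP
    have e : rep i * x d * (rep m)⁻¹ * (rep m * ev x u * (rep tgt)⁻¹) =
        rep i * ev x (d :: u) * (rep tgt)⁻¹ := by rw [ev_cons]; group
    rwa [e] at this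

theorem chkWord_sound {A : Subgroup G} {x rep : ℕ → G} {chunk : ℕ → ℕ} {n k s i c j w : ℕ}
    (hk : k ≤ 7) (h0 : rep 0 = 1) (hn : 0 < n)
    (hI : ∀ i < n, ∀ c < k, ∀ m, (row chunk i >>> (32 * c)) % 65536 = m + 1 →
      s ≤ (row chunk i >>> (32 * c)) % 16777216 → m < n ∧ Edge A x rep i c m)
    (hw : ValidW A x k w) (hc : c < k) (hj : j < n)
    (h : chkWord chunk i c s j w = true) : Edge A x rep i c j := by
  have h1 := brec_true (b := Nat.beq (w % 256) c)
    (x := (Nat.rec (motive := fun _ => Bool)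
      (walk chunk s i ((w >>> 8) % 256) (w >>> 24) j)
      (fun l _ => Bool.rec (motive := fun _ => Bool) false
        (walk chunk s i l (w >>> (24 + 8 * ((w >>> 8) % 256))) 0)
        (walk chunk s 0 ((w >>> 8) % 256) (w >>> 24) j))
      ((w >>> 16) % 256) : Bool)) h
  have hwc : w % 256 = c := Nat.eq_of_beq_eq_true h1.1
  rcases hw with hw | ⟨c', u, hw, hc', hu, hlu, hev⟩ | ⟨c', u, v, hw, hc', hu, hv, hlu, hlv, hev⟩
  · omega
  · have e0 : w % 256 = c' := by rw [hw, codeR]; omega
    have hcc : c' = c := by omega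
    subst hcc
    have e1 : (w >>> 8) % 256 = u.length := by
      rw [Nat.shiftRight_eq_div_pow, hw, codeR]; omega
    have e2 : (w >>> 16) % 256 = 0 := by
      rw [Nat.shiftRight_eq_div_pow, hw, codeR]; omega
    have e3 : w >>> 24 = encD u 0 := by
      rw [Nat.shiftRight_eq_div_pow, hw, codeR]; omega
    have h2 := h1.2
    rw [e1, e2, e3] at h2
    have h3 := (walk_sound hk hI u 0 j hu hj h2).2
    have e : (rep j * ev x u * (rep i)⁻¹)⁻¹ = rep i * x c' * (rep j)⁻¹ := by
      rw [eq_inv_of_mul_eq_one_left hev]; group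
    have h4 := A.inv_mem h3
    rwa [e] at h4
  · have e0 : w % 256 = c' := by rw [hw, codeS]; omega
    have hcc : c' = c := by omega
    subst hcc
    have e1 : (w >>> 8) % 256 = u.length := by
      rw [Nat.shiftRight_eq_div_pow, hw, codeS]; omega
    have e2 : (w >>> 16) % 256 = v.length + 1 := by
      rw [Nat.shiftRight_eq_div_pow, hw, codeS]; omega
    have e3 : w >>> 24 = encD u (encD v 0) := by
      rw [Nat.shiftRight_eq_div_pow, hw, codeS]; omega
    have e4 : w >>> (24 + 8 * u.length) = encD v 0 := by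
      rw [Nat.shiftRight_add, e3]
      exact encD_shift u (fun d hd => by have := hu d hd; omega) _
    have h2 := h1.2
    rw [e1, e2, e3, e4] at h2
    have h3 := brec_true (b := walk chunk s 0 u.length (encD u (encD v 0)) j)
      (x := walk chunk s i v.length (encD v 0) 0) h2
    have h4 := (walk_sound hk hI u _ j hu hj h3.1).2
    have h5 := (walk_sound hk hI v _ 0 hv hn h3.2).2
    rw [h0] at h4 h5
    have h6 := A.mul_mem (A.mul_mem (A.inv_mem h5) hev) (A.inv_mem h4)
    have e : (1 * ev x v * (rep i)⁻¹)⁻¹ * (ev x v * x c' * ev x u) * (rep j * ev x u * 1⁻¹)⁻¹ =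
        rep i * x c' * (rep j)⁻¹ := by group
    rwa [e] at h6

/-- representatives along the tree coded by `p` -/
noncomputable def repOf (x : ℕ → G) (p : ℕ → ℕ) (j : ℕ) : G :=
  if h : p j / 8 < j then repOf x p (p j / 8) * x (p j % 8) else 1
termination_by j
decreasing_by exact h

theorem repOf_zero (x : ℕ → G) (p : ℕ → ℕ) : repOf x p 0 = 1 := by
  rw [repOf]; simp

theorem repOf_step (x : ℕ → G) (p : ℕ → ℕ) {i c j : ℕ} (hp : p j = 8 * i + c) (hc : c < 8)
    (hi : i < j) : repOf x p j = repOf x p i * x c := by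
  have e1 : p j / 8 = i := by omega
  have e2 : p j % 8 = c := by omega
  rw [repOf, dif_pos (by omega), e1, e2]

/-- the elimination of `chkEdge` -/
theorem chkEdge_elim {chunk wd : ℕ → ℕ} {n i c j : ℕ} (h : chkEdge chunk wd n i c = true)
    (hT : (row chunk i >>> (32 * c)) % 65536 = j + 1) :
    j < n ∧ (row chunk j >>> (32 * c)) % 16777216 + j = (row chunk i >>> (32 * c)) % 16777216 + i ∧
    (i ≤ j → ((i < j ∧ (row chunk j >>> 224) % 4294967296 = 8 * i + c) ∨
      ∃ m, chkWord chunk i c (65536 * ((((row chunk i >>> (32 * c)) % 16777216) >>> 16) + 1)) j (wd m) = true)) := by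
  have h' : (Nat.rec (motive := fun _ => Bool) true
    (fun j _ => Bool.rec (motive := fun _ => Bool) false
      (chkTo chunk wd i c ((row chunk i >>> (32 * c)) % 16777216)
        (((row chunk i >>> (32 * c)) >>> 24) % 256) j)
      (Nat.ble (Nat.succ j) n)) ((row chunk i >>> (32 * c)) % 65536) : Bool) = true := h
  rw [hT] at h'
  have h1 := brec_true (b := Nat.ble (Nat.succ j) n) (x := chkTo chunk wd i c ((row chunk i >>> (32 * c)) % 16777216)
        (((row chunk i >>> (32 * c)) >>> 24) % 256) j) h'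
  refine ⟨Nat.le_of_ble_eq_true h1.1, ?_⟩
  generalize hd : ((row chunk i >>> (32 * c)) >>> 24) % 256 = d at h1
  generalize hr : (row chunk i >>> (32 * c)) % 16777216 = r at h1 ⊢
  have h2 := brec_true (b := Nat.beq ((row chunk j >>> (32 * c)) % 16777216 + j) (r + i))
    (x := Bool.rec (motive := fun _ => Bool) true
      (Nat.rec (motive := fun _ => Bool)
        (Bool.rec (motive := fun _ => Bool) false (Nat.ble (Nat.succ i) j)
          (Nat.beq ((row chunk j >>> 224) % 4294967296) (8 * i + c)))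
        (fun m _ => chkWord chunk i c (65536 * (r >>> 16 + 1)) j (wd m))
        d)
      (Nat.ble i j)) h1.2
  refine ⟨Nat.eq_of_beq_eq_true h2.1, fun hij => ?_⟩
  have h3 := h2.2
  rw [Nat.ble_eq_true_of_le hij] at h3
  cases d with
  | zero =>
    left
    have h4 := brec_true (b := Nat.beq ((row chunk j >>> 224) % 4294967296) (8 * i + c))
      (x := Nat.ble (Nat.succ i) j) h3
    exact ⟨Nat.le_of_ble_eq_true h4.2, Nat.eq_of_beq_eq_true h4.1⟩
  | succ m => right; exact ⟨m, h3⟩

theorem sound_aux {A : Subgroup G} {x : ℕ → G} {chunk wd : ℕ → ℕ} {n k : ℕ} {rep : ℕ → G}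
    (hx : ∀ c, x c * x c = 1) (hk : k ≤ 7) (hn : 0 < n) (hn' : n < 65536)
    (hw : ∀ m, ValidW A x k (wd m))
    (h : ∀ i < n, chkNode chunk wd n i k = true)
    (h0 : rep 0 = 1) (hrep : ∀ i c j, (row chunk j >>> 224) % 4294967296 = 8 * i + c → c < 8 → i < j →
      rep j = rep i * x c) :
    ∀ t S, S + t = 256 → ∀ i < n, ∀ c < k, ∀ m, (row chunk i >>> (32 * c)) % 65536 = m + 1 →
      65536 * S ≤ (row chunk i >>> (32 * c)) % 16777216 → m < n ∧ Edge A x rep i c m := by
  intro t
  induction t with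
  | zero =>
    intro S hS i _ c _ m _ hs
    exfalso
    have := Nat.mod_lt (row chunk i >>> (32 * c)) (show 0 < 16777216 by norm_num)
    omega
  | succ t ih =>
    intro S hS
    have hI := ih (S + 1) (by omega)
    have canon : ∀ i < n, ∀ c < k, ∀ j, (row chunk i >>> (32 * c)) % 65536 = j + 1 → i ≤ j →
        ((row chunk i >>> (32 * c)) % 16777216) >>> 16 = S → Edge A x rep i c j := by
      intro i hi c hc j hT hij hS'
      obtain ⟨hj, _, hcase⟩ := chkEdge_elim (chkNode_elim (h i hi) c hc) hT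
      rcases hcase hij with ⟨hlt, hp⟩ | ⟨m, hm⟩
      · have := hrep i c j hp (by omega) hlt
        unfold Edge
        rw [this, mul_inv_cancel]
        exact A.one_mem
      · rw [hS'] at hm
        exact chkWord_sound hk h0 hn hI (hw m) hc hj hm
    intro i hi c hc j hT hs
    rcases Nat.lt_or_ge ((row chunk i >>> (32 * c)) % 16777216) (65536 * (S + 1)) with hlt | hge
    · have hS' : ((row chunk i >>> (32 * c)) % 16777216) >>> 16 = S := by
        rw [Nat.shiftRight_eq_div_pow]; omega
      obtain ⟨hj, hrev, _⟩ := chkEdge_elim (chkNode_elim (h i hi) c hc) hT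
      refine ⟨hj, ?_⟩
      rcases Nat.lt_or_ge j i with hji | hij
      · have hTi : (row chunk i >>> (32 * c)) % 16777216 % 65536 = j + 1 := by omega
        have hTj : (row chunk j >>> (32 * c)) % 65536 = i + 1 := by
          have : (row chunk j >>> (32 * c)) % 16777216 % 65536 = i + 1 := by omega
          omega
        have hSj : ((row chunk j >>> (32 * c)) % 16777216) >>> 16 = S := by
          rw [Nat.shiftRight_eq_div_pow]; omega
        exact (canon j hj c hc i hTj (le_of_lt hji) hSj).symm hx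
      · exact canon i hi c hc j hT hij hS'
    · exact hI i hi c hc j hT hge

/-- **Soundness.** All edges recorded in a checked table hold. -/
theorem sound {A : Subgroup G} {x : ℕ → G} {chunk wd : ℕ → ℕ} {n k : ℕ}
    (hx : ∀ c, x c * x c = 1) (hk : k ≤ 7) (hn : 0 < n) (hn' : n < 65536)
    (hw : ∀ m, ValidW A x k (wd m))
    (h : ∀ i < n, chkNode chunk wd n i k = true) :
    ∃ rep : ℕ → G, rep 0 = 1 ∧ ∀ i < n, ∀ c < k, ∀ m, (row chunk i >>> (32 * c)) % 65536 = m + 1 →
      m < n ∧ Edge A x rep i c m := by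
  let p : ℕ → ℕ := fun j => (row chunk j >>> 224) % 4294967296
  refine ⟨repOf x p, repOf_zero x p, ?_⟩
  intro i hi c hc m hm
  exact sound_aux hx hk hn hn' hw h (repOf_zero x p)
    (fun i c j hp hc hi => repOf_step x p hp hc hi) 256 0 rfl i hi c hc m hm (by omega)

/-- **Membership.** A word leading from node 0 back to node 0 along recorded edges lies in `A`. -/
theorem loop {A : Subgroup G} {x : ℕ → G} {chunk wd : ℕ → ℕ} {n k : ℕ}
    (hx : ∀ c, x c * x c = 1) (hk : k ≤ 7) (hn : 0 < n) (hn' : n < 65536)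
    (hw : ∀ m, ValidW A x k (wd m))
    (h : ∀ i < n, chkNode chunk wd n i k = true) (u : List ℕ) (hu : ∀ d ∈ u, d < k)
    (hwalk : walk chunk 0 0 u.length (encD u 0) 0 = true) : ev x u ∈ A := by
  obtain ⟨rep, h0, hE⟩ := sound hx hk hn hn' hw h
  have := (walk_sound (A := A) (x := x) (rep := rep) (n := n) (k := k) hk
    (fun i hi c hc m hm _ => hE i hi c hc m hm) u 0 0 hu hn hwalk).2
  simpa [h0] using this

/-! ### the words -/

/-- codes of the rotations of a relator -/
def rotR (r : List ℕ) : List ℕ :=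
  (List.range r.length).map fun t =>
    match r.drop t ++ r.take t with
    | [] => 255
    | c :: u => codeR c u

/-- codes of the rotations of a subgroup word -/
def rotS (r : List ℕ) : List ℕ :=
  (List.range r.length).map fun t =>
    match r.drop t with
    | [] => 255
    | c :: u => codeS c u (r.take t)

/-- all codes -/
def codes (rels subs : List (List ℕ)) : List ℕ :=
  rels.flatMap (fun r => rotR r ++ rotR r.reverse) ++ subs.flatMap (fun r => rotS r ++ rotS r.reverse)

theorem rotR_valid {A : Subgroup G} {x : ℕ → G} {k : ℕ} (hk : k ≤ 7) {r : List ℕ}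
    (hr : ev x r = 1) (hl : r.length < 255) (hd : ∀ d ∈ r, d < k) {w : ℕ} (hw : w ∈ rotR r) :
    ValidW A x k w := by
  obtain ⟨t, _, rfl⟩ := List.mem_map.1 hw
  have hperm : ∀ d ∈ r.drop t ++ r.take t, d < k := by
    intro d h
    rcases List.mem_append.1 h with h | h
    · exact hd d (List.mem_of_mem_drop h)
    · exact hd d (List.mem_of_mem_take h)
  have hlen : (r.drop t ++ r.take t).length < 255 := by
    rw [List.length_append, List.length_drop, List.length_take]; omega
  have hev : ev x (r.drop t ++ r.take t) = 1 := by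
    have h1 : ev x (r.take t) * ev x (r.drop t) = 1 := by rw [← ev_append, List.take_append_drop, hr]
    rw [ev_append]
    exact mul_eq_one_comm.1 h1
  revert hperm hlen hev
  cases r.drop t ++ r.take t with
  | nil => intro _ _ _; exact Or.inl (by show k ≤ 255 % 256; omega)
  | cons c u =>
    intro hperm hlen hev
    refine Or.inr (Or.inl ⟨c, u, rfl, hperm c (by simp), fun d h => hperm d (List.mem_cons_of_mem _ h), ?_, ?_⟩)
    · rw [List.length_cons] at hlen; omega
    · rw [← ev_cons]; exact hev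

theorem rotS_valid {A : Subgroup G} {x : ℕ → G} {k : ℕ} (hk : k ≤ 7) {r : List ℕ}
    (hr : ev x r ∈ A) (hl : r.length < 255) (hd : ∀ d ∈ r, d < k) {w : ℕ} (hw : w ∈ rotS r) :
    ValidW A x k w := by
  obtain ⟨t, _, rfl⟩ := List.mem_map.1 hw
  have h1 : ev x (r.take t) * ev x (r.drop t) ∈ A := by rw [← ev_append, List.take_append_drop]; exact hr
  have hd1 : ∀ d ∈ r.drop t, d < k := fun d h => hd d (List.mem_of_mem_drop h)
  have hl1 : (r.drop t).length ≤ r.length := by rw [List.length_drop]; omega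
  revert h1 hd1 hl1
  cases r.drop t with
  | nil => intro _ _ _; exact Or.inl (by show k ≤ 255 % 256; omega)
  | cons c u =>
    intro h1 hd1 hl1
    refine Or.inr (Or.inr ⟨c, u, r.take t, rfl, hd1 c (by simp), fun d h => hd1 d (List.mem_cons_of_mem _ h),
      fun d h => hd d (List.mem_of_mem_take h), ?_, ?_, ?_⟩)
    · rw [List.length_cons] at hl1; omega
    · rw [List.length_take]; omega
    · rw [mul_assoc, ← ev_cons]; exact h1

theorem codes_valid {A : Subgroup G} {x : ℕ → G} {k : ℕ} (hx : ∀ c, x c * x c = 1) (hk : k ≤ 7)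
    {rels subs : List (List ℕ)}
    (hr : ∀ r ∈ rels, ev x r = 1) (hs : ∀ r ∈ subs, ev x r ∈ A)
    (hr' : ∀ r ∈ rels, r.length < 255 ∧ ∀ d ∈ r, d < k)
    (hs' : ∀ r ∈ subs, r.length < 255 ∧ ∀ d ∈ r, d < k) {w : ℕ} (hw : w ∈ codes rels subs) :
    ValidW A x k w := by
  rcases List.mem_append.1 hw with h | h
  · obtain ⟨r, hr1, h⟩ := List.mem_flatMap.1 h
    rcases List.mem_append.1 h with h | h
    · exact rotR_valid hk (hr r hr1) (hr' r hr1).1 (hr' r hr1).2 h
    · refine rotR_valid hk (r := r.reverse) ?_ ?_ ?_ h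
      · rw [ev_reverse hx, hr r hr1, inv_one]
      · rw [List.length_reverse]; exact (hr' r hr1).1
      · intro d hd; exact (hr' r hr1).2 d (List.mem_reverse.1 hd)
  · obtain ⟨r, hr1, h⟩ := List.mem_flatMap.1 h
    rcases List.mem_append.1 h with h | h
    · exact rotS_valid hk (hs r hr1) (hs' r hr1).1 (hs' r hr1).2 h
    · refine rotS_valid hk (r := r.reverse) ?_ ?_ ?_ h
      · rw [ev_reverse hx]; exact A.inv_mem (hs r hr1)
      · rw [List.length_reverse]; exact (hs' r hr1).1
      · intro d hd; exact (hs' r hr1).2 d (List.mem_reverse.1 hd)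

/-- all indices code valid words -/
theorem wd_valid {A : Subgroup G} {x : ℕ → G} {k : ℕ} {wd : ℕ → ℕ} (hx : ∀ c, x c * x c = 1)
    (hk : k ≤ 7) (N : ℕ) {rels subs : List (List ℕ)}
    (hr : ∀ r ∈ rels, ev x r = 1) (hs : ∀ r ∈ subs, ev x r ∈ A)
    (hr' : ∀ r ∈ rels, r.length < 255 ∧ ∀ d ∈ r, d < k)
    (hs' : ∀ r ∈ subs, r.length < 255 ∧ ∀ d ∈ r, d < k)
    (h1 : ∀ m < N, wd m ∈ codes rels subs) (h2 : ∀ m, N ≤ m → wd m = 255) (m : ℕ) :
    ValidW A x k (wd m) := by
  rcases Nat.lt_or_ge m N with h | h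
  · exact codes_valid hx hk hr hs hr' hs' (h1 m h)
  · refine Or.inl ?_
    rw [h2 m h]
    show k ≤ 255 % 256
    omega

/-- `B` is covered by `n` right cosets of `A`. -/
def Cov (A B : Subgroup G) (n : ℕ) : Prop := ∃ r : Fin n → G, ∀ b ∈ B, ∃ i, b * (r i)⁻¹ ∈ A

theorem Cov.trans {A B C : Subgroup G} {m n : ℕ} (h₁ : Cov A B m) (h₂ : Cov B C n) :
    Cov A C (m * n) := by
  obtain ⟨r, hr⟩ := h₁
  obtain ⟨s, hs⟩ := h₂
  refine ⟨fun q => r (finProdFinEquiv.symm q).1 * s (finProdFinEquiv.symm q).2, fun c hc => ?_⟩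
  obtain ⟨j, hj⟩ := hs c hc
  obtain ⟨i, hi⟩ := hr _ hj
  refine ⟨finProdFinEquiv (i, j), ?_⟩
  simp only [Equiv.symm_apply_apply, mul_inv_rev, ← mul_assoc]
  exact hi

theorem Cov.mono {A B B' : Subgroup G} {n : ℕ} (h : Cov A B n) (hB : B' ≤ B) : Cov A B' n := by
  obtain ⟨r, hr⟩ := h
  exact ⟨r, fun b hb => hr b (hB hb)⟩

theorem Cov.mono_left {A A' B : Subgroup G} {n : ℕ} (h : Cov A B n) (hA : A ≤ A') : Cov A' B n := by
  obtain ⟨r, hr⟩ := h
  exact ⟨r, fun b hb => (hr b hb).imp fun _ hi => hA hi⟩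

/-- the index form -/
theorem Cov.index {A : Subgroup G} {n : ℕ} (h : Cov A ⊤ n) : A.index ≠ 0 ∧ A.index ≤ n := by
  obtain ⟨r, hr⟩ := h
  have hs : Function.Surjective (fun i => (QuotientGroup.mk (r i)⁻¹ : G ⧸ A)) := by
    intro q
    obtain ⟨g, rfl⟩ := QuotientGroup.mk_surjective q
    obtain ⟨i, hi⟩ := hr g⁻¹ (Subgroup.mem_top _)
    refine ⟨i, ?_⟩
    refine QuotientGroup.eq.2 ?_
    have := A.inv_mem hi
    rw [mul_inv_rev, inv_inv, inv_inv] at this
    rwa [inv_inv]
  have hfin : Finite (G ⧸ A) := Finite.of_surjective _ hs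
  refine ⟨?_, ?_⟩
  · have := Nat.card_pos (α := G ⧸ A)
    exact Nat.pos_iff_ne_zero.1 this
  · exact (Nat.card_le_card_of_surjective _ hs).trans_eq (by simp)

theorem Cov.card {n : ℕ} (h : Cov (⊥ : Subgroup G) ⊤ n) : Finite G ∧ Nat.card G ≤ n := by
  obtain ⟨r, hr⟩ := h
  have hs : Function.Surjective r := fun g => by
    obtain ⟨i, hi⟩ := hr g (Subgroup.mem_top g)
    exact ⟨i, (mul_inv_eq_one.1 ((Subgroup.mem_bot).1 hi)).symm⟩
  have := Finite.of_surjective r hs
  exact ⟨this, (Nat.card_le_card_of_surjective r hs).trans_eq (by simp)⟩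

/-- **Cover.** A checked table without unknown edges bounds the number of cosets. -/
theorem cov {A : Subgroup G} {x : ℕ → G} {chunk wd : ℕ → ℕ} {n k : ℕ}
    (hx : ∀ c, x c * x c = 1) (hk : k ≤ 7) (hn : 0 < n) (hn' : n < 65536)
    (hw : ∀ m, ValidW A x k (wd m))
    (h : ∀ i < n, chkNode chunk wd n i k = true) (hf : ∀ i < n, fullNode chunk i k = true) :
    Cov A (Subgroup.closure {g | ∃ c < k, g = x c}) n := by
  obtain ⟨rep, h0, hE⟩ := sound hx hk hn hn' hw h
  refine ⟨fun i => rep i, fun b hb => ?_⟩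
  have key : ∃ j < n, rep 0 * b * (rep j)⁻¹ ∈ A := by
    induction hb using Subgroup.closure_induction_right with
    | one => exact ⟨0, hn, by simp [A.one_mem]⟩
    | mul_right g y hg hy ih =>
      obtain ⟨c, hc, rfl⟩ := hy
      obtain ⟨i, hi, hi'⟩ := ih
      obtain ⟨m, hm⟩ := Nat.exists_eq_succ_of_ne_zero (fullNode_elim (hf i hi) c hc)
      obtain ⟨hm', hE'⟩ := hE i hi c hc m hm
      refine ⟨m, hm', ?_⟩
      have := A.mul_mem hi' hE'
      have e : rep 0 * g * (rep i)⁻¹ * (rep i * x c * (rep m)⁻¹) = rep 0 * (g * x c) * (rep m)⁻¹ := by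
        group
      rwa [e] at this
    | mul_inv_cancel g y hg hy ih =>
      obtain ⟨c, hc, rfl⟩ := hy
      rw [inv_eq_of_mul_eq_one_left (hx c)]
      obtain ⟨i, hi, hi'⟩ := ih
      obtain ⟨m, hm⟩ := Nat.exists_eq_succ_of_ne_zero (fullNode_elim (hf i hi) c hc)
      obtain ⟨hm', hE'⟩ := hE i hi c hc m hm
      refine ⟨m, hm', ?_⟩
      have := A.mul_mem hi' hE'
      have e : rep 0 * g * (rep i)⁻¹ * (rep i * x c * (rep m)⁻¹) = rep 0 * (g * x c) * (rep m)⁻¹ := by
        group
      rwa [e] at this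
  obtain ⟨j, hj, hj'⟩ := key
  exact ⟨⟨j, hj⟩, by simpa [h0] using hj'⟩

end Cfsg.Agent.SporadicB.CosetCert
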