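import Cfsg.Prelude.Def_Spor_He
import Cfsg.Agent.SporadicB.CosetCert
import Cfsg.Agent.SporadicB.HeTabSmall
import Cfsg.Agent.SporadicB.HeTab

/-!
The presented Held group is finite of order at most 4030387200 = 24990 * 2 * 672 * 120.

`J = ⟨c, d, f, g, bab⟩` has index at most 24990 (coset table), `K = ⟨c, d, f, g⟩` has index at most 2 in `J`
(`bab` normalises it), `M = ⟨c, d, e⟩` has index at most 672 in `K` (coset table; it needs `(cde)^5 = 1`, which holds
in `⟨a, b, c, d, e⟩`), and `M` has order at most 120.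
-/

set_option autoImplicit false

namespace Cfsg.Agent.SporadicB.HeUpper

open Cfsg.Agent.SporadicB.CosetCert Cfsg.Agent.SporadicB.HeTabSmall Cfsg.Agent.SporadicB.HeTab
open Cfsg.Spor

/-- the generator `u` -/
def gn (u : He.Gen) : Cfsg.Spor.He := PresentedGroup.of u

theorem mk_rel {r : FreeGroup He.Gen} (h : r ∈ coxRelators He.edges ∪ {r | r ∈ He.extra}) :
    (PresentedGroup.mk (coxRelators He.edges ∪ {r | r ∈ He.extra}) r : Cfsg.Spor.He) = 1 :=
  (QuotientGroup.eq_one_iff r).2 (Subgroup.subset_normalClosure h)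

theorem cox (u v : He.Gen) (m : ℕ) (hu : u ∈ coxNodes He.edges) (hv : v ∈ coxNodes He.edges)
    (hm : coxLabel He.edges u v = m) : (gn u * gn v) ^ m = 1 := by
  have := mk_rel (r := (FreeGroup.of u * FreeGroup.of v) ^ coxLabel He.edges u v)
    (Or.inl ⟨u, hu, v, hv, rfl⟩)
  rw [hm, map_pow, map_mul] at this
  exact this

theorem extra (r : FreeGroup He.Gen) (h : r ∈ He.extra) :
    (PresentedGroup.mk (coxRelators He.edges ∪ {r | r ∈ He.extra}) r : Cfsg.Spor.He) = 1 :=
  mk_rel (Or.inr h)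

/-- a -/ def a : Cfsg.Spor.He := gn .a
/-- b -/ def b : Cfsg.Spor.He := gn .b
/-- c -/ def c : Cfsg.Spor.He := gn .c
/-- d -/ def d : Cfsg.Spor.He := gn .d
/-- e -/ def e : Cfsg.Spor.He := gn .e
/-- f -/ def f : Cfsg.Spor.He := gn .f
/-- g -/ def g : Cfsg.Spor.He := gn .g

theorem sq (u : He.Gen) : gn u * gn u = 1 := by
  have := cox u u 1 (by cases u <;> decide) (by cases u <;> decide) (by cases u <;> decide)
  simpa using this

theorem aa : a * a = 1 := sq _
theorem bb : b * b = 1 := sq _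
theorem cc : c * c = 1 := sq _
theorem dd : d * d = 1 := sq _
theorem ee : e * e = 1 := sq _
theorem ff : f * f = 1 := sq _
theorem gg : g * g = 1 := sq _

theorem ab : (a * b) ^ 4 = 1 := cox _ _ 4 (by decide) (by decide) (by decide)
theorem bc : (b * c) ^ 3 = 1 := cox _ _ 3 (by decide) (by decide) (by decide)
theorem cd : (c * d) ^ 10 = 1 := cox _ _ 10 (by decide) (by decide) (by decide)
theorem de : (d * e) ^ 3 = 1 := cox _ _ 3 (by decide) (by decide) (by decide)
theorem df : (d * f) ^ 3 = 1 := cox _ _ 3 (by decide) (by decide) (by decide)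
theorem fg : (f * g) ^ 4 = 1 := cox _ _ 4 (by decide) (by decide) (by decide)
theorem dg : (d * g) ^ 3 = 1 := cox _ _ 3 (by decide) (by decide) (by decide)
theorem ac : (a * c) ^ 2 = 1 := cox _ _ 2 (by decide) (by decide) (by decide)
theorem ad : (a * d) ^ 2 = 1 := cox _ _ 2 (by decide) (by decide) (by decide)
theorem ae : (a * e) ^ 2 = 1 := cox _ _ 2 (by decide) (by decide) (by decide)
theorem af : (a * f) ^ 2 = 1 := cox _ _ 2 (by decide) (by decide) (by decide)
theorem ag : (a * g) ^ 2 = 1 := cox _ _ 2 (by decide) (by decide) (by decide)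
theorem bd : (b * d) ^ 2 = 1 := cox _ _ 2 (by decide) (by decide) (by decide)
theorem be : (b * e) ^ 2 = 1 := cox _ _ 2 (by decide) (by decide) (by decide)
theorem bf : (b * f) ^ 2 = 1 := cox _ _ 2 (by decide) (by decide) (by decide)
theorem bg : (b * g) ^ 2 = 1 := cox _ _ 2 (by decide) (by decide) (by decide)
theorem ce : (c * e) ^ 2 = 1 := cox _ _ 2 (by decide) (by decide) (by decide)
theorem cf : (c * f) ^ 2 = 1 := cox _ _ 2 (by decide) (by decide) (by decide)
theorem cg : (c * g) ^ 2 = 1 := cox _ _ 2 (by decide) (by decide) (by decide)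
theorem ef : (e * f) ^ 2 = 1 := cox _ _ 2 (by decide) (by decide) (by decide)
theorem eg : (e * g) ^ 2 = 1 := cox _ _ 2 (by decide) (by decide) (by decide)

theorem inv_of_sq {G : Type*} [Group G] {x : G} (h : x * x = 1) : x⁻¹ = x :=
  inv_eq_of_mul_eq_one_left h

theorem efg : e = (f * g) ^ 2 := by
  have := extra (He.e * ((He.f * He.g) ^ 2)⁻¹) (by simp [He.extra])
  rw [map_mul, map_inv, mul_inv_eq_one, map_pow, map_mul] at this
  exact this

theorem eabc : e = (a * b * c) ^ 3 := by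
  have := extra (He.e * ((He.a * He.b * He.c) ^ 3)⁻¹) (by simp [He.extra])
  rw [map_mul, map_inv, mul_inv_eq_one, map_pow, map_mul, map_mul] at this
  exact this

theorem acd : a = (c * d) ^ 5 := by
  have := extra (He.a * ((He.c * He.d) ^ 5)⁻¹) (by simp [He.extra])
  rw [map_mul, map_inv, mul_inv_eq_one, map_pow, map_mul] at this
  exact this

theorem cdfg : (c * d * f * g) ^ 4 = 1 := by
  have := extra ((He.c * He.d * He.f * He.g) ^ 4) (by simp [He.extra])
  rw [map_pow, map_mul, map_mul, map_mul] at this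
  exact this

/-- `x₁ … xₙ` from a list -/
def lx {G : Type*} [Group G] (l : List G) (n : ℕ) : G := l.getD n 1

theorem lx_sq {G : Type*} [Group G] {l : List G} (h : ∀ x ∈ l, x * x = 1) (n : ℕ) :
    lx l n * lx l n = 1 := by
  unfold lx
  rcases Nat.lt_or_ge n l.length with hn | hn
  · rw [List.getD_eq_getElem _ _ hn]
    exact h _ (List.getElem_mem hn)
  · rw [List.getD_eq_default _ _ hn, one_mul]

/-- all generators -/
noncomputable def x7 : ℕ → Cfsg.Spor.He := lx [a, b, c, d, e, f, g]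
/-- generators a, c, d, e, f, g -/
noncomputable def x6 : ℕ → Cfsg.Spor.He := lx [a, c, d, e, f, g]
/-- generators a, b, c, d, e -/
noncomputable def x5 : ℕ → Cfsg.Spor.He := lx [a, b, c, d, e]
/-- generators a, c, d, e -/
noncomputable def x4 : ℕ → Cfsg.Spor.He := lx [a, c, d, e]

theorem x7_sq (n : ℕ) : x7 n * x7 n = 1 :=
  lx_sq (by simp [aa, bb, cc, dd, ee, ff, gg]) n
theorem x6_sq (n : ℕ) : x6 n * x6 n = 1 :=
  lx_sq (by simp [aa, cc, dd, ee, ff, gg]) n
theorem x5_sq (n : ℕ) : x5 n * x5 n = 1 :=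
  lx_sq (by simp [aa, bb, cc, dd, ee]) n
theorem x4_sq (n : ℕ) : x4 n * x4 n = 1 :=
  lx_sq (by simp [aa, cc, dd, ee]) n

theorem comm_of_sq {x y : Cfsg.Spor.He} (hx : x * x = 1) (hy : y * y = 1) (h : (x * y) ^ 2 = 1) :
    x * y = y * x := by
  have h1 : x * y * (x * y) = 1 := by rw [← pow_two]; exact h
  have h2 := eq_inv_of_mul_eq_one_left h1
  rw [mul_inv_rev, inv_of_sq hx, inv_of_sq hy] at h2
  exact h2

theorem ev_pow {G : Type*} [Group G] (x : ℕ → G) (w : List ℕ) (n : ℕ) :
    ev x (List.flatten (List.replicate n w)) = ev x w ^ n := by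
  induction n with
  | zero => simp
  | succ n ih => rw [List.replicate_succ, List.flatten_cons, ev_append, ih, pow_succ']

theorem E1 : e * (g * f) ^ 2 = 1 := by
  have : (g * f) ^ 2 = ((f * g) ^ 2)⁻¹ := by
    rw [← inv_pow, mul_inv_rev, inv_of_sq ff, inv_of_sq gg]
  rw [this, ← efg, mul_inv_cancel]

theorem E2 : e * (c * (b * a)) ^ 3 = 1 := by
  have : (c * (b * a)) ^ 3 = ((a * b * c) ^ 3)⁻¹ := by
    rw [← inv_pow, mul_inv_rev, mul_inv_rev, inv_of_sq aa, inv_of_sq bb, inv_of_sq cc]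
  rw [this, ← eabc, mul_inv_cancel]

theorem E3 : a * (d * c) ^ 5 = 1 := by
  have : (d * c) ^ 5 = ((c * d) ^ 5)⁻¹ := by
    rw [← inv_pow, mul_inv_rev, inv_of_sq cc, inv_of_sq dd]
  rw [this, ← acd, mul_inv_cancel]

/-- repeated word -/
def rp (n : ℕ) (w : List ℕ) : List ℕ := List.flatten (List.replicate n w)

theorem ev_rp {G : Type*} [Group G] (x : ℕ → G) (w : List ℕ) (n : ℕ) :
    ev x (rp n w) = ev x w ^ n := ev_pow x w n

theorem jrels_eq : jrels = [rp 4 [0, 1], rp 3 [1, 2], rp 10 [2, 3], rp 3 [3, 4], rp 3 [3, 5],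
    rp 4 [5, 6], rp 3 [3, 6], rp 2 [0, 2], rp 2 [0, 3], rp 2 [0, 4], rp 2 [0, 5], rp 2 [0, 6],
    rp 2 [1, 3], rp 2 [1, 4], rp 2 [1, 5], rp 2 [1, 6], rp 2 [2, 4], rp 2 [2, 5], rp 2 [2, 6],
    rp 2 [4, 5], rp 2 [4, 6], 4 :: rp 2 [6, 5], 4 :: rp 3 [2, 1, 0], 0 :: rp 5 [3, 2],
    rp 4 [2, 3, 5, 6]] := by decide

theorem hj : ∀ r ∈ jrels, ev x7 r = 1 := by
  have h4 := cdfg
  rw [mul_assoc, mul_assoc] at h4
  rw [jrels_eq]
  simp only [List.forall_mem_cons, ev_cons, ev_rp, ev_nil, mul_one, x7, lx, List.getD_cons_zero,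
    List.getD_cons_succ]
  exact ⟨ab, bc, cd, de, df, fg, dg, ac, ad, ae, af, ag, bd, be, bf, bg, ce, cf, cg, ef, eg, E1, E2,
    E3, h4, fun _ h => absurd h (by simp)⟩

theorem krels_eq : krels = [rp 10 [1, 2], rp 3 [2, 3], rp 3 [2, 4], rp 4 [4, 5], rp 3 [2, 5],
    rp 2 [0, 1], rp 2 [0, 2], rp 2 [0, 3], rp 2 [0, 4], rp 2 [0, 5], rp 2 [1, 3], rp 2 [1, 4],
    rp 2 [1, 5], rp 2 [3, 4], rp 2 [3, 5], 3 :: rp 2 [5, 4], 0 :: rp 5 [2, 1],
    rp 4 [1, 2, 4, 5], rp 5 [1, 2, 3]] := by decide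

theorem mrels_eq : mrels = [rp 10 [1, 2], rp 3 [2, 3], rp 2 [0, 1], rp 2 [0, 2], rp 2 [0, 3],
    rp 2 [1, 3], 0 :: rp 5 [2, 1], rp 5 [1, 2, 3]] := by decide

theorem trels_eq : trels = [rp 4 [0, 1], rp 3 [1, 2], rp 10 [2, 3], rp 3 [3, 4], rp 2 [0, 2],
    rp 2 [0, 3], rp 2 [0, 4], rp 2 [1, 3], rp 2 [1, 4], rp 2 [2, 4], 4 :: rp 3 [2, 1, 0],
    0 :: rp 5 [3, 2]] := by decide

theorem ht : ∀ r ∈ trels, ev x5 r = 1 := by
  rw [trels_eq]
  simp only [List.forall_mem_cons, ev_cons, ev_rp, ev_nil, mul_one, x5, lx, List.getD_cons_zero,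
    List.getD_cons_succ]
  exact ⟨ab, bc, cd, de, ac, ad, ae, bd, be, ce, E2, E3, fun _ h => absurd h (by simp)⟩

/-- the extra relation, from the subgroup `⟨a, b, c, d, e⟩` -/
theorem cde : (c * (d * e)) ^ 5 = 1 := by
  have h := tloop0 (A := (⊥ : Subgroup Cfsg.Spor.He)) x5_sq ht (by simp [tsubs])
  rw [Subgroup.mem_bot] at h
  have e1 : tt0 = rp 5 [2, 3, 4] := by decide
  rw [e1] at h
  simpa only [ev_cons, ev_rp, ev_nil, mul_one, x5, lx, List.getD_cons_zero,
    List.getD_cons_succ] using h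

theorem hkr : ∀ r ∈ krels, ev x6 r = 1 := by
  have h4 := cdfg
  rw [mul_assoc, mul_assoc] at h4
  rw [krels_eq]
  simp only [List.forall_mem_cons, ev_cons, ev_rp, ev_nil, mul_one, x6, lx, List.getD_cons_zero,
    List.getD_cons_succ]
  exact ⟨cd, de, df, fg, dg, ac, ad, ae, af, ag, ce, cf, cg, ef, eg, E1, E3, h4, cde,
    fun _ h => absurd h (by simp)⟩

theorem hmr : ∀ r ∈ mrels, ev x4 r = 1 := by
  rw [mrels_eq]
  simp only [List.forall_mem_cons, ev_cons, ev_rp, ev_nil, mul_one, x4, lx, List.getD_cons_zero,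
    List.getD_cons_succ]
  exact ⟨cd, de, ac, ad, ae, ce, E3, cde, fun _ h => absurd h (by simp)⟩

/-- `J` -/
noncomputable def J : Subgroup Cfsg.Spor.He := Subgroup.closure {c, d, f, g, b * (a * b)}
/-- `K` -/
noncomputable def K : Subgroup Cfsg.Spor.He := Subgroup.closure {c, d, f, g}
/-- `M` -/
noncomputable def M : Subgroup Cfsg.Spor.He := Subgroup.closure {c, d, e}

theorem covJ : Cov J ⊤ 24990 := by
  have hs : ∀ r ∈ jsubs, ev x7 r ∈ J := by
    simp only [jsubs, List.forall_mem_cons, ev_cons, ev_nil, mul_one, x7, lx,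
      List.getD_cons_zero, List.getD_cons_succ]
    refine ⟨?_, ?_, ?_, ?_, ?_, fun _ h => absurd h (by simp)⟩ <;>
      exact Subgroup.subset_closure (by simp)
  refine (jcov x7_sq hj hs).mono ?_
  rw [← PresentedGroup.closure_range_of (coxRelators He.edges ∪ {r | r ∈ He.extra})]
  refine Subgroup.closure_mono ?_
  rintro _ ⟨u, rfl⟩
  cases u
  · exact ⟨0, by norm_num, rfl⟩
  · exact ⟨1, by norm_num, rfl⟩
  · exact ⟨2, by norm_num, rfl⟩
  · exact ⟨3, by norm_num, rfl⟩
  · exact ⟨4, by norm_num, rfl⟩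
  · exact ⟨5, by norm_num, rfl⟩
  · exact ⟨6, by norm_num, rfl⟩

theorem a_mem : a ∈ K := by
  have hc : c ∈ K := Subgroup.subset_closure (by simp)
  have hd : d ∈ K := Subgroup.subset_closure (by simp)
  rw [acd]; exact K.pow_mem (K.mul_mem hc hd) 5

theorem e_mem : e ∈ K := by
  have hf : f ∈ K := Subgroup.subset_closure (by simp)
  have hg : g ∈ K := Subgroup.subset_closure (by simp)
  rw [efg]; exact K.pow_mem (K.mul_mem hf hg) 2

theorem covM : Cov M K 672 := by
  have hs : ∀ r ∈ ksubs, ev x6 r ∈ M := by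
    simp only [ksubs, List.forall_mem_cons, ev_cons, ev_nil, mul_one, x6, lx,
      List.getD_cons_zero, List.getD_cons_succ]
    refine ⟨?_, ?_, ?_, fun _ h => absurd h (by simp)⟩ <;>
      exact Subgroup.subset_closure (by simp)
  refine (kcov x6_sq hkr hs).mono ?_
  rw [K, Subgroup.closure_le]
  intro y hy
  simp only [Set.mem_insert_iff, Set.mem_singleton_iff] at hy
  rcases hy with rfl | rfl | rfl | rfl
  · exact Subgroup.subset_closure ⟨1, by norm_num, rfl⟩
  · exact Subgroup.subset_closure ⟨2, by norm_num, rfl⟩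
  · exact Subgroup.subset_closure ⟨4, by norm_num, rfl⟩
  · exact Subgroup.subset_closure ⟨5, by norm_num, rfl⟩

theorem cov1 : Cov ⊥ M 120 := by
  refine (mcov x4_sq hmr (by simp [msubs])).mono ?_
  rw [M, Subgroup.closure_le]
  intro y hy
  simp only [Set.mem_insert_iff, Set.mem_singleton_iff] at hy
  rcases hy with rfl | rfl | rfl
  · exact Subgroup.subset_closure ⟨1, by norm_num, rfl⟩
  · exact Subgroup.subset_closure ⟨2, by norm_num, rfl⟩
  · exact Subgroup.subset_closure ⟨3, by norm_num, rfl⟩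

/-- `y = bab` -/
noncomputable def y : Cfsg.Spor.He := b * (a * b)

theorem yy : y * y = 1 := by
  unfold y
  calc b * (a * b) * (b * (a * b)) = b * (a * (b * b) * a) * b := by group
    _ = 1 := by rw [bb, mul_one, aa, mul_one, bb]

theorem ycy : y * c * y = a * e * c := by
  have h1 : b * c * b = c * b * c := by
    have h := bc
    have h' : b * c * b * (c * b * c) = 1 := by
      rw [← h]; simp only [pow_succ, pow_zero, one_mul, mul_assoc]
    have := eq_inv_of_mul_eq_one_left h'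
    rw [this, mul_inv_rev, mul_inv_rev, inv_of_sq bb, inv_of_sq cc, mul_assoc]
  have h2 : a * c = c * a := comm_of_sq aa cc ac
  have h3 : e = a * b * c * (a * b * c) * (a * b * c) := by
    rw [← pow_three', eabc.symm]
  calc y * c * y = b * a * (b * c * b) * a * b := by unfold y; simp only [mul_assoc]
    _ = b * a * (c * b * c) * a * b := by rw [h1]
    _ = b * (a * c) * b * (c * a) * b := by simp only [mul_assoc]
    _ = b * (c * a) * b * (c * a) * b := by rw [h2]
    _ = (a * a) * (b * (c * a) * b * (c * a) * b) * (c * c) := by rw [aa, cc, one_mul, mul_one]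
    _ = a * (a * b * c * (a * b * c) * (a * b * c)) * c := by simp only [mul_assoc]
    _ = a * e * c := by rw [← h3]

theorem y_comm {z : Cfsg.Spor.He} (hza : a * z = z * a) (hzb : b * z = z * b) : y * z * y = z * (y * y) := by
  have h : y * z = z * y := by
    unfold y
    rw [mul_assoc, mul_assoc, hzb, ← mul_assoc a z b, hza, mul_assoc z a b, ← mul_assoc b z, hzb,
      mul_assoc]
  rw [h, mul_assoc]

theorem y_norm : ∀ z ∈ ({c, d, f, g} : Set Cfsg.Spor.He), y * z * y ∈ K := by
  intro z hz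
  simp only [Set.mem_insert_iff, Set.mem_singleton_iff] at hz
  rcases hz with rfl | rfl | rfl | rfl
  · rw [ycy]
    exact K.mul_mem (K.mul_mem a_mem e_mem) (Subgroup.subset_closure (by simp))
  · rw [y_comm (comm_of_sq aa dd ad) (comm_of_sq bb dd bd), yy, mul_one]
    exact Subgroup.subset_closure (by simp)
  · rw [y_comm (comm_of_sq aa ff af) (comm_of_sq bb ff bf), yy, mul_one]
    exact Subgroup.subset_closure (by simp)
  · rw [y_comm (comm_of_sq aa gg ag) (comm_of_sq bb gg bg), yy, mul_one]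
    exact Subgroup.subset_closure (by simp)

theorem covK : Cov K J 2 := by
  have key : ∀ z ∈ J, z ∈ K ∨ z * y ∈ K := by
    intro z hz
    have stepK : ∀ w s, (w ∈ K ∨ w * y ∈ K) → s ∈ ({c, d, f, g} : Set Cfsg.Spor.He) →
        (w * s ∈ K ∨ w * s * y ∈ K) := by
      intro w s hw hs
      rcases hw with hw | hw
      · exact Or.inl (K.mul_mem hw (Subgroup.subset_closure hs))
      · right
        have h1 := K.mul_mem hw (y_norm s hs)
        have h2 : w * y * (y * s * y) = w * s * y := by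
          calc w * y * (y * s * y) = w * (y * y) * s * y := by simp only [mul_assoc]
            _ = w * s * y := by rw [yy, mul_one]
        rwa [h2] at h1
    have stepY : ∀ w, (w ∈ K ∨ w * y ∈ K) → (w * y ∈ K ∨ w * y * y ∈ K) := by
      intro w hw
      rcases hw with hw | hw
      · right; rw [mul_assoc, yy, mul_one]; exact hw
      · left; exact hw
    have step : ∀ w s, (w ∈ K ∨ w * y ∈ K) → s ∈ ({c, d, f, g, b * (a * b)} : Set Cfsg.Spor.He) →
        (w * s ∈ K ∨ w * s * y ∈ K) := by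
      intro w s hw hs
      by_cases h : s = y
      · rw [h]; exact stepY w hw
      · refine stepK w s hw ?_
        simp only [Set.mem_insert_iff, Set.mem_singleton_iff] at hs ⊢
        have : s ≠ b * (a * b) := h
        tauto
    have hinv : ∀ s ∈ ({c, d, f, g, b * (a * b)} : Set Cfsg.Spor.He), s⁻¹ = s := by
      intro s hs
      simp only [Set.mem_insert_iff, Set.mem_singleton_iff] at hs
      rcases hs with rfl | rfl | rfl | rfl | rfl
      · exact inv_of_sq cc
      · exact inv_of_sq dd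
      · exact inv_of_sq ff
      · exact inv_of_sq gg
      · exact inv_of_sq yy
    induction hz using Subgroup.closure_induction_right with
    | one => exact Or.inl K.one_mem
    | mul_right w _ s hs ih => exact step w s ih hs
    | mul_inv_cancel w _ s hs ih => rw [hinv s hs]; exact step w s ih hs
  refine ⟨![1, y], fun z hz => ?_⟩
  rcases key z hz with h | h
  · exact ⟨0, by simpa using h⟩
  · exact ⟨1, by simpa [inv_of_sq yy] using h⟩

/-- **The presented Held group has order at most 4030387200.** -/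
theorem card_he_le : Finite Cfsg.Spor.He ∧ Nat.card Cfsg.Spor.He ≤ 4030387200 :=
  (cov1.trans (covM.trans (covK.trans covJ))).card

end Cfsg.Agent.SporadicB.HeUpper
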