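import Cfsg.Agent.SporadicB.RuTits

set_option autoImplicit false
set_option maxRecDepth 100000
set_option exponentiation.threshold 5000

/-!
The automorphism group of the Rudvalis graph is simple (of order 145926144000).
-/

namespace Cfsg.Agent.SporadicB.RuSimple

open Cfsg.Agent.SporadicB.RuData Cfsg.Agent.SporadicB.RuOrder Cfsg.Agent.SporadicB.RuTitsData
open Cfsg.Agent.SporadicB.RuTits
open Cfsg.Agent.Lib.BitNet Cfsg.Agent.Lib.BitNetSimple
open MulAction

/-- a subgroup containing all the networks is everything -/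
theorem le_of_mem {K : Subgroup (Equiv.Perm (Fin 4060))} (hK : K ≤ H) (h0 : Mem K net0) (h1 : Mem K net1)
    (h2 : Mem K net2) (h3 : Mem K net3) (h4 : Mem K net4) (h5 : Mem K net5) : H ≤ K := by
  have f0 := @mem_inf_stabilizer 4060
  set K1 : Subgroup (Equiv.Perm (Fin 4060)) := K ⊓ stabilizer (Equiv.Perm (Fin 4060)) b1 with hK1
  set K2 : Subgroup (Equiv.Perm (Fin 4060)) := K1 ⊓ stabilizer (Equiv.Perm (Fin 4060)) b2 with hK2
  set K3 : Subgroup (Equiv.Perm (Fin 4060)) := K2 ⊓ stabilizer (Equiv.Perm (Fin 4060)) b3 with hK3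
  set K4 : Subgroup (Equiv.Perm (Fin 4060)) := K3 ⊓ stabilizer (Equiv.Perm (Fin 4060)) b4 with hK4
  have m10 : Mem K1 net0 := mem_inf_stabilizer h0 fix0.1
  have m11 : Mem K1 net1 := mem_inf_stabilizer h1 fix1.1
  have m12 : Mem K1 net2 := mem_inf_stabilizer h2 fix2.1
  have m13 : Mem K1 net3 := mem_inf_stabilizer h3 fix3.1
  have m14 : Mem K1 net4 := mem_inf_stabilizer h4 fix4
  have m20 : Mem K2 net0 := mem_inf_stabilizer m10 fix0.2.1
  have m21 : Mem K2 net1 := mem_inf_stabilizer m11 fix1.2.1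
  have m22 : Mem K2 net2 := mem_inf_stabilizer m12 fix2.2.1
  have m23 : Mem K2 net3 := mem_inf_stabilizer m13 fix3.2
  have m30 : Mem K3 net0 := mem_inf_stabilizer m20 fix0.2.2
  have m31 : Mem K3 net1 := mem_inf_stabilizer m21 fix1.2.2
  have m32 : Mem K3 net2 := mem_inf_stabilizer m22 fix2.2.2
  have g0 : ∀ g ∈ [net0, net1, net2, net3, net4, net5], Mem K g := by
    intro g hg
    simp only [List.mem_cons, List.not_mem_nil, or_false] at hg
    rcases hg with rfl | rfl | rfl | rfl | rfl | rfl <;> assumption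
  have g1 : ∀ g ∈ [net0, net1, net2, net3, net4], Mem K1 g := by
    intro g hg
    simp only [List.mem_cons, List.not_mem_nil, or_false] at hg
    rcases hg with rfl | rfl | rfl | rfl | rfl <;> assumption
  have g2 : ∀ g ∈ [net0, net1, net2, net3], Mem K2 g := by
    intro g hg
    simp only [List.mem_cons, List.not_mem_nil, or_false] at hg
    rcases hg with rfl | rfl | rfl | rfl <;> assumption
  have g3 : ∀ g ∈ [net0, net1, net2], Mem K3 g := by
    intro g hg
    simp only [List.mem_cons, List.not_mem_nil, or_false] at hg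
    rcases hg with rfl | rfl | rfl <;> assumption
  have l0 : 4060 * Nat.card K1 ≤ Nat.card K := lower_step (K := 12) (k := 8) g0 orb1
  have l1 : 2304 * Nat.card K2 ≤ Nat.card K1 := lower_step (K := 12) (k := 8) g1 orb2
  have l2 : 975 * Nat.card K3 ≤ Nat.card K2 := lower_step (K := 12) (k := 8) g2 orb3
  have l3 : 16 * Nat.card K4 ≤ Nat.card K3 := lower_step (K := 12) (k := 8) g3 orb4
  have l4 : 1 ≤ Nat.card K4 := Nat.card_pos
  have hc : Nat.card H ≤ Nat.card K := by
    rw [card_H]
    omega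
  exact (Subgroup.eq_of_le_of_card_ge hK hc).ge

/-! ### elements of order 7 and 29 -/

theorem ok0' : OkNet 4060 net0 := okNet_sound ok0
theorem ok1' : OkNet 4060 net1 := okNet_sound ok1
theorem ok2' : OkNet 4060 net2 := okNet_sound ok2
theorem ok3' : OkNet 4060 net3 := okNet_sound ok3
theorem ok4' : OkNet 4060 net4 := okNet_sound ok4
theorem ok5' : OkNet 4060 net5 := okNet_sound ok5

def w0 : List (ℕ × ℕ) := net0 ++ net5.reverse
def w1 : List (ℕ × ℕ) := (net0 ++ net1) ++ net5
def w4 : List (ℕ × ℕ) := (net4 ++ net1) ++ net5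
def w2 : List (ℕ × ℕ) := net2 ++ (net4 ++ net5)
def w3 : List (ℕ × ℕ) := net3 ++ (net1 ++ net5.reverse)

theorem mw0 : Mem H w0 := Mem.append mem0 (Mem.reverse mem5)
theorem mw1 : Mem H w1 := Mem.append (Mem.append mem0 mem1) mem5
theorem mw4 : Mem H w4 := Mem.append (Mem.append mem4 mem1) mem5
theorem mw2 : Mem H w2 := Mem.append mem2 (Mem.append mem4 mem5)
theorem mw3 : Mem H w3 := Mem.append mem3 (Mem.append mem1 (Mem.reverse mem5))

theorem p5 : (Nat.beq (powF net5 29 0) 0 && (Nat.beq (powF net5 29 29) 29 && (Nat.beq (powF net5 29 580) 580 &&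
  Nat.beq (powF net5 29 577) 577))) = true := by decide +kernel
theorem pw0 : (Nat.beq (powF w0 7 0) 0 && (Nat.beq (powF w0 7 29) 29 && (Nat.beq (powF w0 7 580) 580 &&
  Nat.beq (powF w0 7 577) 577))) = true := by decide +kernel
theorem pw1 : (Nat.beq (powF w1 7 0) 0 && (Nat.beq (powF w1 7 29) 29 && (Nat.beq (powF w1 7 580) 580 &&
  Nat.beq (powF w1 7 577) 577))) = true := by decide +kernel
theorem pw4 : (Nat.beq (powF w4 7 0) 0 && (Nat.beq (powF w4 7 29) 29 && (Nat.beq (powF w4 7 580) 580 &&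
  Nat.beq (powF w4 7 577) 577))) = true := by decide +kernel
theorem pw2 : (Nat.beq (powF w2 7 0) 0 && (Nat.beq (powF w2 7 29) 29 && (Nat.beq (powF w2 7 580) 580 &&
  Nat.beq (powF w2 7 577) 577))) = true := by decide +kernel
theorem pw3 : (Nat.beq (powF w3 7 0) 0 && (Nat.beq (powF w3 7 29) 29 && (Nat.beq (powF w3 7 580) 580 &&
  Nat.beq (powF w3 7 577) 577))) = true := by decide +kernel

/-! ### orbits of the point stabiliser -/

theorem orbS1 : Nat.beq (iterF [net0, net1, net2, net3, net4] 3 (Nat.pow 2 1968)) (row 0) = true := by decide +kernel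
theorem orbS2 : Nat.beq (iterF [net0, net1, net2, net3, net4] 5 (Nat.pow 2 29)) s2 = true := by decide +kernel
theorem coverH : Nat.beq ([row 0, s2].foldl Nat.lor (Nat.pow 2 0)) (Nat.sub (Nat.pow 2 4060) 1) = true := by
  decide +kernel
theorem sizesH : subsOk 12 4060 [row 0, s2] (Nat.pow 2 0) = true := by decide +kernel

theorem card_orbitH : Nat.card (orbit H b1) = 4060 := by
  have h := card_eq_orbit_mul H b1
  have h1 : Nat.card ↥(H ⊓ stabilizer (Equiv.Perm (Fin 4060)) b1) = 35942400 := card_H1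
  rw [card_H, h1] at h
  omega

theorem H_ne_bot : H ≠ ⊥ := by
  intro h
  have h1 := card_H
  rw [h, Subgroup.card_bot] at h1
  omega

/-- **The Rudvalis group is simple.** -/
theorem isSimpleGroup_H : IsSimpleGroup H := by
  apply isSimpleGroup_of_orbit H b1 H_ne_bot
  · intro g hg hfix
    apply Equiv.ext
    intro x
    apply hfix
    rw [orbit_b1]
    exact Set.mem_univ _
  · intro O hb hO hinv hd
    rw [card_orbitH] at hd ⊢
    refine block_of_subs (G := H) (b := b1) (L := 12) (S := 2 ^ 4060 - 1) (cs := [row 0, s2]) (by norm_num)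
      (Nat.sub_lt (Nat.two_pow_pos _) Nat.one_pos) (fun x _ => ?_) coverH ?_ sizesH O hb hO hinv hd
    · rw [Nat.testBit_two_pow_sub_one]
      simp
    · intro c hc
      simp only [List.mem_cons, List.not_mem_nil, or_false] at hc
      have key : ∀ (y : Fin 4060) (k c : ℕ),
          Nat.beq (iterF [net0, net1, net2, net3, net4] k (Nat.pow 2 y)) c = true →
          ∃ y : Fin 4060, ∀ x : Fin 4060, c.testBit x = true → ∃ g ∈ H, g b1 = b1 ∧ g y = x := by
        intro y k c h
        refine ⟨y, fun x hx => ?_⟩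
        obtain ⟨g, hg, hgx⟩ := exists_of_iterF (K := H1) gens1 h hx
        exact ⟨g, hg.1, hg.2, hgx⟩
      rcases hc with rfl | rfl
      · exact key ⟨1968, by norm_num⟩ 3 (row 0) orbS1
      · exact key ⟨29, by norm_num⟩ 5 s2 orbS2
  · intro K hKH _ hK
    have h1 : Nat.card ↥(H ⊓ stabilizer (Equiv.Perm (Fin 4060)) b1) = 35942400 := card_H1
    rw [h1] at hK
    have key : ∀ {l : List (ℕ × ℕ)} (h : Mem H l) (k : ℕ), Nat.Coprime k 35942400 → (Nat.beq (powF l k 0) 0 &&
        (Nat.beq (powF l k 29) 29 && (Nat.beq (powF l k 580) 580 && Nat.beq (powF l k 577) 577))) = true →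
        Mem K l := by
      intro l h k hk hp
      exact ⟨h.1, hK _ h.2 k hk (pow_eq_one h hp)⟩
    have n5 : Mem K net5 := key mem5 29 (by norm_num) p5
    have n0 : Mem K net0 := Mem.left ok0' (key mw0 7 (by norm_num) pw0) n5.reverse
    have n1 : Mem K net1 := Mem.right ok1' (Mem.left (okNet_append ok0' ok1') (key mw1 7 (by norm_num) pw1) n5) n0
    have n4 : Mem K net4 := Mem.left ok4' (Mem.left (okNet_append ok4' ok1') (key mw4 7 (by norm_num) pw4) n5) n1
    have n2 : Mem K net2 := Mem.left ok2' (key mw2 7 (by norm_num) pw2) (n4.append n5)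
    have n3 : Mem K net3 := Mem.left ok3' (key mw3 7 (by norm_num) pw3) (n1.append n5.reverse)
    exact le_of_mem hKH n0 n1 n2 n3 n4 n5

end Cfsg.Agent.SporadicB.RuSimple
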