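import Cfsg.Agent.SporadicB.RuData
import Cfsg.Agent.Lib.BitNetGroup
import Cfsg.Agent.SporadicB.RuInv.A
import Cfsg.Agent.SporadicB.RuInv.B
import Cfsg.Agent.SporadicB.RuInv.C

set_option autoImplicit false
set_option maxRecDepth 100000
set_option exponentiation.threshold 5000

/-!
The automorphism group of the Rudvalis graph on 4060 points has order 145926144000; orders of the pointwise
stabilisers of the base points 0, 29, 580.
-/

namespace Cfsg.Agent.SporadicB.RuOrder

open Cfsg.Agent.SporadicB.RuData Cfsg.Agent.Lib.BitNet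

theorem sym : symCheck 12 row = true := by decide +kernel
theorem inv0 : invCheck 12 row net0 = true := Cfsg.Agent.SporadicB.RuInv.inv0
theorem inv1 : invCheck 12 row net1 = true := Cfsg.Agent.SporadicB.RuInv.inv1
theorem inv2 : invCheck 12 row net2 = true := Cfsg.Agent.SporadicB.RuInv.inv2
theorem inv3 : invCheck 12 row net3 = true := Cfsg.Agent.SporadicB.RuInv.inv3
theorem inv4 : invCheck 12 row net4 = true := Cfsg.Agent.SporadicB.RuInv.inv4
theorem inv5 : invCheck 12 row net5 = true := Cfsg.Agent.SporadicB.RuInv.inv5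
theorem ok0 : okNet 4060 net0 = true := by decide +kernel
theorem ok1 : okNet 4060 net1 = true := by decide +kernel
theorem ok2 : okNet 4060 net2 = true := by decide +kernel
theorem ok3 : okNet 4060 net3 = true := by decide +kernel
theorem ok4 : okNet 4060 net4 = true := by decide +kernel
theorem ok5 : okNet 4060 net5 = true := by decide +kernel

/-- the Rudvalis group as a permutation group of degree 4060 -/
def H : Subgroup (Equiv.Perm (Fin 4060)) := Aut 4060 row

theorem mem0 : ∃ h : OkNet 4060 net0, perm h ∈ H :=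
  ⟨okNet_sound ok0, perm_mem_Aut (K := 12) (by norm_num) sym inv0 _⟩
theorem mem1 : ∃ h : OkNet 4060 net1, perm h ∈ H :=
  ⟨okNet_sound ok1, perm_mem_Aut (K := 12) (by norm_num) sym inv1 _⟩
theorem mem2 : ∃ h : OkNet 4060 net2, perm h ∈ H :=
  ⟨okNet_sound ok2, perm_mem_Aut (K := 12) (by norm_num) sym inv2 _⟩
theorem mem3 : ∃ h : OkNet 4060 net3, perm h ∈ H :=
  ⟨okNet_sound ok3, perm_mem_Aut (K := 12) (by norm_num) sym inv3 _⟩
theorem mem4 : ∃ h : OkNet 4060 net4, perm h ∈ H :=
  ⟨okNet_sound ok4, perm_mem_Aut (K := 12) (by norm_num) sym inv4 _⟩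
theorem mem5 : ∃ h : OkNet 4060 net5, perm h ∈ H :=
  ⟨okNet_sound ok5, perm_mem_Aut (K := 12) (by norm_num) sym inv5 _⟩

def cert : List Ins := [
  .base 0 0, .diff 2 0, .diff 0 2, .base 0 29, .diff 4 0, .base 0 580, .and 7 3, .diff 0 1, .diff 7 5, 
  .diff 0 3, .cnt 2 184, .and 1 0, .base 0 577, .diff 17 15, .diff 0 12, .diff 0 10, .and 0 3, 
  .cnt 10 224, .and 1 0, .and 5 17, .diff 0 15, .diff 0 8, .cnt 15 160, .and 1 0, .cnt 5 3, .and 1 0, 
  .and 30 28, .diff 0 25, .diff 0 23, .and 0 16, .cnt 23 176, .and 1 0, .cnt 13 1, .and 1 0, 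
  .diff 18 21, .cnt 28 192, .and 1 0, .cnt 18 0, .and 1 0, .and 24 34, .and 0 27, .and 0 23, .and 0 4, 
  .cnt 36 200, .and 3 0, .and 0 7, .and 29 10, .and 0 9, .and 21 46, .and 0 44, .diff 0 37, 
  .cnt 44 184, .and 1 0, .cnt 34 5, .and 1 0, .and 5 42, .and 0 20, .and 0 3, .diff 29 45, .and 0 28, 
  .and 0 22, .and 5 38, .cnt 43 4, .and 1 0, .diff 24 51, .cnt 58 208, .and 1 0, .and 0 13, .and 3 24, 
  .and 0 31, .diff 21 65, .diff 0 58, .cnt 65 183, .and 1 0, .and 0 36, .and 10 57, .and 0 38, 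
  .and 57 72, .and 0 65, .and 0 43, .and 0 26, .and 10 68, .cnt 75 167, .and 1 0, .and 0 51, 
  .and 64 72, .and 0 63, .and 0 54, .and 66 36, .and 0 35, .row 64 58, .row 57 160, .row 53 512, 
  .row 50 709, .row 48 2551, .row 47 2818, .row 41 2949, .row 39 3323, .row 37 976, .row 35 3095, 
  .row 32 3332, .row 31 1990, .row 27 3117, .row 26 1494, .row 23 1032, .row 20 985, .row 18 1232, 
  .row 17 1628]

theorem ubok : ub 12 4060 row cert [Nat.sub (Nat.pow 2 4060) 1] = some 145926144000 := by decide +kernel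

theorem card_le : Nat.card H ≤ 145926144000 := by
  refine ub_sound (K := 12) (by norm_num) cert _ _ ubok H le_rfl (fun σ _ x hx => ?_)
  rw [List.mem_singleton] at hx
  subst hx
  intro i
  change (2 ^ 4060 - 1).testBit _ = (2 ^ 4060 - 1).testBit _
  rw [Nat.testBit_two_pow_sub_one, Nat.testBit_two_pow_sub_one]
  simp

/-! base points -/
def b1 : Fin 4060 := ⟨0, by norm_num⟩
def b2 : Fin 4060 := ⟨29, by norm_num⟩
def b3 : Fin 4060 := ⟨580, by norm_num⟩
def b4 : Fin 4060 := ⟨577, by norm_num⟩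

def H1 : Subgroup (Equiv.Perm (Fin 4060)) := H ⊓ MulAction.stabilizer (Equiv.Perm (Fin 4060)) b1
def H2 : Subgroup (Equiv.Perm (Fin 4060)) := H1 ⊓ MulAction.stabilizer (Equiv.Perm (Fin 4060)) b2
def H3 : Subgroup (Equiv.Perm (Fin 4060)) := H2 ⊓ MulAction.stabilizer (Equiv.Perm (Fin 4060)) b3
def H4 : Subgroup (Equiv.Perm (Fin 4060)) := H3 ⊓ MulAction.stabilizer (Equiv.Perm (Fin 4060)) b4

theorem orb1 : Nat.ble 4060 (popc 12 (iter [net0, net1, net2, net3, net4, net5] 8 (Nat.pow 2 0))) = true := by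
  decide +kernel
theorem orb2 : Nat.ble 2304 (popc 12 (iter [net0, net1, net2, net3, net4] 8 (Nat.pow 2 29))) = true := by
  decide +kernel
theorem orb3 : Nat.ble 975 (popc 12 (iter [net0, net1, net2, net3] 8 (Nat.pow 2 580))) = true := by decide +kernel
theorem orb4 : Nat.ble 16 (popc 12 (iter [net0, net1, net2] 8 (Nat.pow 2 577))) = true := by decide +kernel

theorem fix0 : app net0 0 = 0 ∧ app net0 29 = 29 ∧ app net0 580 = 580 := by decide +kernel
theorem fix1 : app net1 0 = 0 ∧ app net1 29 = 29 ∧ app net1 580 = 580 := by decide +kernel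
theorem fix2 : app net2 0 = 0 ∧ app net2 29 = 29 ∧ app net2 580 = 580 := by decide +kernel
theorem fix3 : app net3 0 = 0 ∧ app net3 29 = 29 := by decide +kernel
theorem fix4 : app net4 0 = 0 := by decide +kernel

theorem mem1_0 : ∃ h : OkNet 4060 net0, perm h ∈ H1 := mem_inf_stabilizer mem0 fix0.1
theorem mem1_1 : ∃ h : OkNet 4060 net1, perm h ∈ H1 := mem_inf_stabilizer mem1 fix1.1
theorem mem1_2 : ∃ h : OkNet 4060 net2, perm h ∈ H1 := mem_inf_stabilizer mem2 fix2.1
theorem mem1_3 : ∃ h : OkNet 4060 net3, perm h ∈ H1 := mem_inf_stabilizer mem3 fix3.1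
theorem mem1_4 : ∃ h : OkNet 4060 net4, perm h ∈ H1 := mem_inf_stabilizer mem4 fix4
theorem mem2_0 : ∃ h : OkNet 4060 net0, perm h ∈ H2 := mem_inf_stabilizer mem1_0 fix0.2.1
theorem mem2_1 : ∃ h : OkNet 4060 net1, perm h ∈ H2 := mem_inf_stabilizer mem1_1 fix1.2.1
theorem mem2_2 : ∃ h : OkNet 4060 net2, perm h ∈ H2 := mem_inf_stabilizer mem1_2 fix2.2.1
theorem mem2_3 : ∃ h : OkNet 4060 net3, perm h ∈ H2 := mem_inf_stabilizer mem1_3 fix3.2
theorem mem3_0 : ∃ h : OkNet 4060 net0, perm h ∈ H3 := mem_inf_stabilizer mem2_0 fix0.2.2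
theorem mem3_1 : ∃ h : OkNet 4060 net1, perm h ∈ H3 := mem_inf_stabilizer mem2_1 fix1.2.2
theorem mem3_2 : ∃ h : OkNet 4060 net2, perm h ∈ H3 := mem_inf_stabilizer mem2_2 fix2.2.2

theorem gens0 : ∀ g ∈ [net0, net1, net2, net3, net4, net5], ∃ h : OkNet 4060 g, perm h ∈ H := by
  intro g hg
  simp only [List.mem_cons, List.not_mem_nil, or_false] at hg
  rcases hg with rfl | rfl | rfl | rfl | rfl | rfl
  exacts [mem0, mem1, mem2, mem3, mem4, mem5]

theorem gens1 : ∀ g ∈ [net0, net1, net2, net3, net4], ∃ h : OkNet 4060 g, perm h ∈ H1 := by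
  intro g hg
  simp only [List.mem_cons, List.not_mem_nil, or_false] at hg
  rcases hg with rfl | rfl | rfl | rfl | rfl
  exacts [mem1_0, mem1_1, mem1_2, mem1_3, mem1_4]

theorem gens2 : ∀ g ∈ [net0, net1, net2, net3], ∃ h : OkNet 4060 g, perm h ∈ H2 := by
  intro g hg
  simp only [List.mem_cons, List.not_mem_nil, or_false] at hg
  rcases hg with rfl | rfl | rfl | rfl
  exacts [mem2_0, mem2_1, mem2_2, mem2_3]

theorem gens3 : ∀ g ∈ [net0, net1, net2], ∃ h : OkNet 4060 g, perm h ∈ H3 := by
  intro g hg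
  simp only [List.mem_cons, List.not_mem_nil, or_false] at hg
  rcases hg with rfl | rfl | rfl
  exacts [mem3_0, mem3_1, mem3_2]

theorem low0 : 4060 * Nat.card H1 ≤ Nat.card H := lower_step (K := 12) (k := 8) gens0 orb1
theorem low1 : 2304 * Nat.card H2 ≤ Nat.card H1 := lower_step (K := 12) (k := 8) gens1 orb2
theorem low2 : 975 * Nat.card H3 ≤ Nat.card H2 := lower_step (K := 12) (k := 8) gens2 orb3
theorem low3 : 16 * Nat.card H4 ≤ Nat.card H3 := lower_step (K := 12) (k := 8) gens3 orb4

theorem low4 : 1 ≤ Nat.card H4 := Nat.card_pos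

theorem card_H4 : Nat.card H4 = 1 := by
  have := card_le; have := low0; have := low1; have := low2; have := low3; have := low4
  omega

theorem card_H3 : Nat.card H3 = 16 := by
  have := card_le; have := low0; have := low1; have := low2; have := low3; have := low4
  omega

theorem card_H2 : Nat.card H2 = 15600 := by
  have := card_le; have := low0; have := low1; have := low2; have := low3; have := low4
  omega

theorem card_H1 : Nat.card H1 = 35942400 := by
  have := card_le; have := low0; have := low1; have := low2; have := low3; have := low4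
  omega

/-- the order of the Rudvalis group -/
theorem card_H : Nat.card H = 145926144000 := by
  have := card_le; have := low0; have := low1; have := low2; have := low3; have := low4
  omega

theorem orbit_b1 : MulAction.orbit H b1 = Set.univ := by
  rw [Set.eq_univ_iff_ncard]
  apply le_antisymm
  · exact Set.ncard_le_card _
  · have h1 : 4060 ≤ Nat.card (MulAction.orbit H b1) := orbit_card_ge (K := 12) (k := 8) gens0 orb1
    rw [Nat.card_coe_set_eq] at h1
    simpa using h1

theorem isPretransitive : MulAction.IsPretransitive H (Fin 4060) := by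
  refine ⟨fun x y => ?_⟩
  have hx : x ∈ MulAction.orbit H b1 := by rw [orbit_b1]; exact Set.mem_univ _
  have hy : y ∈ MulAction.orbit H b1 := by rw [orbit_b1]; exact Set.mem_univ _
  obtain ⟨g, rfl⟩ := hx
  obtain ⟨k, rfl⟩ := hy
  exact ⟨k * g⁻¹, by simp only [mul_smul, inv_smul_smul]⟩

theorem card_stabilizer (x : Fin 4060) : Nat.card (MulAction.stabilizer H x) = 35942400 := by
  have := isPretransitive
  have h1 := (MulAction.stabilizer H x).index_mul_card
  rw [MulAction.index_stabilizer_of_transitive, card_H] at h1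
  have h2 : Nat.card (Fin 4060) = 4060 := by simp
  rw [h2] at h1
  omega

end Cfsg.Agent.SporadicB.RuOrder
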