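import Cfsg.Agent.SporadicB.DoubleCover

/-!
A central extension of the alternating group of degree `n ≥ 4` by a group of order two generated by
a commutator is a non-split double cover; for degree 8 it has two distinct involutions.
-/

set_option autoImplicit false

namespace Cfsg.Agent.SporadicB.DoubleCoverEight

open Equiv Equiv.Perm commutatorElement

/-- A central extension by a group of order two of a group containing an elementary abelian
subgroup of order 8 has at least two involutions. -/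
theorem exists_two_involutions {Γ K : Type*} [Group Γ] [Group K] (f : Γ →* K)
    (hf : Function.Surjective f) (z : Γ) (hz : z ∈ Subgroup.center Γ) (hz2 : orderOf z = 2)
    (hker : ∀ g : Γ, f g = 1 → g = 1 ∨ g = z) (hfz : f z = 1)
    (a b c : K) (ha : orderOf a = 2) (hb : orderOf b = 2) (hc : orderOf c = 2)
    (hab : orderOf (a * b) = 2) (hac : orderOf (a * c) = 2) (hbc : orderOf (b * c) = 2)
    (habc : orderOf (a * (b * c)) = 2) :
    ∃ x y : Γ, x ≠ y ∧ orderOf x = 2 ∧ orderOf y = 2 := by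
  by_contra hcon
  push Not at hcon
  have huniq : ∀ x : Γ, orderOf x = 2 → x = z := by
    intro x hx
    by_contra hne
    exact hcon x z hne hx hz2
  have hzz : z * z = 1 := by rw [← pow_two, ← hz2, pow_orderOf_eq_one]
  have hz1 : z ≠ 1 := by
    rintro rfl
    rw [orderOf_one] at hz2
    exact absurd hz2 (by norm_num)
  have hcomm : ∀ g : Γ, g * z = z * g := fun g => Subgroup.mem_center_iff.mp hz g
  have hlift : ∀ X : Γ, orderOf (f X) = 2 → X * X = z := by
    intro X hX
    have h1 : f (X * X) = 1 := by rw [map_mul, ← pow_two, ← hX, pow_orderOf_eq_one]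
    rcases hker _ h1 with h | h
    · exfalso
      have hX1 : X ≠ 1 := by
        rintro rfl
        rw [map_one, orderOf_one] at hX
        exact absurd hX (by norm_num)
      have hX2 : orderOf X = 2 := orderOf_eq_prime (by rw [pow_two, h]) hX1
      rw [huniq X hX2, hfz, orderOf_one] at hX
      exact absurd hX (by norm_num)
    · exact h
  have hanti : ∀ X Y : Γ, orderOf (f X) = 2 → orderOf (f Y) = 2 → orderOf (f X * f Y) = 2 →
      X * Y = z * (Y * X) := by
    intro X Y hX hY hXY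
    have h1 := hlift X hX
    have h2 := hlift Y hY
    have h3 := hlift (X * Y) (by rw [map_mul]; exact hXY)
    have e1 : (X * Y) * (z * (Y * X)) = 1 * ((X * Y) * (X * Y)) := by
      rw [h3, one_mul]
      calc X * Y * (z * (Y * X)) = X * (Y * z) * (Y * X) := by group
        _ = X * (z * Y) * (Y * X) := by rw [hcomm Y]
        _ = (X * z) * (Y * Y) * X := by group
        _ = (z * X) * z * X := by rw [h2, hcomm X]
        _ = z * (X * z) * X := by group
        _ = z * (z * X) * X := by rw [hcomm X]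
        _ = (z * z) * (X * X) := by group
        _ = z := by rw [hzz, h1, one_mul]
    rw [one_mul] at e1
    exact (mul_left_cancel e1).symm
  obtain ⟨X, rfl⟩ := hf a
  obtain ⟨Y, rfl⟩ := hf b
  obtain ⟨W, rfl⟩ := hf c
  have h1 := hanti X Y ha hb hab
  have h2 := hanti X W ha hc hac
  have h3 := hanti X (Y * W) ha (by rw [map_mul]; exact hbc) (by rw [map_mul]; exact habc)
  apply hz1
  have e1 : X * (Y * W) = (Y * W) * X := by
    calc X * (Y * W) = (X * Y) * W := by group
      _ = z * Y * (X * W) := by rw [h1]; group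
      _ = z * (Y * z) * W * X := by rw [h2]; group
      _ = z * (z * Y) * W * X := by rw [hcomm Y]
      _ = (z * z) * (Y * W * X) := by group
      _ = (Y * W) * X := by rw [hzz, one_mul]
  rw [e1] at h3
  have e2 : z * (Y * W * X) = 1 * (Y * W * X) := by rw [one_mul]; exact h3.symm
  exact mul_right_cancel e2

/-- A central extension of `A_n`, `n ≥ 4`, by a group of order two contained in the commutator
subgroup is a non-split double cover. -/
theorem isNonsplitDoubleCover {n : ℕ} (hn : 4 ≤ n) {Γ : Type*} [Group Γ] (z : Γ)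
    (hz : z ∈ Subgroup.center Γ) (hz2 : orderOf z = 2) (hzc : z ∈ commutator Γ)
    (f : Γ →* alternatingGroup (Fin n)) (hf : Function.Surjective f)
    (hker : ∀ g : Γ, f g = 1 ↔ g = 1 ∨ g = z) :
    Cfsg.IsNonsplitDoubleCover Γ (alternatingGroup (Fin n)) := by
  have hcen : ∀ g : Γ, g ∈ Subgroup.center Γ ↔ f g = 1 := by
    intro g
    constructor
    · intro hg
      have h1 : f g ∈ Subgroup.center (alternatingGroup (Fin n)) := by
        rw [Subgroup.mem_center_iff]
        intro k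
        obtain ⟨h, rfl⟩ := hf k
        rw [← map_mul, ← map_mul, Subgroup.mem_center_iff.mp hg h]
      rw [alternatingGroup.center_eq_bot (by simpa using hn)] at h1
      exact h1
    · intro hg
      rcases (hker g).mp hg with rfl | rfl
      · exact one_mem _
      · exact hz
  have hz1 : z ≠ 1 := by
    rintro rfl
    rw [orderOf_one] at hz2
    exact absurd hz2 (by norm_num)
  have hkereq : f.ker = Subgroup.center Γ := by
    ext g
    rw [MonoidHom.mem_ker, hcen]
  refine ⟨?_, ?_, ?_⟩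
  · rw [Nat.card_eq_two_iff' (1 : Subgroup.center Γ)]
    refine ⟨⟨z, hz⟩, fun h => hz1 (congrArg Subtype.val h), ?_⟩
    rintro ⟨y, hy⟩ hy1
    rcases (hker y).mp ((hcen y).mp hy) with rfl | rfl
    · exact absurd rfl hy1
    · rfl
  · exact ⟨(QuotientGroup.quotientMulEquivOfEq hkereq.symm).trans
      (QuotientGroup.quotientKerEquivOfSurjective f hf)⟩
  · intro L hL
    have hle : commutator Γ ≤ L := by
      rw [commutator_def, Subgroup.commutator_le]
      intro g₁ _ g₂ _
      obtain ⟨⟨⟨c₁, hc₁⟩, ⟨l₁, hl₁⟩⟩, rfl⟩ := hL.surjective g₁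
      obtain ⟨⟨⟨c₂, hc₂⟩, ⟨l₂, hl₂⟩⟩, rfl⟩ := hL.surjective g₂
      have h1 : ⁅c₁ * l₁, c₂ * l₂⁆ = ⁅l₁, l₂⁆ := by
        have e1 := Subgroup.mem_center_iff.mp hc₁
        have e2 := Subgroup.mem_center_iff.mp hc₂
        rw [commutatorElement_def, commutatorElement_def]
        calc c₁ * l₁ * (c₂ * l₂) * (c₁ * l₁)⁻¹ * (c₂ * l₂)⁻¹
            = c₁ * (l₁ * c₂) * l₂ * l₁⁻¹ * c₁⁻¹ * l₂⁻¹ * c₂⁻¹ := by group
          _ = c₁ * (c₂ * l₁) * l₂ * l₁⁻¹ * c₁⁻¹ * l₂⁻¹ * c₂⁻¹ := by rw [e2 l₁]
          _ = c₁ * (c₂ * (l₁ * l₂ * l₁⁻¹ * c₁⁻¹ * l₂⁻¹)) * c₂⁻¹ := by group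
          _ = c₁ * ((l₁ * l₂ * l₁⁻¹ * c₁⁻¹ * l₂⁻¹) * c₂) * c₂⁻¹ := by rw [e2]
          _ = (c₁ * (l₁ * l₂ * l₁⁻¹)) * c₁⁻¹ * l₂⁻¹ := by group
          _ = ((l₁ * l₂ * l₁⁻¹) * c₁) * c₁⁻¹ * l₂⁻¹ := by rw [e1]
          _ = l₁ * l₂ * l₁⁻¹ * l₂⁻¹ := by group
      change ⁅c₁ * l₁, c₂ * l₂⁆ ∈ L
      rw [h1, commutatorElement_def]
      exact L.mul_mem (L.mul_mem (L.mul_mem hl₁ hl₂) (L.inv_mem hl₁)) (L.inv_mem hl₂)
    exact hz1 (Subgroup.disjoint_def.mp hL.disjoint hz (hle hzc))

theorem alt_mem {n : ℕ} (a b c d : Fin n) (h1 : a ≠ b) (h2 : c ≠ d) :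
    swap a b * swap c d ∈ alternatingGroup (Fin n) := by
  rw [mem_alternatingGroup, map_mul, sign_swap h1, sign_swap h2]
  decide

/-- The case of degree 8. -/
theorem degree_eight {Γ : Type*} [Group Γ] (z : Γ)
    (hz : z ∈ Subgroup.center Γ) (hz2 : orderOf z = 2) (hzc : z ∈ commutator Γ)
    (f : Γ →* alternatingGroup (Fin 8)) (hf : Function.Surjective f)
    (hker : ∀ g : Γ, f g = 1 ↔ g = 1 ∨ g = z) :
    Cfsg.IsNonsplitDoubleCover Γ (alternatingGroup (Fin 8)) ∧
      ∃ x y : Γ, x ≠ y ∧ orderOf x = 2 ∧ orderOf y = 2 := by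
  refine ⟨isNonsplitDoubleCover (by norm_num) z hz hz2 hzc f hf hker, ?_⟩
  exact exists_two_involutions f hf z hz hz2 (fun g hg => (hker g).mp hg) ((hker z).mpr (Or.inr rfl))
    ⟨swap 0 1 * swap 2 3, alt_mem _ _ _ _ (by decide) (by decide)⟩
    ⟨swap 0 2 * swap 1 3, alt_mem _ _ _ _ (by decide) (by decide)⟩
    ⟨swap 4 5 * swap 6 7, alt_mem _ _ _ _ (by decide) (by decide)⟩
    (orderOf_eq_prime (by decide) (by decide)) (orderOf_eq_prime (by decide) (by decide))
    (orderOf_eq_prime (by decide) (by decide)) (orderOf_eq_prime (by decide) (by decide))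
    (orderOf_eq_prime (by decide) (by decide)) (orderOf_eq_prime (by decide) (by decide))
    (orderOf_eq_prime (by decide) (by decide))

/-- From the statement of `S0891` for `n = 8`. -/
theorem of_double_cover
    (h : ∃ (Γ : Type) (_ : Group Γ) (_ : Finite Γ) (z : Γ) (hz : z ∈ Subgroup.center Γ),
      orderOf z = 2 ∧ z ∈ commutator Γ ∧ ∃ _ : (Subgroup.zpowers z).Normal,
        Nonempty (Γ ⧸ Subgroup.zpowers z ≃* alternatingGroup (Fin 8))) :
    ∃ (H : Type) (_ : Group H) (_ : Finite H),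
      Cfsg.IsNonsplitDoubleCover H (alternatingGroup (Fin 8)) ∧
        ∃ x y : H, x ≠ y ∧ orderOf x = 2 ∧ orderOf y = 2 := by
  classical
  obtain ⟨Γ, hG, hF, z, hz, hz2, hzc, hN, ⟨e⟩⟩ := h
  refine ⟨Γ, hG, hF, degree_eight z hz hz2 hzc
    (e.toMonoidHom.comp (QuotientGroup.mk' (Subgroup.zpowers z)))
    (e.surjective.comp (QuotientGroup.mk'_surjective _)) ?_⟩
  intro g
  change e (g : Γ ⧸ Subgroup.zpowers z) = 1 ↔ _
  rw [e.map_eq_one_iff, QuotientGroup.eq_one_iff]
  constructor
  · intro hg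
    obtain ⟨k, hk⟩ := (mem_zpowers_iff_mem_range_orderOf.mp hg) |> Finset.mem_image.mp
    rw [hz2] at hk
    obtain ⟨hk1, hk2⟩ := hk
    rw [Finset.mem_range] at hk1
    interval_cases k
    · left; rw [← hk2, pow_zero]
    · right; rw [← hk2, pow_one]
  · rintro (rfl | rfl)
    · exact one_mem _
    · exact Subgroup.mem_zpowers _

end Cfsg.Agent.SporadicB.DoubleCoverEight
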