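import Mathlib

/-!
Recognising a subgroup of order 8160 (`L₂(16):2`) inside an arbitrary group from a few relations between four
elements `u` (an involution of the unipotent radical), `t` (a generator of the torus of order 15), `f` (the field
involution) and `n` (the Weyl involution).  Used for `J₃` acting on 6156 points.
-/

set_option autoImplicit false

namespace Cfsg.Agent.SporadicB.L216Two

open Pointwise

/-- The relations used. -/
structure Rel {G : Type*} [Group G] (u t f n : G) : Prop where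
  uu : u * u = 1
  tt : t ^ 15 = 1
  ff : f * f = 1
  nn : n * n = 1
  ftf : f * t * f = t ^ 4
  fu : f * u = u * f
  ntn : n * t * n = t⁻¹
  nf : n * f = f * n
  nun : n * u * n = u * n * u
  zech : ∀ k : ℕ, 0 < k → k < 15 → ∃ m : ℕ, u * (t ^ k * u * (t ^ k)⁻¹) = t ^ m * u * (t ^ m)⁻¹

theorem Rel.map {G H : Type*} [Group G] [Group H] {u t f n : G} (h : Rel u t f n) (φ : G →* H) :
    Rel (φ u) (φ t) (φ f) (φ n) where
  uu := by rw [← map_mul, h.uu, map_one]
  tt := by rw [← map_pow, h.tt, map_one]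
  ff := by rw [← map_mul, h.ff, map_one]
  nn := by rw [← map_mul, h.nn, map_one]
  ftf := by rw [← map_mul, ← map_mul, h.ftf, map_pow]
  fu := by rw [← map_mul, h.fu, map_mul]
  ntn := by rw [← map_mul, ← map_mul, h.ntn, map_inv]
  nf := by rw [← map_mul, h.nf, map_mul]
  nun := by rw [← map_mul, ← map_mul, h.nun, map_mul, map_mul]
  zech := by
    intro k hk hk'
    obtain ⟨m, hm⟩ := h.zech k hk hk'
    refine ⟨m, ?_⟩
    have := congrArg φ hm
    simpa only [map_mul, map_pow, map_inv] using this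

theorem Rel.of_map {G H : Type*} [Group G] [Group H] {u t f n : G} (φ : G →* H)
    (hφ : Function.Injective φ) (h : Rel (φ u) (φ t) (φ f) (φ n)) : Rel u t f n where
  uu := hφ (by rw [map_mul, h.uu, map_one])
  tt := hφ (by rw [map_pow, h.tt, map_one])
  ff := hφ (by rw [map_mul, h.ff, map_one])
  nn := hφ (by rw [map_mul, h.nn, map_one])
  ftf := hφ (by rw [map_mul, map_mul, h.ftf, map_pow])
  fu := hφ (by rw [map_mul, h.fu, map_mul])
  ntn := hφ (by rw [map_mul, map_mul, h.ntn, map_inv])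
  nf := hφ (by rw [map_mul, h.nf, map_mul])
  nun := hφ (by rw [map_mul, map_mul, h.nun, map_mul, map_mul])
  zech := by
    intro k hk hk'
    obtain ⟨m, hm⟩ := h.zech k hk hk'
    refine ⟨m, hφ ?_⟩
    simpa only [map_mul, map_pow, map_inv] using hm

variable {G : Type*} [Group G] {u t f n : G}

/-- The conjugates of `u` under the torus. -/
def c (u t : G) (k : ℤ) : G := t ^ k * u * t ^ (-k)

theorem c_def (u t : G) (k : ℤ) : c u t k = t ^ k * u * t ^ (-k) := rfl

theorem c_zero (u t : G) : c u t 0 = u := by simp [c_def]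

theorem c_natCast (u t : G) (k : ℕ) : c u t (k : ℤ) = t ^ k * u * (t ^ k)⁻¹ := by
  rw [c_def, zpow_neg, zpow_natCast]

theorem t_mul_c (u t : G) (j k : ℤ) : t ^ j * c u t k = c u t (j + k) * t ^ j := by
  rw [c_def, c_def, neg_add, zpow_add, zpow_add]
  group

theorem c_conj (u t : G) (j k : ℤ) : t ^ j * c u t k * t ^ (-j) = c u t (j + k) := by
  rw [t_mul_c, mul_assoc, ← zpow_add, add_neg_cancel, zpow_zero, mul_one]

namespace Rel

theorem inv_u (h : Rel u t f n) : u⁻¹ = u := inv_eq_of_mul_eq_one_left h.uu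
theorem inv_f (h : Rel u t f n) : f⁻¹ = f := inv_eq_of_mul_eq_one_left h.ff
theorem inv_n (h : Rel u t f n) : n⁻¹ = n := inv_eq_of_mul_eq_one_left h.nn

theorem zpow_emod (h : Rel u t f n) (k : ℤ) : t ^ (k % 15) = t ^ k := by
  conv_rhs => rw [← Int.emod_add_mul_ediv k 15, zpow_add, zpow_mul]
  have : t ^ (15 : ℤ) = 1 := by exact_mod_cast h.tt
  rw [this, one_zpow, mul_one]

theorem c_emod (h : Rel u t f n) (k : ℤ) : c u t (k % 15) = c u t k := by
  rw [c_def, c_def, zpow_neg, zpow_neg, h.zpow_emod]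

theorem c_sq (h : Rel u t f n) (k : ℤ) : c u t k * c u t k = 1 := by
  have : c u t k * c u t k = t ^ k * (u * u) * t ^ (-k) := by
    rw [c_def, zpow_neg]; group
  rw [this, h.uu, mul_one, ← zpow_add, add_neg_cancel, zpow_zero]

theorem u_mul_c (h : Rel u t f n) (k : ℤ) : u * c u t k = 1 ∨ ∃ m : ℤ, u * c u t k = c u t m := by
  rw [← h.c_emod k]
  have h0 : 0 ≤ k % 15 := Int.emod_nonneg k (by norm_num)
  have h1 : k % 15 < 15 := Int.emod_lt_of_pos k (by norm_num)
  obtain ⟨l, hl⟩ := Int.eq_ofNat_of_zero_le h0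
  rw [hl] at h1 ⊢
  rcases Nat.eq_zero_or_pos l with rfl | hpos
  · left
    simp only [Nat.cast_zero, c_zero]
    exact h.uu
  · right
    obtain ⟨m, hm⟩ := h.zech l hpos (by exact_mod_cast h1)
    exact ⟨m, by rw [c_natCast, c_natCast, hm]⟩

theorem c_mul_c (h : Rel u t f n) (j k : ℤ) :
    c u t j * c u t k = 1 ∨ ∃ m : ℤ, c u t j * c u t k = c u t m := by
  have key : c u t j * c u t k = t ^ j * (u * c u t (k - j)) * t ^ (-j) := by
    have h1 : c u t k = t ^ j * c u t (k - j) * t ^ (-j) := by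
      rw [c_conj]; congr 1; ring
    rw [h1, c_def u t j, zpow_neg]; group
  rcases h.u_mul_c (k - j) with h1 | ⟨m, hm⟩
  · left
    rw [key, h1, mul_one, ← zpow_add, add_neg_cancel, zpow_zero]
  · right
    exact ⟨j + m, by rw [key, hm, c_conj]⟩

/-- The unipotent radical, of order 16. -/
def V (h : Rel u t f n) : Subgroup G where
  carrier := {x | x = 1 ∨ ∃ k : ℤ, x = c u t k}
  one_mem' := Or.inl rfl
  mul_mem' := by
    rintro a b (rfl | ⟨j, rfl⟩) (rfl | ⟨k, rfl⟩)
    · left; simp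
    · right; exact ⟨k, by simp⟩
    · right; exact ⟨j, by simp⟩
    · exact h.c_mul_c j k
  inv_mem' := by
    rintro a (rfl | ⟨k, rfl⟩)
    · left; simp
    · right; exact ⟨k, inv_eq_of_mul_eq_one_left (h.c_sq k)⟩

theorem mem_V (h : Rel u t f n) {x : G} : x ∈ h.V ↔ x = 1 ∨ ∃ k : ℤ, x = c u t k := Iff.rfl

theorem c_mem_V (h : Rel u t f n) (k : ℤ) : c u t k ∈ h.V := Or.inr ⟨k, rfl⟩

theorem f_mul_t (h : Rel u t f n) (k : ℤ) : f * t ^ k = t ^ (4 * k) * f := by
  have h1 : MulAut.conj f t = t ^ 4 := by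
    rw [MulAut.conj_apply, h.inv_f, h.ftf]
  have h2 : MulAut.conj f (t ^ k) = t ^ (4 * k) := by
    rw [map_zpow, h1, zpow_mul]; norm_cast
  rw [MulAut.conj_apply] at h2
  rw [← h2, inv_mul_cancel_right]

theorem n_mul_t (h : Rel u t f n) (k : ℤ) : n * t ^ k = t ^ (-k) * n := by
  have h1 : MulAut.conj n t = t⁻¹ := by
    rw [MulAut.conj_apply, h.inv_n, h.ntn]
  have h2 : MulAut.conj n (t ^ k) = t ^ (-k) := by
    rw [map_zpow, h1, inv_zpow, zpow_neg]
  rw [MulAut.conj_apply] at h2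
  rw [← h2, inv_mul_cancel_right]

theorem f_mul_c (h : Rel u t f n) (k : ℤ) : f * c u t k = c u t (4 * k) * f := by
  rw [c_def, c_def]
  calc f * (t ^ k * u * t ^ (-k)) = (f * t ^ k) * u * t ^ (-k) := by group
    _ = t ^ (4 * k) * (f * u) * t ^ (-k) := by rw [h.f_mul_t]; group
    _ = t ^ (4 * k) * u * (f * t ^ (-k)) := by rw [h.fu]; group
    _ = t ^ (4 * k) * u * t ^ (-(4 * k)) * f := by
      rw [h.f_mul_t, show 4 * -k = -(4 * k) by ring]; group

theorem n_mul_c_mul_n (h : Rel u t f n) (k : ℤ) :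
    n * c u t k * n = c u t (-k) * t ^ (-2 * k) * n * c u t (-k) := by
  have e1 : n * c u t k * n = t ^ (-k) * (n * u * n) * t ^ k := by
    rw [c_def]
    calc n * (t ^ k * u * t ^ (-k)) * n = (n * t ^ k) * u * (t ^ (-k) * n) := by group
      _ = t ^ (-k) * n * u * (n * t ^ k) := by
        rw [h.n_mul_t k]
      _ = t ^ (-k) * (n * u * n) * t ^ k := by group
  rw [e1, h.nun]
  have e2 : n = t ^ (-k) * n * t ^ (-k) := by
    have := h.n_mul_t (-k)
    rw [mul_assoc, this, ← mul_assoc, ← zpow_add]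
    simp
  calc t ^ (-k) * (u * n * u) * t ^ k
      = t ^ (-k) * u * (t ^ (-k) * n * t ^ (-k)) * u * t ^ k := by
        rw [← e2]; group
    _ = (t ^ (-k) * u * t ^ (-(-k))) * t ^ (-2 * k) * n * (t ^ (-k) * u * t ^ (-(-k))) := by
        rw [show (-2 * k) = -k + -k by ring, zpow_add]
        group
    _ = _ := rfl

/-- The Borel subgroup (as a set). -/
def B (h : Rel u t f n) : Set G :=
  {x | ∃ v ∈ h.V, ∃ b : ℤ, ∃ e : G, (e = 1 ∨ e = f) ∧ x = v * t ^ b * e}

theorem one_mem_B (h : Rel u t f n) : (1 : G) ∈ h.B :=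
  ⟨1, h.V.one_mem, 0, 1, Or.inl rfl, by simp⟩

theorem B_mul_t (h : Rel u t f n) {x : G} (hx : x ∈ h.B) (j : ℤ) : x * t ^ j ∈ h.B := by
  obtain ⟨v, hv, b, e, he, rfl⟩ := hx
  rcases he with rfl | rfl
  · refine ⟨v, hv, b + j, 1, Or.inl rfl, ?_⟩
    rw [zpow_add]; group
  · refine ⟨v, hv, b + 4 * j, e, Or.inr rfl, ?_⟩
    rw [mul_assoc, h.f_mul_t, zpow_add]; group

theorem B_mul_f (h : Rel u t f n) {x : G} (hx : x ∈ h.B) : x * f ∈ h.B := by
  obtain ⟨v, hv, b, e, he, rfl⟩ := hx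
  rcases he with rfl | rfl
  · exact ⟨v, hv, b, f, Or.inr rfl, by simp⟩
  · exact ⟨v, hv, b, 1, Or.inl rfl, by rw [mul_assoc, h.ff]⟩

theorem B_mul_c (h : Rel u t f n) {x : G} (hx : x ∈ h.B) (k : ℤ) : x * c u t k ∈ h.B := by
  obtain ⟨v, hv, b, e, he, rfl⟩ := hx
  rcases he with rfl | rfl
  · refine ⟨v * c u t (b + k), h.V.mul_mem hv (h.c_mem_V _), b, 1, Or.inl rfl, ?_⟩
    rw [mul_one, mul_one, mul_assoc, t_mul_c, mul_assoc]
  · refine ⟨v * c u t (b + 4 * k), h.V.mul_mem hv (h.c_mem_V _), b, e, Or.inr rfl, ?_⟩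
    rw [mul_assoc, h.f_mul_c, ← mul_assoc, mul_assoc v, t_mul_c]; group

theorem B_mul_V (h : Rel u t f n) {x v : G} (hx : x ∈ h.B) (hv : v ∈ h.V) : x * v ∈ h.B := by
  rcases hv with rfl | ⟨k, rfl⟩
  · rwa [mul_one]
  · exact h.B_mul_c hx k

/-- The candidate for the whole group, as a set. -/
def S (h : Rel u t f n) : Set G := {x | x ∈ h.B ∨ ∃ y ∈ h.B, ∃ v ∈ h.V, x = y * n * v}

theorem S_mul_n (h : Rel u t f n) {x : G} (hx : x ∈ h.S) : x * n ∈ h.S := by
  rcases hx with hx | ⟨y, hy, v, hv, rfl⟩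
  · exact Or.inr ⟨x, hx, 1, h.V.one_mem, by simp⟩
  · rcases hv with rfl | ⟨k, rfl⟩
    · left
      rw [mul_one, mul_assoc, h.nn, mul_one]; exact hy
    · right
      refine ⟨y * c u t (-k) * t ^ (-2 * k), h.B_mul_t (h.B_mul_c hy _) _, c u t (-k),
        h.c_mem_V _, ?_⟩
      calc y * n * c u t k * n = y * (n * c u t k * n) := by group
        _ = _ := by rw [h.n_mul_c_mul_n]; group

theorem S_mul_u (h : Rel u t f n) {x : G} (hx : x ∈ h.S) : x * u ∈ h.S := by
  have hu : u ∈ h.V := by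
    have h0 := h.c_mem_V 0
    rwa [c_zero] at h0
  rcases hx with hx | ⟨y, hy, v, hv, rfl⟩
  · exact Or.inl (h.B_mul_V hx hu)
  · exact Or.inr ⟨y, hy, v * u, h.V.mul_mem hv hu, by group⟩

theorem V_mul_t (h : Rel u t f n) {v : G} (hv : v ∈ h.V) (j : ℤ) :
    ∃ v' ∈ h.V, v * t ^ j = t ^ j * v' := by
  rcases hv with rfl | ⟨k, rfl⟩
  · exact ⟨1, h.V.one_mem, by simp⟩
  · refine ⟨c u t (k - j), h.c_mem_V _, ?_⟩
    rw [t_mul_c]; congr 2; ring

theorem V_mul_f (h : Rel u t f n) {v : G} (hv : v ∈ h.V) :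
    ∃ v' ∈ h.V, v * f = f * v' := by
  rcases hv with rfl | ⟨k, rfl⟩
  · exact ⟨1, h.V.one_mem, by simp⟩
  · refine ⟨c u t (4 * k), h.c_mem_V _, ?_⟩
    rw [h.f_mul_c, ← h.c_emod (4 * (4 * k)), ← h.c_emod k]
    congr 2
    omega

theorem S_mul_t (h : Rel u t f n) {x : G} (hx : x ∈ h.S) (j : ℤ) : x * t ^ j ∈ h.S := by
  rcases hx with hx | ⟨y, hy, v, hv, rfl⟩
  · exact Or.inl (h.B_mul_t hx j)
  · obtain ⟨v', hv', e⟩ := h.V_mul_t hv j
    refine Or.inr ⟨y * t ^ (-j), h.B_mul_t hy _, v', hv', ?_⟩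
    calc y * n * v * t ^ j = y * n * (v * t ^ j) := by group
      _ = y * (n * t ^ j) * v' := by rw [e]; group
      _ = _ := by rw [h.n_mul_t]; group

theorem S_mul_f (h : Rel u t f n) {x : G} (hx : x ∈ h.S) : x * f ∈ h.S := by
  rcases hx with hx | ⟨y, hy, v, hv, rfl⟩
  · exact Or.inl (h.B_mul_f hx)
  · obtain ⟨v', hv', e⟩ := h.V_mul_f hv
    refine Or.inr ⟨y * f, h.B_mul_f hy, v', hv', ?_⟩
    calc y * n * v * f = y * n * (v * f) := by group
      _ = y * (n * f) * v' := by rw [e]; group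
      _ = _ := by rw [h.nf]; group

theorem closure_subset (h : Rel u t f n) :
    (Subgroup.closure {u, t, f, n} : Set G) ⊆ h.S := by
  intro x hx
  refine Subgroup.closure_induction_right (p := fun x _ => x ∈ h.S) ?_ ?_ ?_ hx
  · exact Or.inl h.one_mem_B
  · intro x _ y hy hxS
    rcases hy with rfl | rfl | rfl | rfl
    · exact h.S_mul_u hxS
    · simpa using h.S_mul_t hxS 1
    · exact h.S_mul_f hxS
    · exact h.S_mul_n hxS
  · intro x _ y hy hxS
    rcases hy with rfl | rfl | rfl | rfl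
    · rw [h.inv_u]; exact h.S_mul_u hxS
    · simpa using h.S_mul_t hxS (-1)
    · rw [h.inv_f]; exact h.S_mul_f hxS
    · rw [h.inv_n]; exact h.S_mul_n hxS

theorem finite_T (h : Rel u t f n) : (Set.range fun k : ℤ => t ^ k).Finite := by
  refine (Set.finite_range fun k : Fin 15 => t ^ (k : ℕ)).subset ?_
  rintro _ ⟨k, rfl⟩
  have h0 : 0 ≤ k % 15 := Int.emod_nonneg k (by norm_num)
  have h1 : k % 15 < 15 := Int.emod_lt_of_pos k (by norm_num)
  obtain ⟨l, hl⟩ := Int.eq_ofNat_of_zero_le h0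
  refine ⟨⟨l, by omega⟩, ?_⟩
  have := h.zpow_emod k
  rw [hl] at this
  simpa using this

theorem range_T (h : Rel u t f n) :
    (Set.range fun k : ℤ => t ^ k) = Set.range fun k : Fin 15 => t ^ (k : ℕ) := by
  apply Set.Subset.antisymm
  · rintro _ ⟨k, rfl⟩
    have h0 : 0 ≤ k % 15 := Int.emod_nonneg k (by norm_num)
    have h1 : k % 15 < 15 := Int.emod_lt_of_pos k (by norm_num)
    obtain ⟨l, hl⟩ := Int.eq_ofNat_of_zero_le h0
    refine ⟨⟨l, by omega⟩, ?_⟩
    have := h.zpow_emod k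
    rw [hl] at this
    simpa using this
  · rintro _ ⟨k, rfl⟩
    exact ⟨(k : ℕ), by simp⟩

theorem V_eq (h : Rel u t f n) :
    (h.V : Set G) = Set.range fun k : Option (Fin 15) => k.elim 1 fun k => c u t (k : ℕ) := by
  apply Set.Subset.antisymm
  · rintro x (rfl | ⟨k, rfl⟩)
    · exact ⟨none, rfl⟩
    · have h0 : 0 ≤ k % 15 := Int.emod_nonneg k (by norm_num)
      have h1 : k % 15 < 15 := Int.emod_lt_of_pos k (by norm_num)
      obtain ⟨l, hl⟩ := Int.eq_ofNat_of_zero_le h0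
      refine ⟨some ⟨l, by omega⟩, ?_⟩
      have := h.c_emod k
      rw [hl] at this
      simpa using this
  · rintro x ⟨k, rfl⟩
    rcases k with _ | k
    · exact h.V.one_mem
    · exact h.c_mem_V _

theorem card_V_le (h : Rel u t f n) : Nat.card h.V ≤ 16 := by
  have : Nat.card (h.V : Set G) ≤ 16 := by
    rw [h.V_eq]
    refine (Finite.card_range_le _).trans ?_
    simp
  exact this

theorem finite_V (h : Rel u t f n) : (h.V : Set G).Finite := by
  rw [h.V_eq]; exact Set.finite_range _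

theorem S_subset (h : Rel u t f n) :
    h.S ⊆ ((h.V : Set G) * (Set.range fun k : ℤ => t ^ k) * ({1, f} : Set G)) *
      (({1} : Set G) ∪ ({n} * (h.V : Set G))) := by
  have hB : h.B ⊆ (h.V : Set G) * (Set.range fun k : ℤ => t ^ k) * ({1, f} : Set G) := by
    rintro x ⟨v, hv, b, e, he, rfl⟩
    exact Set.mul_mem_mul (Set.mul_mem_mul hv ⟨b, rfl⟩) he
  rintro x (hx | ⟨y, hy, v, hv, rfl⟩)
  · rw [← mul_one x]
    exact Set.mul_mem_mul (hB hx) (Or.inl rfl)
  · rw [mul_assoc y n v]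
    exact Set.mul_mem_mul (hB hy) (Or.inr (Set.mul_mem_mul rfl hv))

theorem finite_big (h : Rel u t f n) :
    (((h.V : Set G) * (Set.range fun k : ℤ => t ^ k) * ({1, f} : Set G)) *
      (({1} : Set G) ∪ ({n} * (h.V : Set G)))).Finite := by
  refine ((h.finite_V.mul h.finite_T).mul (Set.toFinite _)).mul ?_
  exact (Set.finite_singleton _).union ((Set.finite_singleton _).mul h.finite_V)

theorem card_le (h : Rel u t f n) : Nat.card (Subgroup.closure {u, t, f, n}) ≤ 8160 := by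
  have h1 : Nat.card (Subgroup.closure {u, t, f, n} : Set G) ≤
      Nat.card (((h.V : Set G) * (Set.range fun k : ℤ => t ^ k) * ({1, f} : Set G)) *
      (({1} : Set G) ∪ ({n} * (h.V : Set G))) : Set G) :=
    Nat.card_mono h.finite_big (h.closure_subset.trans h.S_subset)
  refine h1.trans ?_
  refine Set.natCard_mul_le.trans ?_
  have hT : Nat.card (Set.range fun k : ℤ => t ^ k) ≤ 15 := by
    rw [h.range_T]
    refine (Finite.card_range_le _).trans ?_
    simp
  have hf : Nat.card ({1, f} : Set G) ≤ 2 := by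
    rw [Nat.card_coe_set_eq]
    refine (Set.ncard_insert_le _ _).trans ?_
    rw [Set.ncard_singleton]
  have h2 : Nat.card ((h.V : Set G) * (Set.range fun k : ℤ => t ^ k) * ({1, f} : Set G) : Set G)
      ≤ 16 * 15 * 2 := by
    refine Set.natCard_mul_le.trans (Nat.mul_le_mul ?_ hf)
    exact Set.natCard_mul_le.trans (Nat.mul_le_mul h.card_V_le hT)
  have h3 : Nat.card ((({1} : Set G) ∪ ({n} * (h.V : Set G))) : Set G) ≤ 17 := by
    rw [Nat.card_coe_set_eq]
    refine (Set.ncard_union_le _ _).trans ?_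
    rw [Set.ncard_singleton]
    have : ({n} * (h.V : Set G)).ncard ≤ 16 := by
      rw [← Nat.card_coe_set_eq]
      refine Set.natCard_mul_le.trans ?_
      have e1 : Nat.card ({n} : Set G) = 1 := by simp
      rw [e1, one_mul]
      exact h.card_V_le
    omega
  calc _ ≤ (16 * 15 * 2) * 17 := Nat.mul_le_mul h2 h3
    _ = 8160 := by norm_num

theorem finite_closure (h : Rel u t f n) : Finite (Subgroup.closure {u, t, f, n}) :=
  Set.Finite.to_subtype (h.finite_big.subset (h.closure_subset.trans h.S_subset))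

/-- If `t ^ 3`, `t ^ 5` do not commute with `u`, then `t ^ k` commutes with `u` only for `15 ∣ k`. -/
theorem dvd_of_commute (h : Rel u t f n) (h3 : t ^ 3 * u ≠ u * t ^ 3) (h5 : t ^ 5 * u ≠ u * t ^ 5)
    {k : ℤ} (hk : Commute (t ^ k) u) : (15 : ℤ) ∣ k := by
  by_contra hcon
  have hpow : ∀ a : ℤ, Commute (t ^ (a * k)) u := by
    intro a
    rw [mul_comm, zpow_mul]
    exact hk.zpow_left a
  have hmod : ∀ a m : ℤ, (a * k - m) % 15 = 0 → Commute (t ^ m) u := by
    intro a m ham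
    have e : t ^ m = t ^ (a * k) := by
      rw [← h.zpow_emod m, ← h.zpow_emod (a * k)]
      congr 1
      omega
    rw [e]; exact hpow a
  have h3' : ¬ Commute (t ^ (3 : ℤ)) u := by
    intro hc; apply h3; exact_mod_cast hc.eq
  have h5' : ¬ Commute (t ^ (5 : ℤ)) u := by
    intro hc; apply h5; exact_mod_cast hc.eq
  have hk0 : 0 ≤ k % 15 := Int.emod_nonneg k (by norm_num)
  have hk1 : k % 15 < 15 := Int.emod_lt_of_pos k (by norm_num)
  have hcases : k % 15 = 0 ∨ k % 15 = 1 ∨ k % 15 = 2 ∨ k % 15 = 3 ∨ k % 15 = 4 ∨ k % 15 = 5 ∨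
      k % 15 = 6 ∨ k % 15 = 7 ∨ k % 15 = 8 ∨ k % 15 = 9 ∨ k % 15 = 10 ∨ k % 15 = 11 ∨
      k % 15 = 12 ∨ k % 15 = 13 ∨ k % 15 = 14 := by omega
  rcases hcases with e | e | e | e | e | e | e | e | e | e | e | e | e | e | e
  · exact hcon (Int.dvd_of_emod_eq_zero e)
  · exact h3' (hmod 3 3 (by omega))
  · exact h3' (hmod 9 3 (by omega))
  · exact h3' (hmod 1 3 (by omega))
  · exact h3' (hmod 12 3 (by omega))
  · exact h5' (hmod 1 5 (by omega))
  · exact h3' (hmod 3 3 (by omega))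
  · exact h3' (hmod 9 3 (by omega))
  · exact h3' (hmod 6 3 (by omega))
  · exact h3' (hmod 2 3 (by omega))
  · exact h5' (hmod 2 5 (by omega))
  · exact h3' (hmod 3 3 (by omega))
  · exact h3' (hmod 4 3 (by omega))
  · exact h3' (hmod 6 3 (by omega))
  · exact h3' (hmod 12 3 (by omega))

theorem u_ne_one (h3 : t ^ 3 * u ≠ u * t ^ 3) : u ≠ 1 := by
  rintro rfl
  simp at h3

theorem c_injOn (h : Rel u t f n) (h3 : t ^ 3 * u ≠ u * t ^ 3) (h5 : t ^ 5 * u ≠ u * t ^ 5)
    {i j : ℤ} (hij : c u t i = c u t j) : (15 : ℤ) ∣ i - j := by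
  apply h.dvd_of_commute h3 h5
  have e : t ^ (-j) * c u t i = t ^ (-j) * c u t j := by rw [hij]
  rw [t_mul_c, t_mul_c, neg_add_cancel, c_zero, c_def] at e
  -- t^(-j+i) * u * t^(-(-j+i)) * t^(-j) = u * t^(-j)
  have e2 : t ^ (-j + i) * u * t ^ (-(-j + i)) = u := mul_right_cancel e
  rw [zpow_neg, mul_inv_eq_iff_eq_mul] at e2
  rw [show i - j = -j + i by ring]
  exact e2

theorem c_ne_one (h3 : t ^ 3 * u ≠ u * t ^ 3) (i : ℤ) : c u t i ≠ 1 := by
  intro hi
  rw [c_def, zpow_neg, mul_inv_eq_one, mul_eq_left] at hi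
  exact u_ne_one h3 hi

theorem card_V (h : Rel u t f n) (h3 : t ^ 3 * u ≠ u * t ^ 3) (h5 : t ^ 5 * u ≠ u * t ^ 5) :
    Nat.card h.V = 16 := by
  have hinj : Function.Injective
      (fun k : Option (Fin 15) => k.elim (1 : G) fun k => c u t (k : ℕ)) := by
    intro a b hab
    rcases a with _ | a <;> rcases b with _ | b
    · rfl
    · exact absurd hab.symm (c_ne_one h3 _)
    · exact absurd hab (c_ne_one h3 _)
    · have := h.c_injOn h3 h5 hab
      have ha := a.2
      have hb := b.2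
      congr 1
      apply Fin.ext
      omega
  have : Nat.card (h.V : Set G) = 16 := by
    rw [h.V_eq, Nat.card_range_of_injective hinj]
    simp
  exact this

theorem V_comm (h : Rel u t f n) {x y : G} (hx : x ∈ h.V) (hy : y ∈ h.V) : x * y = y * x := by
  have hsq : ∀ z ∈ h.V, z⁻¹ = z := by
    rintro z (rfl | ⟨k, rfl⟩)
    · simp
    · exact inv_eq_of_mul_eq_one_left (h.c_sq k)
  have := hsq _ (h.V.mul_mem hx hy)
  rw [mul_inv_rev, hsq x hx, hsq y hy] at this
  exact this.symm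

theorem f_notMem_V (h : Rel u t f n) (hf : f * (t * u * t⁻¹) ≠ (t * u * t⁻¹) * f) : f ∉ h.V := by
  intro hfV
  apply hf
  have h1 : t * u * t⁻¹ ∈ h.V := by
    have := h.c_mem_V 1
    rwa [c_def, zpow_neg, zpow_one] at this
  exact h.V_comm hfV h1

/-- `V` extended by `f`. -/
def W (h : Rel u t f n) : Subgroup G where
  carrier := {x | x ∈ h.V ∨ ∃ v ∈ h.V, x = v * f}
  one_mem' := Or.inl h.V.one_mem
  mul_mem' := by
    rintro a b (ha | ⟨v, hv, rfl⟩) (hb | ⟨w, hw, rfl⟩)
    · exact Or.inl (h.V.mul_mem ha hb)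
    · exact Or.inr ⟨a * w, h.V.mul_mem ha hw, by rw [mul_assoc]⟩
    · obtain ⟨b', hb', e⟩ := h.V_mul_f hb
      refine Or.inr ⟨v * b', h.V.mul_mem hv hb', ?_⟩
      have e2 : f * b = b' * f := by
        calc f * b = f * b * (f * f) := by rw [h.ff, mul_one]
          _ = f * (b * f) * f := by group
          _ = (f * f) * b' * f := by rw [e]; group
          _ = b' * f := by rw [h.ff, one_mul]
      rw [mul_assoc, e2, mul_assoc]
    · obtain ⟨b', hb', e⟩ := h.V_mul_f hw
      refine Or.inl ?_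
      have e2 : f * w = b' * f := by
        calc f * w = f * w * (f * f) := by rw [h.ff, mul_one]
          _ = f * (w * f) * f := by group
          _ = (f * f) * b' * f := by rw [e]; group
          _ = b' * f := by rw [h.ff, one_mul]
      have : v * f * (w * f) = v * b' := by
        calc v * f * (w * f) = v * (f * w) * f := by group
          _ = v * b' * (f * f) := by rw [e2]; group
          _ = v * b' := by rw [h.ff, mul_one]
      rw [this]
      exact h.V.mul_mem hv hb'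
  inv_mem' := by
    rintro a (ha | ⟨v, hv, rfl⟩)
    · exact Or.inl (h.V.inv_mem ha)
    · obtain ⟨b', hb', e⟩ := h.V_mul_f (h.V.inv_mem hv)
      refine Or.inr ⟨b', hb', ?_⟩
      have e2 : f * v⁻¹ = b' * f := by
        calc f * v⁻¹ = f * v⁻¹ * (f * f) := by rw [h.ff, mul_one]
          _ = f * (v⁻¹ * f) * f := by group
          _ = (f * f) * b' * f := by rw [e]; group
          _ = b' * f := by rw [h.ff, one_mul]
      rw [mul_inv_rev, h.inv_f, e2]

theorem card_W (h : Rel u t f n) (h3 : t ^ 3 * u ≠ u * t ^ 3) (h5 : t ^ 5 * u ≠ u * t ^ 5)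
    (hf : f * (t * u * t⁻¹) ≠ (t * u * t⁻¹) * f) : Nat.card h.W = 32 := by
  have hVW : h.V ≤ h.W := fun x hx => Or.inl hx
  have hsub : (h.W : Set G) ⊆ (h.V : Set G) * ({1, f} : Set G) := by
    rintro x (hx | ⟨v, hv, rfl⟩)
    · rw [← mul_one x]; exact Set.mul_mem_mul hx (Or.inl rfl)
    · exact Set.mul_mem_mul hv (Or.inr rfl)
  have hfin : ((h.V : Set G) * ({1, f} : Set G)).Finite := h.finite_V.mul (Set.toFinite _)
  have hfinW : Finite h.W := (hfin.subset hsub).to_subtype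
  have hf2 : Nat.card ({1, f} : Set G) ≤ 2 := by
    rw [Nat.card_coe_set_eq]
    refine (Set.ncard_insert_le _ _).trans ?_
    rw [Set.ncard_singleton]
  have hle : Nat.card h.W ≤ 32 := by
    have h1 : Nat.card (h.W : Set G) ≤ 32 := by
      refine (Nat.card_mono hfin hsub).trans ?_
      refine Set.natCard_mul_le.trans ?_
      calc _ ≤ 16 * 2 := Nat.mul_le_mul h.card_V_le hf2
        _ = 32 := by norm_num
    exact h1
  have hdvd : 16 ∣ Nat.card h.W := by
    rw [← h.card_V h3 h5]; exact Subgroup.card_dvd_of_le hVW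
  have hne : Nat.card h.W ≠ 16 := by
    intro he
    have heq : h.V = h.W := by
      apply Subgroup.eq_of_le_of_card_ge hVW
      rw [he, h.card_V h3 h5]
    have hfW : f ∈ h.W := Or.inr ⟨1, h.V.one_mem, by simp⟩
    rw [← heq] at hfW
    exact h.f_notMem_V hf hfW
  have hpos : 0 < Nat.card h.W := Nat.card_pos
  omega

theorem card_eq (h : Rel u t f n) (h3 : t ^ 3 * u ≠ u * t ^ 3) (h5 : t ^ 5 * u ≠ u * t ^ 5)
    (hf : f * (t * u * t⁻¹) ≠ (t * u * t⁻¹) * f) (g : G)
    (hg : g ∈ Subgroup.closure {u, t, f, n}) (h17 : g ^ 17 = 1)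
    (h17' : g ≠ 1) : Nat.card (Subgroup.closure {u, t, f, n}) = 8160 := by
  set K := Subgroup.closure {u, t, f, n} with hK
  have : Finite K := h.finite_closure
  have hu : u ∈ K := Subgroup.subset_closure (by simp)
  have ht : t ∈ K := Subgroup.subset_closure (by simp)
  have hfK : f ∈ K := Subgroup.subset_closure (by simp)
  have hn : n ∈ K := Subgroup.subset_closure (by simp)
  have hc : ∀ k : ℤ, c u t k ∈ K := fun k => by
    rw [c_def]; exact K.mul_mem (K.mul_mem (K.zpow_mem ht _) hu) (K.zpow_mem ht _)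
  have hV : h.V ≤ K := by
    rintro x (rfl | ⟨k, rfl⟩)
    · exact K.one_mem
    · exact hc k
  have hW : h.W ≤ K := by
    rintro x (hx | ⟨v, hv, rfl⟩)
    · exact hV hx
    · exact K.mul_mem (hV hv) hfK
  have d32 : 32 ∣ Nat.card K := by
    rw [← h.card_W h3 h5 hf]; exact Subgroup.card_dvd_of_le hW
  have d15 : 15 ∣ Nat.card K := by
    have ho : orderOf t = 15 := by
      have hd : orderOf t ∣ 15 := orderOf_dvd_of_pow_eq_one h.tt
      have h3n : ¬ orderOf t ∣ 3 := by
        intro hd3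
        apply h3
        rw [orderOf_dvd_iff_pow_eq_one.1 hd3]; simp
      have h5n : ¬ orderOf t ∣ 5 := by
        intro hd5
        apply h5
        rw [orderOf_dvd_iff_pow_eq_one.1 hd5]; simp
      have hle : orderOf t ≤ 15 := Nat.le_of_dvd (by norm_num) hd
      interval_cases hh : orderOf t <;> omega
    have := Subgroup.orderOf_dvd_natCard K ht
    rwa [ho] at this
  have d17 : 17 ∣ Nat.card K := by
    have : Fact (Nat.Prime 17) := ⟨by norm_num⟩
    have ho : orderOf g = 17 := orderOf_eq_prime h17 h17'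
    have := Subgroup.orderOf_dvd_natCard K hg
    rwa [ho] at this
  have d : 8160 ∣ Nat.card K := by
    have e1 : 32 * 15 ∣ Nat.card K := Nat.Coprime.mul_dvd_of_dvd_of_dvd (by norm_num) d32 d15
    have e2 : 32 * 15 * 17 ∣ Nat.card K :=
      Nat.Coprime.mul_dvd_of_dvd_of_dvd (by norm_num) e1 d17
    simpa using e2
  exact le_antisymm h.card_le (Nat.le_of_dvd Nat.card_pos d)

end Rel

end Cfsg.Agent.SporadicB.L216Two
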