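import Cfsg.Prelude.Def_Spor_J3
import Cfsg.Agent.Lib.FieldFour
import Cfsg.Agent.SporadicB.L216Two

/-!
Explicit 9×9 matrices over the field with four elements lying in `threeJ3 F4 w` and generating a subgroup
`L₂(16):2` of order 8160.  All matrix identities are checked by the kernel.
-/

set_option autoImplicit false
set_option maxRecDepth 10000

namespace Cfsg.Agent.SporadicB.J3Sub

open Cfsg.Agent.Lib.FieldFour Cfsg.Spor

/-- decode a base-4 digit -/
def dig : Nat → F4
  | 0 => F4.o
  | 1 => F4.i
  | 2 => F4.w
  | _ => F4.v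

/-- position of an index in `0, ..., 8` -/
def idx (w : F9) : Nat := 3 * w.1.val + w.2.val

/-- the matrix with entries the base-4 digits of `a` -/
def tab (a : Nat) : Matrix F9 F9 F4 :=
  Matrix.of fun w z => dig ((a >>> (2 * (9 * idx w + idx z))) % 4)

/-- A unit from a one-sided inverse. -/
def mkU (A B : Matrix F9 F9 F4) (h : A * B = 1) : GL F9 F4 :=
  ⟨A, B, h, mul_eq_one_comm.mp h⟩

theorem coe_mkU (A B : Matrix F9 F9 F4) (h : A * B = 1) : (mkU A B h : Matrix F9 F9 F4) = A := rfl

theorem coe_mkU_inv (A B : Matrix F9 F9 F4) (h : A * B = 1) :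
    ((mkU A B h)⁻¹ : GL F9 F4).val = B := rfl

/-- `M` is the matrix of an element of `threeJ3`. -/
def InG (M : Matrix F9 F9 F4) : Prop := ∃ g ∈ threeJ3 F4 F4.w, (g : Matrix F9 F9 F4) = M

theorem InG.mul {M N : Matrix F9 F9 F4} (hM : InG M) (hN : InG N) : InG (M * N) := by
  obtain ⟨g, hg, rfl⟩ := hM
  obtain ⟨h, hh, rfl⟩ := hN
  exact ⟨g * h, Subgroup.mul_mem _ hg hh, rfl⟩

theorem inG_of_gen (M B : Matrix F9 F9 F4) (h : M * B = 1) (hM : M ∈ j3Gens F4 F4.w) : InG M :=
  ⟨mkU M B h, Subgroup.subset_closure hM, rfl⟩

theorem mem_of_inG {A B : Matrix F9 F9 F4} {h : A * B = 1} (hA : InG A) :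
    mkU A B h ∈ threeJ3 F4 F4.w := by
  obtain ⟨g, hg, hgA⟩ := hA
  have : mkU A B h = g := Units.ext hgA.symm
  rw [this]; exact hg

theorem gA01 : InG (j3A F4 F4.w (0, 1)) :=
  inG_of_gen _ (tab 2923007456052859791430298446487716538524491579393) (by decide +kernel) (Or.inl (Or.inl (Or.inl (Or.inl ⟨_, rfl⟩))))

theorem gA10 : InG (j3A F4 F4.w (1, 0)) :=
  inG_of_gen _ (tab 2923006062257614112529787616608763548468580974593) (by decide +kernel) (Or.inl (Or.inl (Or.inl (Or.inl ⟨_, rfl⟩))))

theorem gA11 : InG (j3A F4 F4.w (1, 1)) :=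
  inG_of_gen _ (tab 4384506305791942120034223693960376111078852001793) (by decide +kernel) (Or.inl (Or.inl (Or.inl (Or.inl ⟨_, rfl⟩))))

theorem gA20 : InG (j3A F4 F4.w (2, 0)) :=
  inG_of_gen _ (tab 4384509093386421165625551902025140478076903227393) (by decide +kernel) (Or.inl (Or.inl (Or.inl (Or.inl ⟨_, rfl⟩))))

theorem gB01 : InG (j3B F4 (0, 1)) :=
  inG_of_gen _ (tab 22841538269600183366566515577973363403344838657) (by decide +kernel) (Or.inl (Or.inr ⟨_, by decide, rfl⟩))

theorem gB20 : InG (j3B F4 (2, 0)) :=
  inG_of_gen _ (tab 5709077883130560754633018547490350649206374401) (by decide +kernel) (Or.inl (Or.inr ⟨_, by decide, rfl⟩))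

theorem gB21 : InG (j3B F4 (2, 1)) :=
  inG_of_gen _ (tab 91343852673796106327422337631537158769732485121) (by decide +kernel) (Or.inl (Or.inr ⟨_, by decide, rfl⟩))

theorem gC01 : InG (j3C F4 (0, 1)) :=
  inG_of_gen _ (tab 1849718693824932450194110081778504312150522068993) (by decide +kernel) (Or.inr ⟨_, by decide, rfl⟩)

theorem gC10 : InG (j3C F4 (1, 0)) :=
  inG_of_gen _ (tab 1832593093529640241284613252804085390638190690305) (by decide +kernel) (Or.inr ⟨_, by decide, rfl⟩)

theorem gD01 : InG (j3D F4 F4.w (0, 1)) :=
  inG_of_gen _ (tab 91360577897397242417463951250520343954839306244) (by decide +kernel) (Or.inl (Or.inl (Or.inr ⟨_, rfl⟩)))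

theorem gD10 : InG (j3D F4 F4.w (1, 0)) :=
  inG_of_gen _ (tab 356812263459343669265636426980211415087841344) (by decide +kernel) (Or.inl (Or.inl (Or.inr ⟨_, rfl⟩)))

theorem gD11 : InG (j3D F4 F4.w (1, 1)) :=
  inG_of_gen _ (tab 22302106330599526236543203472212766041833728) (by decide +kernel) (Or.inl (Or.inl (Or.inr ⟨_, rfl⟩)))

theorem gD12 : InG (j3D F4 F4.w (1, 2)) :=
  inG_of_gen _ (tab 89203065880311395805310867195733116631122944) (by decide +kernel) (Or.inl (Or.inl (Or.inr ⟨_, rfl⟩)))

theorem gD20 : InG (j3D F4 F4.w (2, 0)) :=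
  inG_of_gen _ (tab 68507932806049809378162248674094173677418450944) (by decide +kernel) (Or.inl (Or.inl (Or.inr ⟨_, rfl⟩)))

theorem gD21 : InG (j3D F4 F4.w (2, 1)) :=
  inG_of_gen _ (tab 1427334805074968392279505432771327548782034944) (by decide +kernel) (Or.inl (Or.inl (Or.inr ⟨_, rfl⟩)))

theorem gD22 : InG (j3D F4 F4.w (2, 2)) :=
  inG_of_gen _ (tab 5708996215674017263146553140103241843565723648) (by decide +kernel) (Or.inl (Or.inl (Or.inr ⟨_, rfl⟩)))

theorem gE00 : InG (j3E F4 F4.w (0, 0)) :=
  inG_of_gen _ (tab 2923006062258943339257920723327618341602008760321) (by decide +kernel) (Or.inl (Or.inl (Or.inl (Or.inr ⟨_, rfl⟩))))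

theorem gE11 : InG (j3E F4 F4.w (1, 1)) :=
  inG_of_gen _ (tab 2923007456054189020693731544739516360832339410946) (by decide +kernel) (Or.inl (Or.inl (Or.inl (Or.inr ⟨_, rfl⟩))))

theorem gE12 : InG (j3E F4 F4.w (1, 2)) :=
  inG_of_gen _ (tab 4384507699588517028198171248868587767330131410946) (by decide +kernel) (Or.inl (Or.inl (Or.inl (Or.inr ⟨_, rfl⟩))))

theorem wu8 : InG (tab 4384507699587187802737686324524017305624869076993) := by
  have h : j3A F4 F4.w (0, 1) = tab 4384507699587187802737686324524017305624869076993 := by decide +kernel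
  rw [← h]; exact gA01

theorem wu7 : InG (tab 730750862221597264519324758014650961863022477313) := by
  have h : j3B F4 (0, 1) * tab 4384507699587187802737686324524017305624869076993 = tab 730750862221597264519324758014650961863022477313 := by decide +kernel
  rw [← h]; exact gB01.mul wu8

theorem wu6 : InG (tab 1096126249776250213055959999423706612209066967043) := by
  have h : j3E F4 F4.w (1, 2) * tab 730750862221597264519324758014650961863022477313 = tab 1096126249776250213055959999423706612209066967043 := by decide +kernel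
  rw [← h]; exact gE12.mul wu7

theorem wu5 : InG (tab 67599133903815144015793375647306600773846016) := by
  have h : j3D F4 F4.w (2, 2) * tab 1096126249776250213055959999423706612209066967043 = tab 67599133903815144015793375647306600773846016 := by decide +kernel
  rw [← h]; exact gD22.mul wu6

theorem wu4 : InG (tab 182847991931878306468197612755884012827404403712) := by
  have h : j3C F4 (0, 1) * tab 67599133903815144015793375647306600773846016 = tab 182847991931878306468197612755884012827404403712 := by decide +kernel
  rw [← h]; exact gC01.mul wu5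

theorem wu3 : InG (tab 365592868823661530073352326786726710221367083312) := by
  have h : j3D F4 F4.w (0, 1) * tab 182847991931878306468197612755884012827404403712 = tab 365592868823661530073352326786726710221367083312 := by decide +kernel
  rw [← h]; exact gD01.mul wu4

theorem wu2 : InG (tab 4751172746930242442977623383178528774442913562928) := by
  have h : j3C F4 (1, 0) * tab 365592868823661530073352326786726710221367083312 = tab 4751172746930242442977623383178528774442913562928 := by decide +kernel
  rw [← h]; exact gC10.mul wu3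

theorem wu1 : InG (tab 2024081936520489885213039423629526475463664582772) := by
  have h : j3D F4 F4.w (0, 1) * tab 4751172746930242442977623383178528774442913562928 = tab 2024081936520489885213039423629526475463664582772 := by decide +kernel
  rw [← h]; exact gD01.mul wu2

theorem wu0 : InG (tab 562922218151198730357500041534125371861735784505) := by
  have h : j3D F4 F4.w (1, 0) * tab 2024081936520489885213039423629526475463664582772 = tab 562922218151198730357500041534125371861735784505 := by decide +kernel
  rw [← h]; exact gD10.mul wu1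

theorem wt5 : InG (tab 4384509093385091938897418795306285688242013470721) := by
  have h : j3E F4 F4.w (0, 0) = tab 4384509093385091938897418795306285688242013470721 := by decide +kernel
  rw [← h]; exact gE00

theorem wt4 : InG (tab 2923004668459709973834755154297008897892302192643) := by
  have h : j3E F4 F4.w (1, 1) * tab 4384509093385091938897418795306285688242013470721 = tab 2923004668459709973834755154297008897892302192643 := by decide +kernel
  rw [← h]; exact gE11.mul wt5

theorem wt3 : InG (tab 356812944024807677888294813864688379804778688) := by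
  have h : j3D F4 F4.w (2, 0) * tab 2923004668459709973834755154297008897892302192643 = tab 356812944024807677888294813864688379804778688 := by decide +kernel
  rw [← h]; exact gD20.mul wt4

theorem wt2 : InG (tab 4385150241169600194885673862331633797175310024896) := by
  have h : j3C F4 (0, 1) * tab 356812944024807677888294813864688379804778688 = tab 4385150241169600194885673862331633797175310024896 := by decide +kernel
  rw [← h]; exact gC01.mul wt3

theorem wt1 : InG (tab 732006629721388597577830158041682823330930889475) := by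
  have h : j3D F4 F4.w (1, 0) * tab 4385150241169600194885673862331633797175310024896 = tab 732006629721388597577830158041682823330930889475 := by decide +kernel
  rw [← h]; exact gD10.mul wt2

theorem wt0 : InG (tab 1096757618191878215151705455120712633424363393795) := by
  have h : j3A F4 F4.w (1, 1) * tab 732006629721388597577830158041682823330930889475 = tab 1096757618191878215151705455120712633424363393795 := by decide +kernel
  rw [← h]; exact gA11.mul wt1

theorem wf3 : InG (tab 1427334805074968392279505432771327548782034944) := by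
  have h : j3D F4 F4.w (1, 2) = tab 1427334805074968392279505432771327548782034944 := by decide +kernel
  rw [← h]; exact gD12

theorem wf2 : InG (tab 356812008250977190793990943227918288483794944) := by
  have h : j3B F4 (2, 0) * tab 1427334805074968392279505432771327548782034944 = tab 356812008250977190793990943227918288483794944 := by decide +kernel
  rw [← h]; exact gB20.mul wf3

theorem wf1 : InG (tab 1427269471109759961348352033124112278969384976) := by
  have h : j3D F4 F4.w (1, 1) * tab 356812008250977190793990943227918288483794944 = tab 1427269471109759961348352033124112278969384976 := by decide +kernel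
  rw [← h]; exact gD11.mul wf2

theorem wf0 : InG (tab 178407322718686541464600641349822434110349312) := by
  have h : j3D F4 F4.w (2, 1) * tab 1427269471109759961348352033124112278969384976 = tab 178407322718686541464600641349822434110349312 := by decide +kernel
  rw [← h]; exact gD21.mul wf1

theorem wn5 : InG (tab 356812263459343669265636426980211415087841344) := by
  have h : j3D F4 F4.w (2, 0) = tab 356812263459343669265636426980211415087841344 := by decide +kernel
  rw [← h]; exact gD20

theorem wn4 : InG (tab 713624526918443949306544097880896320462389312) := by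
  have h : j3A F4 F4.w (2, 0) * tab 356812263459343669265636426980211415087841344 = tab 713624526918443949306544097880896320462389312 := by decide +kernel
  rw [← h]; exact gA20.mul wn5

theorem wn3 : InG (tab 5710036118265405243390689391998604954967212096) := by
  have h : j3B F4 (2, 1) * tab 713624526918443949306544097880896320462389312 = tab 5710036118265405243390689391998604954967212096 := by decide +kernel
  rw [← h]; exact gB21.mul wn4

theorem wn2 : InG (tab 279785258331910617599343653895372952141308100672) := by
  have h : j3C F4 (0, 1) * tab 5710036118265405243390689391998604954967212096 = tab 279785258331910617599343653895372952141308100672 := by decide +kernel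
  rw [← h]; exact gC01.mul wn3

theorem wn1 : InG (tab 199837304485499160396431877290579358677471330368) := by
  have h : j3A F4 F4.w (1, 0) * tab 279785258331910617599343653895372952141308100672 = tab 199837304485499160396431877290579358677471330368 := by decide +kernel
  rw [← h]; exact gA10.mul wn2

theorem wn0 : InG (tab 302577469232381066287087073272624033809769447444) := by
  have h : j3D F4 F4.w (1, 0) * tab 199837304485499160396431877290579358677471330368 = tab 302577469232381066287087073272624033809769447444 := by decide +kernel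
  rw [← h]; exact gD10.mul wn1

/-- table -/
abbrev mU : Matrix F9 F9 F4 := tab 562922218151198730357500041534125371861735784505

/-- table -/
abbrev mT : Matrix F9 F9 F4 := tab 1096757618191878215151705455120712633424363393795

/-- table -/
abbrev mF : Matrix F9 F9 F4 := tab 178407322718686541464600641349822434110349312

/-- table -/
abbrev mN : Matrix F9 F9 F4 := tab 302577469232381066287087073272624033809769447444

/-- table -/
abbrev mTi : Matrix F9 F9 F4 := tab 366547592595496961902500371772997259934511936258

/-- table -/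
abbrev mT2 : Matrix F9 F9 F4 := tab 2923810287647200032239726071761288426439184484097

/-- table -/
abbrev mT4 : Matrix F9 F9 F4 := tab 1097117218388436959701647614386998334472107069699

/-- table -/
abbrev mT8 : Matrix F9 F9 F4 := tab 1462665461896865093163346140486953626693707761155

/-- table -/
abbrev mT12 : Matrix F9 F9 F4 := tab 4385755149906199481995431521647420817721006231043

/-- table -/
abbrev mT14 : Matrix F9 F9 F4 := tab 366547592595496961902500371772997259934511936258

theorem hUU : mU * mU = 1 := by decide +kernel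

theorem hFF : mF * mF = 1 := by decide +kernel

theorem hNN : mN * mN = 1 := by decide +kernel

theorem hTTi : mT * mTi = 1 := by decide +kernel

theorem hT2 : mT * mT = mT2 := by decide +kernel

theorem hT4 : mT2 * mT2 = mT4 := by decide +kernel

theorem hT8 : mT4 * mT4 = mT8 := by decide +kernel

theorem hT12 : mT8 * mT4 = mT12 := by decide +kernel

theorem hT14 : mT12 * mT2 = mT14 := by decide +kernel

theorem hT15 : mT14 * mT = 1 := by decide +kernel

/-- table -/
abbrev mFT : Matrix F9 F9 F4 := tab 3654835684237493658587931017742836815639944893443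

theorem hFT : mF * mT = mFT := by decide +kernel

theorem hFTF : mFT * mF = mT4 := by decide +kernel

/-- table -/
abbrev mFU : Matrix F9 F9 F4 := tab 2149821859119096152825004958495441518752504864788

theorem hFU : mF * mU = mFU := by decide +kernel

theorem hUF : mU * mF = mFU := by decide +kernel

/-- table -/
abbrev mNT : Matrix F9 F9 F4 := tab 279808691409211331086585642900666571872778453020

theorem hNT : mN * mT = mNT := by decide +kernel

theorem hNTN : mNT * mN = mTi := by decide +kernel

/-- table -/
abbrev mNF : Matrix F9 F9 F4 := tab 28590317678059041742100342201866655531886919696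

theorem hNF : mN * mF = mNF := by decide +kernel

theorem hFN : mF * mN = mNF := by decide +kernel

/-- table -/
abbrev mNU : Matrix F9 F9 F4 := tab 2495465499136538107966803704919658188159885753952

/-- table -/
abbrev mUN : Matrix F9 F9 F4 := tab 2617723228203130949969786870271918261061888791572

/-- table -/
abbrev mNUN : Matrix F9 F9 F4 := tab 1689863598667889396332387400504191590134582143576

theorem hNU : mN * mU = mNU := by decide +kernel

theorem hNUN : mNU * mN = mNUN := by decide +kernel

theorem hUN : mU * mN = mUN := by decide +kernel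

theorem hUNU : mUN * mU = mNUN := by decide +kernel

/-- table -/
abbrev mC0 : Matrix F9 F9 F4 := tab 562922218151198730357500041534125371861735784505

/-- table -/
abbrev mC1 : Matrix F9 F9 F4 := tab 1735600364071858157395878218904188381212939780129

/-- table -/
abbrev mC2 : Matrix F9 F9 F4 := tab 1297870456642867974540087993457274127717323227189

/-- table -/
abbrev mC3 : Matrix F9 F9 F4 := tab 924115892207770675690464929241712794928413376573

/-- table -/
abbrev mC4 : Matrix F9 F9 F4 := tab 18912774350862524485049231554672956943363260421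

/-- table -/
abbrev mC5 : Matrix F9 F9 F4 := tab 658569499135656701125452278440400192312193761317

/-- table -/
abbrev mC6 : Matrix F9 F9 F4 := tab 1552867894558289248806893528650614150962782208017

/-- table -/
abbrev mC7 : Matrix F9 F9 F4 := tab 1380673553756354223450894410142782720750696169517

/-- table -/
abbrev mC8 : Matrix F9 F9 F4 := tab 1019764218284451946614245664403666854299072086057

/-- table -/
abbrev mC9 : Matrix F9 F9 F4 := tab 10349636739473609861675851988935725691906326541

/-- table -/
abbrev mC10 : Matrix F9 F9 F4 := tab 467273892010698877913094208621088730810579255325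

/-- table -/
abbrev mC11 : Matrix F9 F9 F4 := tab 1644234129346982993861698422652942556928109903921

/-- table -/
abbrev mC12 : Matrix F9 F9 F4 := tab 1202223175594591422251510658799916725586367430681

/-- table -/
abbrev mC13 : Matrix F9 F9 F4 := tab 841312795030465845259033414805121620214542614549

/-- table -/
abbrev mC14 : Matrix F9 F9 F4 := tab 14631728091279717251276790899643960777735159817

/-- table -/
abbrev mTC0 : Matrix F9 F9 F4 := tab 1245266608948962154881664150108849819486755443515

theorem hTC0 : mT * mC0 = mTC0 := by decide +kernel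

theorem hTCT0 : mTC0 * mTi = mC1 := by decide +kernel

/-- table -/
abbrev mTC1 : Matrix F9 F9 F4 := tab 1075241330660558368082870524720583549367167423283

theorem hTC1 : mT * mC1 = mTC1 := by decide +kernel

theorem hTCT1 : mTC1 * mTi = mC2 := by decide +kernel

/-- table -/
abbrev mTC2 : Matrix F9 F9 F4 := tab 5091723210744499371952281675003010499923641422599

theorem hTC2 : mT * mC2 = mTC2 := by decide +kernel

theorem hTCT2 : mTC2 * mTi = mC3 := by decide +kernel

/-- table -/
abbrev mTC3 : Matrix F9 F9 F4 := tab 2977090182995440101741955932882140446059062268719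

theorem hTC3 : mT * mC3 = mTC3 := by decide +kernel

theorem hTCT3 : mTC3 * mTi = mC4 := by decide +kernel

/-- table -/
abbrev mTC4 : Matrix F9 F9 F4 := tab 2667840311546059818960430597543845496061237515031

theorem hTC4 : mT * mC4 = mTC4 := by decide +kernel

theorem hTCT4 : mTC4 * mTi = mC5 := by decide +kernel

/-- table -/
abbrev mTC5 : Matrix F9 F9 F4 := tab 1365109975179473518973308985497975084258121929511

theorem hTC5 : mT * mC5 = mTC5 := by decide +kernel

theorem hTCT5 : mTC5 * mTi = mC6 := by decide +kernel

/-- table -/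
abbrev mTC6 : Matrix F9 F9 F4 := tab 849690978311318653337852945379193573723884884771

theorem hTC6 : mT * mC6 = mTC6 := by decide +kernel

theorem hTCT6 : mTC6 * mTi = mC7 := by decide +kernel

/-- table -/
abbrev mTC7 : Matrix F9 F9 F4 := tab 4919026016765643176272220755303020618216839090959

theorem hTC7 : mT * mC7 = mTC7 := by decide +kernel

theorem hTCT7 : mTC7 * mTi = mC8 := by decide +kernel

/-- table -/
abbrev mTC8 : Matrix F9 F9 F4 := tab 3008512128786084756684183061866914023175181128475

theorem hTC8 : mT * mC8 = mTC8 := by decide +kernel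

theorem hTCT8 : mTC8 * mTi = mC9 := by decide +kernel

/-- table -/
abbrev mTC9 : Matrix F9 F9 F4 := tab 2750643294074781334656626806416949557925281502015

theorem hTC9 : mT * mC9 = mTC9 := by decide +kernel

theorem hTCT9 : mTC9 * mTi = mC10 := by decide +kernel

/-- table -/
abbrev mTC10 : Matrix F9 F9 F4 := tab 1399386607083796651441864756908164009478436524831

theorem hTC10 : mT * mC10 = mTC10 := by decide +kernel

theorem hTCT10 : mTC10 * mTi = mC11 := by decide +kernel

/-- table -/
abbrev mTC11 : Matrix F9 F9 F4 := tab 962466293353055574048593197878173344506531091219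

theorem hTC11 : mT * mC11 = mTC11 := by decide +kernel

theorem hTCT11 : mTC11 * mTi = mC12 := by decide +kernel

/-- table -/
abbrev mTC12 : Matrix F9 F9 F4 := tab 4968979805853542882639717420499612701557689701131

theorem hTC12 : mT * mC12 = mTC12 := by decide +kernel

theorem hTCT12 : mTC12 * mTi = mC13 := by decide +kernel

/-- table -/
abbrev mTC13 : Matrix F9 F9 F4 := tab 2967144703840791133941005433012107137229158601527

theorem hTC13 : mT * mC13 = mTC13 := by decide +kernel

theorem hTCT13 : mTC13 * mTi = mC14 := by decide +kernel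

theorem hZ1 : mU * mC1 = mC12 := by decide +kernel

theorem hZ2 : mU * mC2 = mC9 := by decide +kernel

theorem hZ3 : mU * mC3 = mC4 := by decide +kernel

theorem hZ4 : mU * mC4 = mC3 := by decide +kernel

theorem hZ5 : mU * mC5 = mC10 := by decide +kernel

theorem hZ6 : mU * mC6 = mC8 := by decide +kernel

theorem hZ7 : mU * mC7 = mC13 := by decide +kernel

theorem hZ8 : mU * mC8 = mC6 := by decide +kernel

theorem hZ9 : mU * mC9 = mC2 := by decide +kernel

theorem hZ10 : mU * mC10 = mC5 := by decide +kernel

theorem hZ11 : mU * mC11 = mC14 := by decide +kernel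

theorem hZ12 : mU * mC12 = mC1 := by decide +kernel

theorem hZ13 : mU * mC13 = mC7 := by decide +kernel

theorem hZ14 : mU * mC14 = mC11 := by decide +kernel

theorem hC3 : mC3 ≠ mU := by decide +kernel

theorem hC5 : mC5 ≠ mU := by decide +kernel

/-- table -/
abbrev mFC : Matrix F9 F9 F4 := tab 435311593260364001822345130924278659059196567600

/-- table -/
abbrev mCF : Matrix F9 F9 F4 := tab 91572505760837545190524044335978433440617897996

theorem hFC : mF * mC1 = mFC := by decide +kernel

theorem hCF : mC1 * mF = mCF := by decide +kernel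

theorem hFCne : mFC ≠ mCF := by decide +kernel

/-- table -/
abbrev mG : Matrix F9 F9 F4 := tab 5396420590856497115161294112892692387397244621166

theorem hG : mNU * mT = mG := by decide +kernel

/-- table -/
abbrev mG2 : Matrix F9 F9 F4 := tab 1339216092767801419127207127503484452498957351150

/-- table -/
abbrev mG4 : Matrix F9 F9 F4 := tab 5154919435540442965846760307625196645368886826098

/-- table -/
abbrev mG8 : Matrix F9 F9 F4 := tab 550250630374220586081166796716321795873586640791

/-- table -/
abbrev mG16 : Matrix F9 F9 F4 := tab 3736932934632877710487808128762481201517321388319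

theorem hG2 : mG * mG = mG2 := by decide +kernel

theorem hG4 : mG2 * mG2 = mG4 := by decide +kernel

theorem hG8 : mG4 * mG4 = mG8 := by decide +kernel

theorem hG16 : mG8 * mG8 = mG16 := by decide +kernel

theorem hG17 : mG16 * mG = 1 := by decide +kernel

theorem hGne : mG ≠ 1 := by decide +kernel

/-- The involution `u`. -/
def u : GL F9 F4 := mkU mU mU hUU
/-- The torus generator `t`. -/
def t : GL F9 F4 := mkU mT mTi hTTi
/-- The field involution `f`. -/
def f : GL F9 F4 := mkU mF mF hFF
/-- The Weyl involution `n`. -/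
def n : GL F9 F4 := mkU mN mN hNN

theorem coe_u : (u : Matrix F9 F9 F4) = mU := rfl
theorem coe_t : (t : Matrix F9 F9 F4) = mT := rfl
theorem coe_f : (f : Matrix F9 F9 F4) = mF := rfl
theorem coe_n : (n : Matrix F9 F9 F4) = mN := rfl
theorem coe_ti : ((t⁻¹ : GL F9 F4) : Matrix F9 F9 F4) = mTi := rfl

theorem u_mem : u ∈ threeJ3 F4 F4.w := mem_of_inG wu0
theorem t_mem : t ∈ threeJ3 F4 F4.w := mem_of_inG wt0
theorem f_mem : f ∈ threeJ3 F4 F4.w := mem_of_inG wf0
theorem n_mem : n ∈ threeJ3 F4 F4.w := mem_of_inG wn0

theorem c_step {k : ℕ} {A B C : Matrix F9 F9 F4}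
    (hk : ((t ^ k * u * (t ^ k)⁻¹ : GL F9 F4) : Matrix F9 F9 F4) = A)
    (h1 : mT * A = B) (h2 : B * mTi = C) :
    ((t ^ (k + 1) * u * (t ^ (k + 1))⁻¹ : GL F9 F4) : Matrix F9 F9 F4) = C := by
  have e : t ^ (k + 1) * u * (t ^ (k + 1))⁻¹ = t * (t ^ k * u * (t ^ k)⁻¹) * t⁻¹ := by
    rw [pow_succ', mul_inv_rev]; group
  rw [e, Units.val_mul, Units.val_mul, hk, coe_t, coe_ti, h1, h2]

theorem c0 : ((t ^ 0 * u * (t ^ 0)⁻¹ : GL F9 F4) : Matrix F9 F9 F4) = mC0 := by
  rw [pow_zero, inv_one, mul_one, one_mul]; rfl

theorem c1 : ((t ^ 1 * u * (t ^ 1)⁻¹ : GL F9 F4) : Matrix F9 F9 F4) = mC1 :=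
  c_step c0 hTC0 hTCT0

theorem c2 : ((t ^ 2 * u * (t ^ 2)⁻¹ : GL F9 F4) : Matrix F9 F9 F4) = mC2 :=
  c_step c1 hTC1 hTCT1

theorem c3 : ((t ^ 3 * u * (t ^ 3)⁻¹ : GL F9 F4) : Matrix F9 F9 F4) = mC3 :=
  c_step c2 hTC2 hTCT2

theorem c4 : ((t ^ 4 * u * (t ^ 4)⁻¹ : GL F9 F4) : Matrix F9 F9 F4) = mC4 :=
  c_step c3 hTC3 hTCT3

theorem c5 : ((t ^ 5 * u * (t ^ 5)⁻¹ : GL F9 F4) : Matrix F9 F9 F4) = mC5 :=
  c_step c4 hTC4 hTCT4

theorem c6 : ((t ^ 6 * u * (t ^ 6)⁻¹ : GL F9 F4) : Matrix F9 F9 F4) = mC6 :=
  c_step c5 hTC5 hTCT5

theorem c7 : ((t ^ 7 * u * (t ^ 7)⁻¹ : GL F9 F4) : Matrix F9 F9 F4) = mC7 :=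
  c_step c6 hTC6 hTCT6

theorem c8 : ((t ^ 8 * u * (t ^ 8)⁻¹ : GL F9 F4) : Matrix F9 F9 F4) = mC8 :=
  c_step c7 hTC7 hTCT7

theorem c9 : ((t ^ 9 * u * (t ^ 9)⁻¹ : GL F9 F4) : Matrix F9 F9 F4) = mC9 :=
  c_step c8 hTC8 hTCT8

theorem c10 : ((t ^ 10 * u * (t ^ 10)⁻¹ : GL F9 F4) : Matrix F9 F9 F4) = mC10 :=
  c_step c9 hTC9 hTCT9

theorem c11 : ((t ^ 11 * u * (t ^ 11)⁻¹ : GL F9 F4) : Matrix F9 F9 F4) = mC11 :=
  c_step c10 hTC10 hTCT10

theorem c12 : ((t ^ 12 * u * (t ^ 12)⁻¹ : GL F9 F4) : Matrix F9 F9 F4) = mC12 :=
  c_step c11 hTC11 hTCT11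

theorem c13 : ((t ^ 13 * u * (t ^ 13)⁻¹ : GL F9 F4) : Matrix F9 F9 F4) = mC13 :=
  c_step c12 hTC12 hTCT12

theorem c14 : ((t ^ 14 * u * (t ^ 14)⁻¹ : GL F9 F4) : Matrix F9 F9 F4) = mC14 :=
  c_step c13 hTC13 hTCT13

theorem pow4 : ((t ^ 4 : GL F9 F4) : Matrix F9 F9 F4) = mT4 := by
  have e : t ^ 4 = (t * t) * (t * t) := by
    simp only [pow_succ, pow_zero, one_mul, mul_assoc]
  rw [e, Units.val_mul, Units.val_mul, coe_t, hT2, hT4]

theorem pow15 : t ^ 15 = 1 := by
  have e : t ^ 15 = ((((t * t) * (t * t)) * ((t * t) * (t * t))) * ((t * t) * (t * t))) * (t * t) * t := by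
    simp only [pow_succ, pow_zero, one_mul, mul_assoc]
  apply Units.ext
  rw [e]
  simp only [Units.val_mul, coe_t]
  rw [hT2, hT4, hT8, hT12, hT14, hT15]
  rfl

/-- The relations hold. -/
theorem rel : L216Two.Rel u t f n where
  uu := Units.ext (by rw [Units.val_mul, coe_u, hUU]; rfl)
  tt := pow15
  ff := Units.ext (by rw [Units.val_mul, coe_f, hFF]; rfl)
  nn := Units.ext (by rw [Units.val_mul, coe_n, hNN]; rfl)
  ftf := Units.ext (by rw [Units.val_mul, Units.val_mul, coe_f, coe_t, hFT, hFTF, pow4])
  fu := Units.ext (by rw [Units.val_mul, Units.val_mul, coe_f, coe_u, hFU, hUF])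
  ntn := Units.ext (by rw [Units.val_mul, Units.val_mul, coe_n, coe_t, hNT, hNTN, coe_ti])
  nf := Units.ext (by rw [Units.val_mul, Units.val_mul, coe_f, coe_n, hNF, hFN])
  nun := Units.ext (by
    rw [Units.val_mul, Units.val_mul, Units.val_mul, Units.val_mul, coe_n, coe_u, hNU, hNUN, hUN, hUNU])
  zech := by
    intro k hk hk'
    interval_cases k
    · exact ⟨12, Units.ext (by rw [Units.val_mul, c1, c12, coe_u, hZ1])⟩
    · exact ⟨9, Units.ext (by rw [Units.val_mul, c2, c9, coe_u, hZ2])⟩
    · exact ⟨4, Units.ext (by rw [Units.val_mul, c3, c4, coe_u, hZ3])⟩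
    · exact ⟨3, Units.ext (by rw [Units.val_mul, c4, c3, coe_u, hZ4])⟩
    · exact ⟨10, Units.ext (by rw [Units.val_mul, c5, c10, coe_u, hZ5])⟩
    · exact ⟨8, Units.ext (by rw [Units.val_mul, c6, c8, coe_u, hZ6])⟩
    · exact ⟨13, Units.ext (by rw [Units.val_mul, c7, c13, coe_u, hZ7])⟩
    · exact ⟨6, Units.ext (by rw [Units.val_mul, c8, c6, coe_u, hZ8])⟩
    · exact ⟨2, Units.ext (by rw [Units.val_mul, c9, c2, coe_u, hZ9])⟩
    · exact ⟨5, Units.ext (by rw [Units.val_mul, c10, c5, coe_u, hZ10])⟩
    · exact ⟨14, Units.ext (by rw [Units.val_mul, c11, c14, coe_u, hZ11])⟩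
    · exact ⟨1, Units.ext (by rw [Units.val_mul, c12, c1, coe_u, hZ12])⟩
    · exact ⟨7, Units.ext (by rw [Units.val_mul, c13, c7, coe_u, hZ13])⟩
    · exact ⟨11, Units.ext (by rw [Units.val_mul, c14, c11, coe_u, hZ14])⟩

theorem ne3 : t ^ 3 * u ≠ u * t ^ 3 := by
  intro h
  apply hC3
  rw [← c3, h, mul_inv_cancel_right]; rfl

theorem ne5 : t ^ 5 * u ≠ u * t ^ 5 := by
  intro h
  apply hC5
  rw [← c5, h, mul_inv_cancel_right]; rfl

theorem nef : f * (t * u * t⁻¹) ≠ (t * u * t⁻¹) * f := by
  intro h
  have h1 : ((t * u * t⁻¹ : GL F9 F4) : Matrix F9 F9 F4) = mC1 := by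
    have := c1
    rwa [pow_one] at this
  apply hFCne
  have h2 := congrArg (fun x : GL F9 F4 => (x : Matrix F9 F9 F4)) h
  simp only [Units.val_mul f, Units.val_mul (t * u * t⁻¹), h1, coe_f] at h2
  rw [hFC, hCF] at h2
  exact h2

theorem coe_g : ((n * u * t : GL F9 F4) : Matrix F9 F9 F4) = mG := by
  rw [Units.val_mul, Units.val_mul, coe_n, coe_u, coe_t, hNU, hG]

theorem g17 : (n * u * t) ^ 17 = 1 := by
  have e : ∀ g : GL F9 F4, g ^ 17 = (((g * g) * (g * g)) * ((g * g) * (g * g))) *
      (((g * g) * (g * g)) * ((g * g) * (g * g))) * g := by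
    intro g
    simp only [pow_succ, pow_zero, one_mul, mul_assoc]
  have e2 : ∀ g : GL F9 F4, (g : Matrix F9 F9 F4) = mG → g ^ 17 = 1 := by
    intro g hg
    apply Units.ext
    rw [e]
    simp only [Units.val_mul, hg]
    rw [hG2, hG4, hG8, hG16, hG17]
    rfl
  exact e2 _ coe_g

theorem g_ne : n * u * t ≠ 1 := by
  intro h
  apply hGne
  rw [← coe_g, h]; rfl

end Cfsg.Agent.SporadicB.J3Sub
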