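import Cfsg.Agent.SporadicB.GraphRefine

/-!
# Groups generated by nets: orbits as bit sets, blocks, coprime generation
-/

set_option autoImplicit false

namespace Cfsg.Agent.SporadicB.NetSimple

open Cfsg.Agent.SporadicB.PermNet Cfsg.Agent.SporadicB.NetGroup
  Cfsg.Agent.SporadicB.GraphRefine

/-- The group generated by a list of nets. -/
def grp (L : List Net) : Subgroup (Equiv.Perm Nat) := Subgroup.closure {g | ∃ l ∈ L, g = netPerm l}

theorem netPerm_mem {L : List Net} {l : Net} (h : l ∈ L) : netPerm l ∈ grp L :=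
  Subgroup.subset_closure ⟨l, h, rfl⟩

theorem grp_le {L : List Net} {H : Subgroup (Equiv.Perm Nat)} (h : ∀ l ∈ L, netPerm l ∈ H) :
    grp L ≤ H := by
  unfold grp
  rw [Subgroup.closure_le]
  rintro _ ⟨l, hl, rfl⟩
  exact h l hl

/-- The bit vector of the interval `[a, a + m)`. -/
def mask (m a : Nat) : Nat := Nat.shiftLeft (Nat.sub (Nat.pow 2 m) 1) a

/-- The bit vector of `[0, n)`. -/
def full (n : Nat) : Nat := Nat.sub (Nat.pow 2 n) 1

theorem InvSet.full {g : Equiv.Perm Nat} {n : Nat} (h : ∀ i, n ≤ i → g i = i) :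
    InvSet g (full n) := InvSet.all h

theorem eq_one_of_sortedK_full {g : Equiv.Perm Nat} {n : Nat} (hg : ∀ i, n ≤ i → g i = i)
    {Q : List Nat} (hQ : ∀ q ∈ Q, InvSet g q)
    {L : List Nat} (h : sortedK Q (full n) L 0 0 = true) : g = 1 :=
  eq_one_of_sortedK (target := 2 ^ n - 1) hg hQ (Nat.beq_refl _) h

/-- Kernel test `c < 2 ^ 2 ^ k`. -/
def ltPow (k c : Nat) : Bool := Nat.ble (Nat.succ c) (Nat.pow 2 (Nat.pow 2 k))

theorem ltPow_spec {k c : Nat} (h : ltPow k c = true) : c < 2 ^ 2 ^ k := Nat.le_of_ble_eq_true h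

theorem testBit_mask (m a i : Nat) : (mask m a).testBit i = (decide (a ≤ i) && decide (i < a + m)) := by
  have e : mask m a = (2 ^ m - 1) <<< a := rfl
  rw [e, Nat.testBit_shiftLeft, Nat.testBit_two_pow_sub_one]
  by_cases h : a ≤ i
  · simp only [ge_iff_le, h, decide_true, Bool.true_and, decide_eq_decide]
    omega
  · simp [h]

theorem bitSet_mask (m a : Nat) : bitSet (mask m a) = Set.Ico a (a + m) := by
  ext i
  rw [mem_bitSet, testBit_mask, Set.mem_Ico, Bool.and_eq_true, decide_eq_true_eq,
    decide_eq_true_eq]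

theorem ncard_bitSet_mask (m a : Nat) : (bitSet (mask m a)).ncard = m := by
  rw [bitSet_mask, ← Finset.coe_Ico, Set.ncard_coe_finset, Nat.card_Ico]
  omega

/-- An orbit is a bit set as soon as the bit set is reached and invariant. -/
theorem orbit_eq {H : Subgroup (Equiv.Perm Nat)} {b X : Nat}
    (h1 : ∀ i, X.testBit i = true → i ∈ MulAction.orbit H b)
    (h2 : ∀ g ∈ H, ∀ i, X.testBit (g i) = X.testBit i) (hb : X.testBit b = true) :
    MulAction.orbit H b = bitSet X := by
  ext i
  constructor
  · rintro ⟨g, rfl⟩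
    have h3 := h2 g g.2 b
    rw [hb] at h3
    exact h3
  · exact h1 i

/-- Kernel equality test (irreducible for the elaborator). -/
def eqb (a b : Nat) : Bool := Nat.beq a b

theorem eqb_spec {a b : Nat} (h : eqb a b = true) : a = b := Nat.eq_of_beq_eq_true h

/-- Kernel test for an orbit computation. -/
noncomputable def reach (ns : List Net) (r b X : Nat) : Bool :=
  Nat.beq (rounds ns r (Nat.shiftLeft 1 b)) X

theorem mem_orbit_of_reach {H : Subgroup (Equiv.Perm Nat)} {ns : List Net}
    (hv : ∀ n ∈ ns, Valid n) (hH : ∀ n ∈ ns, netPerm n ∈ H) {r b X : Nat}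
    (hX : reach ns r b X = true) {i : Nat} (hi : X.testBit i = true) :
    i ∈ MulAction.orbit H b := mem_orbit_of_rounds hv hH hX hi

/-- The orbit reached by `rounds` from `b`, when invariant, is the whole orbit. -/
theorem orbit_eq_of_rounds {H : Subgroup (Equiv.Perm Nat)} {ns : List Net}
    (hv : ∀ n ∈ ns, Valid n) (hH : ∀ n ∈ ns, netPerm n ∈ H) {r b X : Nat}
    (hX : reach ns r b X = true)
    (h2 : ∀ g ∈ H, ∀ i, X.testBit (g i) = X.testBit i) (hb : X.testBit b = true) :
    MulAction.orbit H b = bitSet X :=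
  orbit_eq (fun _ hi => mem_orbit_of_rounds hv hH hX hi) h2 hb

theorem tb_mask {m a i : Nat} (h1 : a ≤ i) (h2 : i < a + m) : (mask m a).testBit i = true := by
  rw [testBit_mask, decide_eq_true h1, decide_eq_true h2]
  rfl

theorem InvSet.mask0 {g : Equiv.Perm Nat} {n : Nat} (h : ∀ i, n ≤ i → g i = i) :
    InvSet g (mask n 0) := by
  intro i
  rw [testBit_mask, testBit_mask, Nat.zero_add, decide_eq_true (Nat.zero_le _),
    decide_eq_true (Nat.zero_le _), Bool.true_and, Bool.true_and, decide_eq_decide]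
  constructor
  · intro h1
    by_contra hc
    rw [h i (by omega)] at h1
    exact hc h1
  · exact fun h1 => lt_of_fix_ge h h1

theorem ncard_bitSet_of {k x m : Nat} (h1 : ltPow k x = true) (h2 : eqb (pop k x) m = true) :
    (bitSet x).ncard = m := by
  rw [ncard_bitSet k x (ltPow_spec h1)]
  exact eqb_spec h2

attribute [irreducible] eqb reach mask full ltPow

/-- All sums of sublists. -/
def subsetSums : List Nat → List Nat
  | [] => [0]
  | a :: l => subsetSums l ++ (subsetSums l).map (fun b => a + b)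

theorem ncard_mem_subsetSums (cells : List (Set Nat)) (B : Set Nat) (hfin : B.Finite)
    (hcov : ∀ i ∈ B, ∃ c ∈ cells, i ∈ c) (hd : cells.Pairwise Disjoint)
    (h : ∀ c ∈ cells, c ⊆ B ∨ Disjoint c B) :
    B.ncard ∈ subsetSums (cells.map Set.ncard) := by
  induction cells generalizing B with
  | nil =>
    have : B = ∅ := by
      ext i
      constructor
      · intro hi
        obtain ⟨c, hc, _⟩ := hcov i hi
        exact absurd hc (by simp)
      · intro hi
        exact absurd hi (by simp)
    rw [this]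
    simp [subsetSums]
  | cons c cs ih =>
    rw [List.pairwise_cons] at hd
    rw [List.map_cons, subsetSums, List.mem_append]
    rcases h c List.mem_cons_self with hc | hc
    · right
      rw [List.mem_map]
      refine ⟨(B \ c).ncard, ih (B \ c) (hfin.subset Set.sdiff_subset) ?_ hd.2 ?_, ?_⟩
      · intro i hi
        obtain ⟨c', hc', hi'⟩ := hcov i hi.1
        rcases List.mem_cons.1 hc' with rfl | hc'
        · exact absurd hi' hi.2
        · exact ⟨c', hc', hi'⟩
      · intro c' hc'
        rcases h c' (List.mem_cons_of_mem _ hc') with h3 | h3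
        · left
          intro i hi
          exact ⟨h3 hi, fun hic => Set.disjoint_left.1 (hd.1 c' hc') hic hi⟩
        · right
          exact h3.mono_right Set.sdiff_subset
      · rw [add_comm]
        exact Set.ncard_sdiff_add_ncard_of_subset hc hfin
    · left
      refine ih B hfin ?_ hd.2 (fun c' hc' => h c' (List.mem_cons_of_mem _ hc'))
      intro i hi
      obtain ⟨c', hc', hi'⟩ := hcov i hi
      rcases List.mem_cons.1 hc' with rfl | hc'
      · exact absurd hi (Set.disjoint_left.1 hc hi')
      · exact ⟨c', hc', hi'⟩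

/-- Orbits of normal subgroups are unions of cells, so their size is a subset sum. -/
theorem ncard_orbit_normal_mem {H : Subgroup (Equiv.Perm Nat)} [Finite H] (x : Nat)
    (ns : List Net) (hH : ∀ n ∈ ns, netPerm n ∈ H)
    (hx : ∀ n ∈ ns, netPerm n x = x) (cells : List Nat)
    (hcell : ∀ c ∈ cells, ∃ r, ∀ i, c.testBit i = true → i ∈ MulAction.orbit (grp ns) r)
    (hcov : ∀ i ∈ MulAction.orbit H x, ∃ c ∈ cells, c.testBit i = true)
    (hd : cells.Pairwise (fun c d => c &&& d = 0))
    (N : Subgroup H) (hN : N.Normal) :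
    (MulAction.orbit N x).ncard ∈ subsetSums (cells.map fun c => (bitSet c).ncard) := by
  have hsub : MulAction.orbit N x ⊆ MulAction.orbit H x := by
    rintro _ ⟨n, rfl⟩
    exact ⟨n, rfl⟩
  have hfin : (MulAction.orbit N x).Finite := Set.finite_range _
  have hinv : ∀ g ∈ grp ns, ∀ y ∈ MulAction.orbit N x, g y ∈ MulAction.orbit N x := by
    intro g hg
    unfold grp at hg
    refine Subgroup.closure_induction (p := fun g _ => ∀ y ∈ MulAction.orbit N x,
      g y ∈ MulAction.orbit N x) ?_ ?_ ?_ ?_ hg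
    · rintro _ ⟨l, hl, rfl⟩ y hy
      exact smul_mem_orbit_normal x N hN (⟨netPerm l, hH l hl⟩ : H) (hx l hl) hy
    · intro y hy
      exact hy
    · intro a b _ _ ha hb y hy
      exact ha _ (hb y hy)
    · intro a _ ha y hy
      -- an injective self-map of a finite set is surjective
      have himg : a '' MulAction.orbit N x = MulAction.orbit N x := by
        apply Set.eq_of_subset_of_ncard_le _ _ hfin
        · rintro _ ⟨z, hz, rfl⟩
          exact ha z hz
        · rw [Set.ncard_image_of_injective _ a.injective]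
      rw [← himg] at hy
      obtain ⟨z, hz, hzy⟩ := hy
      have : a⁻¹ y = z := by rw [Equiv.Perm.inv_eq_iff_eq, hzy]
      rw [this]
      exact hz
  have key := ncard_mem_subsetSums (cells.map bitSet) (MulAction.orbit N x) hfin ?_ ?_ ?_
  · rw [List.map_map] at key
    exact key
  · intro i hi
    obtain ⟨c, hc, hci⟩ := hcov i (hsub hi)
    exact ⟨bitSet c, List.mem_map_of_mem hc, hci⟩
  · rw [List.pairwise_map]
    refine hd.imp ?_
    intro c d hcd
    rw [Set.disjoint_left]
    intro i hi hi'
    have := congrArg (fun z => Nat.testBit z i) hcd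
    simp only [Nat.testBit_land, Nat.zero_testBit] at this
    rw [mem_bitSet] at hi hi'
    rw [hi, hi'] at this
    exact absurd this (by simp)
  · intro c hc
    rw [List.mem_map] at hc
    obtain ⟨c, hc, rfl⟩ := hc
    obtain ⟨r, hr⟩ := hcell c hc
    by_cases h : ∃ i, i ∈ bitSet c ∧ i ∈ MulAction.orbit N x
    · left
      obtain ⟨i, hi, hi'⟩ := h
      obtain ⟨g, hg⟩ := hr i hi
      have hgi : (g : Equiv.Perm Nat) r = i := hg
      have hrmem : r ∈ MulAction.orbit N x := by
        have h5 := hinv _ (g⁻¹).2 i hi'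
        have h6 : ((g⁻¹ : grp ns) : Equiv.Perm Nat) i = r := by
          rw [Subgroup.coe_inv, Equiv.Perm.inv_eq_iff_eq, hgi]
        rw [h6] at h5
        exact h5
      intro j hj
      obtain ⟨k, hk⟩ := hr j hj
      have hkj : (k : Equiv.Perm Nat) r = j := hk
      rw [← hkj]
      exact hinv _ k.2 r hrmem
    · right
      rw [Set.disjoint_left]
      intro i hi hi'
      exact h ⟨i, hi, hi'⟩

/-- Elements of a subgroup of `Perm ℕ` generating it, seen inside the subgroup. -/
theorem closure_preimage_eq_top {H : Subgroup (Equiv.Perm Nat)} {L : List Net} (hL : H = grp L)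
    (E : Set H) (hE : ∀ l ∈ L, ∃ h : netPerm l ∈ H, (⟨netPerm l, h⟩ : H) ∈ Subgroup.closure E) :
    Subgroup.closure E = ⊤ := by
  subst hL
  rw [eq_top_iff]
  rintro ⟨g, hg⟩ _
  unfold grp at hg
  have : ∃ h : g ∈ grp L, (⟨g, h⟩ : grp L) ∈ Subgroup.closure E := by
    refine Subgroup.closure_induction (p := fun g _ => ∃ h : g ∈ grp L,
      (⟨g, h⟩ : grp L) ∈ Subgroup.closure E) ?_ ?_ ?_ ?_ hg
    · rintro _ ⟨l, hl, rfl⟩
      exact hE l hl
    · exact ⟨one_mem _, one_mem _⟩
    · rintro a b _ _ ⟨ha, ha'⟩ ⟨hb, hb'⟩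
      exact ⟨mul_mem ha hb, mul_mem ha' hb'⟩
    · rintro a _ ⟨ha, ha'⟩
      exact ⟨inv_mem ha, inv_mem ha'⟩
  exact this.2

end Cfsg.Agent.SporadicB.NetSimple
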