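import Cfsg.Agent.SporadicB.NetSimple
import Cfsg.Agent.SporadicB.RuCheckA1
import Cfsg.Agent.SporadicB.RuCheckA2
import Cfsg.Agent.SporadicB.RuCheckR
import Cfsg.Agent.SporadicB.RuCheckW
import Cfsg.Agent.SporadicB.RuCheckP

/-!
# The Rudvalis group on 4060 points: order and simplicity, and the Tits group in a point stabiliser
-/

set_option autoImplicit false

namespace Cfsg.Agent.SporadicB.RuMain

open Cfsg.Agent.SporadicB Cfsg.Agent.SporadicB.PermNet Cfsg.Agent.SporadicB.NetGroup
  Cfsg.Agent.SporadicB.GraphRefine Cfsg.Agent.SporadicB.RuNets Cfsg.Agent.SporadicB.NetSimple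

noncomputable def gensT : List Net := [u1, u2, v1, v2, x1, x2]
noncomputable def gensG : List Net := [u1, u2, v1, v2, x1, x2, k0, g0]

/-- The Rudvalis group, as a group of permutations of `[0, 4060)`. -/
noncomputable def G : Subgroup (Equiv.Perm Nat) := grp gensG
/-- The Tits group inside the stabiliser of `0`. -/
noncomputable def T : Subgroup (Equiv.Perm Nat) := grp gensT

/-- Automorphism group of the orthogonality graph. -/
noncomputable def A : Subgroup (Equiv.Perm Nat) :=
  autGroup (get RuRows.tree 12) (2 ^ 12) 4060 (by norm_num)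

/-- Automorphism group of the auxiliary relation. -/
noncomputable def R : Subgroup (Equiv.Perm Nat) :=
  autGroup (get RuRel.tree 12) (2 ^ 12) 4060 (by norm_num)

theorem memA {l : Net} (ho : okNet (2 ^ 12) l = true) (hf : fixHi 12 4060 l 12 = true)
    (h : autTest l RuRows.tree 12 = true) : netPerm l ∈ A :=
  mem_autGroup (by norm_num) ho hf RuCheckP.perf h

theorem memR {l : Net} (ho : okNet (2 ^ 12) l = true) (hf : fixHi 12 4060 l 12 = true)
    (h : autTest l RuRel.tree 12 = true) : netPerm l ∈ R :=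
  mem_autGroup (by norm_num) ho hf RuCheckR.perf h

theorem ok_all : ∀ l ∈ gensG, okNet (2 ^ 12) l = true := by
  intro l hl
  simp only [gensG, List.mem_cons, List.not_mem_nil, or_false] at hl
  rcases hl with rfl | rfl | rfl | rfl | rfl | rfl | rfl | rfl
  · exact RuCheckW.ok_u1
  · exact RuCheckW.ok_u2
  · exact RuCheckW.ok_v1
  · exact RuCheckW.ok_v2
  · exact RuCheckW.ok_x1
  · exact RuCheckW.ok_x2
  · exact RuCheckW.ok_k0
  · exact RuCheckW.ok_g0

theorem subT : ∀ l ∈ gensT, l ∈ gensG := by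
  intro l hl
  simp only [gensT, List.mem_cons, List.not_mem_nil, or_false] at hl
  simp only [gensG, List.mem_cons, List.not_mem_nil, or_false]
  tauto

theorem valid_of {ns : List Net} (h : ∀ l ∈ ns, l ∈ gensG) : ∀ l ∈ ns, Valid l :=
  fun l hl => (okNet_spec (ok_all l (h l hl))).1

theorem G_le_A : G ≤ A := by
  apply grp_le
  intro l hl
  simp only [gensG, List.mem_cons, List.not_mem_nil, or_false] at hl
  rcases hl with rfl | rfl | rfl | rfl | rfl | rfl | rfl | rfl
  · exact memA RuCheckW.ok_u1 RuCheckW.fix_u1 RuCheckA1.aut_u1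
  · exact memA RuCheckW.ok_u2 RuCheckW.fix_u2 RuCheckA1.aut_u2
  · exact memA RuCheckW.ok_v1 RuCheckW.fix_v1 RuCheckA1.aut_v1
  · exact memA RuCheckW.ok_v2 RuCheckW.fix_v2 RuCheckA1.aut_v2
  · exact memA RuCheckW.ok_x1 RuCheckW.fix_x1 RuCheckA2.aut_x1
  · exact memA RuCheckW.ok_x2 RuCheckW.fix_x2 RuCheckA2.aut_x2
  · exact memA RuCheckW.ok_k0 RuCheckW.fix_k0 RuCheckA2.aut_k0
  · exact memA RuCheckW.ok_g0 RuCheckW.fix_g0 RuCheckA2.aut_g0

theorem T_le_R : T ≤ R := by
  apply grp_le
  intro l hl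
  simp only [gensT, List.mem_cons, List.not_mem_nil, or_false] at hl
  rcases hl with rfl | rfl | rfl | rfl | rfl | rfl
  · exact memR RuCheckW.ok_u1 RuCheckW.fix_u1 RuCheckR.rel_u1
  · exact memR RuCheckW.ok_u2 RuCheckW.fix_u2 RuCheckR.rel_u2
  · exact memR RuCheckW.ok_v1 RuCheckW.fix_v1 RuCheckR.rel_v1
  · exact memR RuCheckW.ok_v2 RuCheckW.fix_v2 RuCheckR.rel_v2
  · exact memR RuCheckW.ok_x1 RuCheckW.fix_x1 RuCheckR.rel_x1
  · exact memR RuCheckW.ok_x2 RuCheckW.fix_x2 RuCheckR.rel_x2

/-! ### The stabiliser chain -/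

noncomputable def G1 := fixPt G 0
noncomputable def G2 := fixPt G1 1756
noncomputable def G3 := fixPt G2 1
noncomputable def G4 := fixPt G3 1757

theorem fix0 {l : Net} (hl : l ∈ gensG) (h : ptTest l 0 0 = true) : netPerm l ∈ G1 :=
  ⟨netPerm_mem hl, ptTest_spec (okNet_spec (ok_all l hl)).1 h⟩

theorem valid_mem {l : Net} (hl : l ∈ gensG) : Valid l := (okNet_spec (ok_all l hl)).1

theorem mu1 : u1 ∈ gensG := by simp [gensG]
theorem mu2 : u2 ∈ gensG := by simp [gensG]
theorem mv1 : v1 ∈ gensG := by simp [gensG]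
theorem mv2 : v2 ∈ gensG := by simp [gensG]
theorem mx1 : x1 ∈ gensG := by simp [gensG]
theorem mx2 : x2 ∈ gensG := by simp [gensG]
theorem mk0 : k0 ∈ gensG := by simp [gensG]
theorem mg0 : g0 ∈ gensG := by simp [gensG]

theorem u1_G1 : netPerm u1 ∈ G1 := fix0 mu1 RuCheckW.z_u1
theorem u2_G1 : netPerm u2 ∈ G1 := fix0 mu2 RuCheckW.z_u2
theorem v1_G1 : netPerm v1 ∈ G1 := fix0 mv1 RuCheckW.z_v1
theorem v2_G1 : netPerm v2 ∈ G1 := fix0 mv2 RuCheckW.z_v2
theorem x1_G1 : netPerm x1 ∈ G1 := fix0 mx1 RuCheckW.z_x1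
theorem x2_G1 : netPerm x2 ∈ G1 := fix0 mx2 RuCheckW.z_x2
theorem k0_G1 : netPerm k0 ∈ G1 := fix0 mk0 RuCheckW.z_k0

theorem u1_G2 : netPerm u1 ∈ G2 := ⟨u1_G1, ptTest_spec (valid_mem mu1) RuCheckW.b2_u1⟩
theorem u2_G2 : netPerm u2 ∈ G2 := ⟨u2_G1, ptTest_spec (valid_mem mu2) RuCheckW.b2_u2⟩
theorem v1_G2 : netPerm v1 ∈ G2 := ⟨v1_G1, ptTest_spec (valid_mem mv1) RuCheckW.b2_v1⟩
theorem v2_G2 : netPerm v2 ∈ G2 := ⟨v2_G1, ptTest_spec (valid_mem mv2) RuCheckW.b2_v2⟩
theorem k0_G2 : netPerm k0 ∈ G2 := ⟨k0_G1, ptTest_spec (valid_mem mk0) RuCheckW.b2_k0⟩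

theorem v1_G3 : netPerm v1 ∈ G3 := ⟨v1_G2, ptTest_spec (valid_mem mv1) RuCheckW.b3_v1⟩
theorem v2_G3 : netPerm v2 ∈ G3 := ⟨v2_G2, ptTest_spec (valid_mem mv2) RuCheckW.b3_v2⟩
theorem k0_G3 : netPerm k0 ∈ G3 := ⟨k0_G2, ptTest_spec (valid_mem mk0) RuCheckW.b3_k0⟩

theorem T_le_G1 : T ≤ G1 := by
  apply grp_le
  intro l hl
  simp only [gensT, List.mem_cons, List.not_mem_nil, or_false] at hl
  rcases hl with rfl | rfl | rfl | rfl | rfl | rfl
  exacts [u1_G1, u2_G1, v1_G1, v2_G1, x1_G1, x2_G1]

/-! ### Invariant sets -/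

theorem isAut {g : Equiv.Perm Nat} (hg : g ∈ G) :
    IsAut (get RuRows.tree 12) (2 ^ 12) 4060 g := G_le_A hg

theorem invAll {g : Equiv.Perm Nat} (hg : g ∈ G) : InvSet g (full 4060) :=
  InvSet.full (isAut hg).1

theorem row0 : get RuRows.tree 12 0 = RuPlanes.r0 := eqb_spec RuCheckP.row0
theorem row1 : get RuRows.tree 12 1756 = RuPlanes.r1 := eqb_spec RuCheckP.row1
theorem row2 : get RuRows.tree 12 1 = RuPlanes.r2 := eqb_spec RuCheckP.row2
theorem row3 : get RuRows.tree 12 1757 = RuPlanes.r3 := eqb_spec RuCheckP.row3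

theorem inv_r0 {g : Equiv.Perm Nat} (hg : g ∈ G1) : InvSet g RuPlanes.r0 := by
  rw [← row0]
  exact InvSet.row (isAut hg.1) (by norm_num) hg.2

theorem inv_r1 {g : Equiv.Perm Nat} (hg : g ∈ G2) : InvSet g RuPlanes.r1 := by
  rw [← row1]
  exact InvSet.row (isAut hg.1.1) (by norm_num) hg.2

theorem inv_r2 {g : Equiv.Perm Nat} (hg : g ∈ G3) : InvSet g RuPlanes.r2 := by
  rw [← row2]
  exact InvSet.row (isAut hg.1.1.1) (by norm_num) hg.2

theorem inv_r3 {g : Equiv.Perm Nat} (hg : g ∈ G4) : InvSet g RuPlanes.r3 := by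
  rw [← row3]
  exact InvSet.row (isAut hg.1.1.1.1) (by norm_num) hg.2

theorem r0_eq : RuPlanes.r0 = mask 1755 1 := eqb_spec RuCheckP.cellD1

theorem inv_D1 {g : Equiv.Perm Nat} (hg : g ∈ G1) : InvSet g (mask 1755 1) := by
  rw [← r0_eq]
  exact inv_r0 hg

theorem inv_D2 {g : Equiv.Perm Nat} (hg : g ∈ G1) : InvSet g (mask 2304 1756) := by
  have h := eqb_spec RuCheckP.cellD2
  rw [← h]
  exact (invAll hg.1).xor ((inv_D1 hg).lor (InvSet.single (b := 0) hg.2))

theorem inv_C3 {g : Equiv.Perm Nat} (hg : g ∈ G2) : InvSet g (mask 975 1) := by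
  have h : (RuPlanes.r0 ^^^ (RuPlanes.r0 &&& RuPlanes.r1)) = mask 975 1 :=
    eqb_spec RuCheckP.cell975
  rw [← h]
  exact (inv_r0 hg.1).xor ((inv_r0 hg.1).land (inv_r1 hg))

/-- Planes of counts of invariant sets are invariant. -/
theorem inv_planes {g : Equiv.Perm Nat} (hg : g ∈ G) {c : Nat} {p : List Nat} (hc : InvSet g c)
    (hlt : ltPow 12 c = true)
    (hp : listBeq (sumT RuRows.tree 12 c) p = true) : ∀ q ∈ p, InvSet g q := by
  rw [← listBeq_spec hp]
  exact InvSet.sumT (by norm_num) RuCheckP.perf (isAut hg) hc (ltPow_spec hlt)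

theorem inv_c1 {g : Equiv.Perm Nat} (hg : g ∈ G2) : InvSet g RuPlanes.c1 := by
  have h : (RuPlanes.r0 &&& RuPlanes.r1) = RuPlanes.c1 := eqb_spec RuCheckP.c1_eq
  rw [← h]
  exact (inv_r0 hg.1).land (inv_r1 hg)

theorem inv_c2 {g : Equiv.Perm Nat} (hg : g ∈ G3) : InvSet g RuPlanes.c2 := by
  have h : (RuPlanes.c1 &&& RuPlanes.r2) = RuPlanes.c2 := eqb_spec RuCheckP.c2_eq
  rw [← h]
  exact (inv_c1 hg.1).land (inv_r2 hg)

theorem inv_c3 {g : Equiv.Perm Nat} (hg : g ∈ G4) : InvSet g RuPlanes.c3 := by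
  have h : (RuPlanes.c2 &&& RuPlanes.r3) = RuPlanes.c3 := eqb_spec RuCheckP.c3_eq
  rw [← h]
  exact (inv_c2 hg.1).land (inv_r3 hg)

theorem inv_p1 {g : Equiv.Perm Nat} (hg : g ∈ G2) : ∀ q ∈ RuPlanes.p1, InvSet g q :=
  inv_planes hg.1.1 (inv_c1 hg) RuCheckP.c1_lt RuCheckP.p1_eq

theorem inv_p2 {g : Equiv.Perm Nat} (hg : g ∈ G3) : ∀ q ∈ RuPlanes.p2, InvSet g q :=
  inv_planes hg.1.1.1 (inv_c2 hg) RuCheckP.c2_lt RuCheckP.p2_eq

theorem inv_p3 {g : Equiv.Perm Nat} (hg : g ∈ G4) : ∀ q ∈ RuPlanes.p3, InvSet g q :=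
  inv_planes hg.1.1.1.1 (inv_c3 hg) RuCheckP.c3_lt RuCheckP.p3_eq

theorem inv_list3 {g : Equiv.Perm Nat} (hg : g ∈ G3) : ∀ q ∈ RuCheckP.list3, InvSet g q := by
  intro q hq
  unfold RuCheckP.list3 at hq
  simp only [List.mem_append, List.mem_cons, List.not_mem_nil, or_false] at hq
  rcases hq with ((rfl | rfl | rfl) | hq) | hq
  · exact inv_r0 hg.1.1
  · exact inv_r1 hg.1
  · exact inv_r2 hg
  · exact inv_p1 hg.1 q hq
  · exact inv_p2 hg q hq

theorem inv_C4 {g : Equiv.Perm Nat} (hg : g ∈ G3) : InvSet g (mask 16 1757) := by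
  have h := eqb_spec RuCheckP.cell16
  rw [← h]
  exact InvSet.selK (inv_list3 hg) _ _ (invAll hg.1.1.1)

theorem inv_pool {g : Equiv.Perm Nat} (hg : g ∈ G4) : ∀ q ∈ RuCheckP.pool, InvSet g q := by
  intro q hq
  unfold RuCheckP.pool at hq
  simp only [List.mem_append, List.mem_cons, List.not_mem_nil, or_false] at hq
  rcases hq with (((rfl | rfl | rfl | rfl) | hq) | hq) | hq
  · exact inv_r0 hg.1.1.1
  · exact inv_r1 hg.1.1
  · exact inv_r2 hg.1
  · exact inv_r3 hg
  · exact inv_p1 hg.1.1 q hq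
  · exact inv_p2 hg.1 q hq
  · exact inv_p3 hg q hq

theorem inv_p456 {g : Equiv.Perm Nat} (hg : g ∈ G4) {m c : Nat} {p : List Nat}
    (hm : eqb (xorSel RuCheckP.pool m) c = true)
    (hlt : ltPow 12 c = true)
    (hp : listBeq (sumT RuRows.tree 12 c) p = true) : ∀ q ∈ p, InvSet g q := by
  refine inv_planes hg.1.1.1.1 ?_ hlt hp
  rw [← eqb_spec hm]
  exact InvSet.xorSel (inv_pool hg) m

theorem inv_sep {g : Equiv.Perm Nat} (hg : g ∈ G4) : ∀ q ∈ RuCheckP.sepList, InvSet g q := by
  intro q hq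
  unfold RuCheckP.sepList at hq
  simp only [List.mem_append, List.mem_cons, List.not_mem_nil, or_false] at hq
  rcases hq with ((((((rfl | rfl | rfl | rfl) | hq) | hq) | hq) | hq) | hq) | hq
  · exact inv_r0 hg.1.1.1
  · exact inv_r1 hg.1.1
  · exact inv_r2 hg.1
  · exact inv_r3 hg
  · exact inv_p1 hg.1.1 q hq
  · exact inv_p2 hg.1 q hq
  · exact inv_p3 hg q hq
  · exact inv_p456 hg RuCheckP.c4_eq RuCheckP.c4_lt RuCheckP.p4_eq q hq
  · exact inv_p456 hg RuCheckP.c5_eq RuCheckP.c5_lt RuCheckP.p5_eq q hq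
  · exact inv_p456 hg RuCheckP.c6_eq RuCheckP.c6_lt RuCheckP.p6_eq q hq

theorem G4_eq_bot : G4 = ⊥ := by
  rw [Subgroup.eq_bot_iff_forall]
  intro g hg
  exact eq_one_of_sortedK_full (isAut hg.1.1.1.1).1 (inv_sep hg) RuCheckP.sorted1

/-! ### Orbits and orders -/

theorem inv_M0 {g : Equiv.Perm Nat} (hg : g ∈ G) : InvSet g (mask 4060 0) :=
  InvSet.mask0 (isAut hg).1

theorem orbG : MulAction.orbit G 0 = bitSet (mask 4060 0) :=
  orbit_eq_of_rounds (ns := [g0, u1, u2, x1])
    (valid_of (by simp [mg0, mu1, mu2, mx1]))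
    (by
      intro l hl
      refine netPerm_mem ?_
      simp only [List.mem_cons, List.not_mem_nil, or_false] at hl
      rcases hl with rfl | rfl | rfl | rfl
      exacts [mg0, mu1, mu2, mx1])
    RuCheckW.orb0 (fun _ hg => inv_M0 hg) (tb_mask (by omega) (by omega))

/-- Any group between `T` and `G1` has orbit of size 2304. -/
theorem orb1_of {H : Subgroup (Equiv.Perm Nat)} (h1 : ∀ l ∈ [u1, u2, x1, x2], netPerm l ∈ H)
    (h2 : H ≤ G1) : MulAction.orbit H 1756 = bitSet (mask 2304 1756) :=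
  orbit_eq_of_rounds (valid_of (by simp [mu1, mu2, mx1, mx2])) h1
    RuCheckW.orb1 (fun _ hg => inv_D2 (h2 hg)) (tb_mask (by omega) (by omega))

theorem orb2_of {H : Subgroup (Equiv.Perm Nat)} (h1 : ∀ l ∈ [u1, u2], netPerm l ∈ H)
    (h2 : H ≤ G2) : MulAction.orbit H 1 = bitSet (mask 975 1) :=
  orbit_eq_of_rounds (valid_of (by simp [mu1, mu2])) h1
    RuCheckW.orb2 (fun _ hg => inv_C3 (h2 hg)) (tb_mask (by omega) (by omega))

theorem orbG3 : MulAction.orbit G3 1757 = bitSet (mask 16 1757) :=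
  orbit_eq_of_rounds (ns := [v1, v2, k0]) (valid_of (by simp [mv1, mv2, mk0]))
    (by
      intro l hl
      simp only [List.mem_cons, List.not_mem_nil, or_false] at hl
      rcases hl with rfl | rfl | rfl
      exacts [v1_G3, v2_G3, k0_G3])
    RuCheckW.orb3 (fun _ hg => inv_C4 hg) (tb_mask (by omega) (by omega))

theorem card_G3 : Nat.card G3 = 16 := by
  rw [card_eq_orbit_mul G3 1757, orbG3, ncard_bitSet_mask]
  have : fixPt G3 1757 = ⊥ := G4_eq_bot
  rw [this, Subgroup.card_bot]

theorem card_G2 : Nat.card G2 = 15600 := by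
  rw [card_eq_orbit_mul G2 1, orb2_of (H := G2) (by
      intro l hl
      simp only [List.mem_cons, List.not_mem_nil, or_false] at hl
      rcases hl with rfl | rfl
      exacts [u1_G2, u2_G2]) le_rfl, ncard_bitSet_mask]
  have : Nat.card (fixPt G2 1) = 16 := card_G3
  rw [this]

theorem card_G1 : Nat.card G1 = 35942400 := by
  rw [card_eq_orbit_mul G1 1756, orb1_of (H := G1) (by
      intro l hl
      simp only [List.mem_cons, List.not_mem_nil, or_false] at hl
      rcases hl with rfl | rfl | rfl | rfl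
      exacts [u1_G1, u2_G1, x1_G1, x2_G1]) le_rfl, ncard_bitSet_mask]
  have : Nat.card (fixPt G1 1756) = 15600 := card_G2
  rw [this]

theorem card_G : Nat.card G = 145926144000 := by
  rw [card_eq_orbit_mul G 0, orbG, ncard_bitSet_mask]
  have : Nat.card (fixPt G 0) = 35942400 := card_G1
  rw [this]

instance finite_G : Finite G := Nat.finite_of_card_ne_zero (by rw [card_G]; norm_num)

instance finite_G1 : Finite G1 := Nat.finite_of_card_ne_zero (by rw [card_G1]; norm_num)

instance finite_T : Finite T := Finite.of_injective _ (Subgroup.inclusion_injective T_le_G1)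

/-! ### The Tits group -/

theorem tmem {l : Net} (h : l ∈ gensT) : netPerm l ∈ T := netPerm_mem h

theorem tu1 : netPerm u1 ∈ T := tmem (by simp [gensT])
theorem tu2 : netPerm u2 ∈ T := tmem (by simp [gensT])
theorem tv1 : netPerm v1 ∈ T := tmem (by simp [gensT])
theorem tv2 : netPerm v2 ∈ T := tmem (by simp [gensT])
theorem tx1 : netPerm x1 ∈ T := tmem (by simp [gensT])
theorem tx2 : netPerm x2 ∈ T := tmem (by simp [gensT])

theorem k0_not_mem_T : netPerm k0 ∉ T := by
  intro h
  have h1 : IsAut (get RuRel.tree 12) (2 ^ 12) 4060 (netPerm k0) := T_le_R h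
  have h2 : InvSet (netPerm k0) (get RuRel.tree 12 1756) := InvSet.row h1 (by norm_num) k0_G2.2
  have h3 : run k0 (get RuRel.tree 12 1756) = get RuRel.tree 12 1756 := by
    apply Nat.eq_of_testBit_eq
    intro i
    rw [run_testBit (valid_mem mk0)]
    exact h2 i
  have h4 := RuCheckR.notrel_k0
  rw [h3] at h4
  simp at h4

theorem card_T : Nat.card T = 17971200 := by
  have e1 : Nat.card T = 2304 * Nat.card (fixPt T 1756) := by
    rw [card_eq_orbit_mul T 1756, orb1_of (H := T) (by
      intro l hl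
      simp only [List.mem_cons, List.not_mem_nil, or_false] at hl
      rcases hl with rfl | rfl | rfl | rfl
      exacts [tu1, tu2, tx1, tx2]) T_le_G1, ncard_bitSet_mask]
  have l1 : fixPt T 1756 ≤ G2 := fixPt_mono T_le_G1 1756
  have e2 : Nat.card (fixPt T 1756) = 975 * Nat.card (fixPt (fixPt T 1756) 1) := by
    rw [card_eq_orbit_mul (fixPt T 1756) 1, orb2_of (H := fixPt T 1756) (by
      intro l hl
      simp only [List.mem_cons, List.not_mem_nil, or_false] at hl
      rcases hl with rfl | rfl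
      exacts [⟨tu1, u1_G2.2⟩, ⟨tu2, u2_G2.2⟩]) l1, ncard_bitSet_mask]
  have l2 : fixPt (fixPt T 1756) 1 ≤ G3 := fixPt_mono l1 1
  have e3 := card_eq_orbit_mul (fixPt (fixPt T 1756) 1) 1757
  have l3 : fixPt (fixPt (fixPt T 1756) 1) 1757 = ⊥ := by
    rw [eq_bot_iff, ← G4_eq_bot]
    exact fixPt_mono l2 1757
  rw [l3, Subgroup.card_bot, mul_one] at e3
  -- the orbit has at least 8 points
  have h8 : 8 ≤ (MulAction.orbit (fixPt (fixPt T 1756) 1) 1757).ncard := by
    have hsub : bitSet (mask 8 1757) ⊆ MulAction.orbit (fixPt (fixPt T 1756) 1) 1757 := by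
      intro i hi
      exact mem_orbit_of_reach (ns := [v1, v2]) (valid_of (by simp [mv1, mv2]))
        (by
          intro l hl
          simp only [List.mem_cons, List.not_mem_nil, or_false] at hl
          rcases hl with rfl | rfl
          exacts [⟨⟨tv1, v1_G2.2⟩, v1_G3.2⟩, ⟨⟨tv2, v2_G2.2⟩, v2_G3.2⟩])
        RuCheckW.orb3T hi
    have hfin : (MulAction.orbit (fixPt (fixPt T 1756) 1) 1757).Finite := by
      refine (bitSet_finite (mask 16 1757)).subset ?_
      rw [← orbG3]
      rintro _ ⟨g, rfl⟩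
      exact ⟨⟨g, l2 g.2⟩, rfl⟩
    have := Set.ncard_le_ncard hsub hfin
    rwa [ncard_bitSet_mask] at this
  -- and its length divides 16
  have hdvd : (MulAction.orbit (fixPt (fixPt T 1756) 1) 1757).ncard ∣ 16 := by
    rw [← e3, ← card_G3]
    exact Subgroup.card_dvd_of_le l2
  have hcases : (MulAction.orbit (fixPt (fixPt T 1756) 1) 1757).ncard = 8 ∨
      (MulAction.orbit (fixPt (fixPt T 1756) 1) 1757).ncard = 16 := by
    have h16 := Nat.le_of_dvd (by norm_num) hdvd
    generalize (MulAction.orbit (fixPt (fixPt T 1756) 1) 1757).ncard = s at *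
    interval_cases s <;> omega
  rcases hcases with hc | hc
  · rw [e1, e2, e3, hc]
  · exfalso
    have hT : Nat.card T = Nat.card G1 := by rw [e1, e2, e3, hc, card_G1]
    have hTG : T = G1 := Subgroup.eq_of_le_of_card_ge T_le_G1 hT.ge
    exact k0_not_mem_T (hTG ▸ k0_G1)

theorem orbT : MulAction.orbit T 1 = bitSet (mask 1755 1) :=
  orbit_eq_of_rounds (ns := [u1, x2]) (valid_of (by simp [mu1, mx2]))
    (by
      intro l hl
      simp only [List.mem_cons, List.not_mem_nil, or_false] at hl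
      rcases hl with rfl | rfl
      exacts [tu1, tx2])
    RuCheckW.orbD1 (fun _ hg => inv_D1 (T_le_G1 hg)) (tb_mask (by omega) (by omega))

theorem rowsOf_cons (y : Nat) (ys : List Nat) (r : Nat) (rs : List Nat) :
    RuCheckP.rowsOf (y :: ys) (r :: rs) = and (and (Nat.beq (get RuRows.tree 12 y) r)
      (and (Nat.ble 1 y) (Nat.ble y 1755))) (RuCheckP.rowsOf ys rs) := rfl

theorem rowsOf_spec {ys rs : List Nat} (h : RuCheckP.rowsOf ys rs = true) :
    ∀ r ∈ rs, ∃ y, 1 ≤ y ∧ y ≤ 1755 ∧ get RuRows.tree 12 y = r := by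
  induction ys generalizing rs with
  | nil =>
    cases rs with
    | nil => intro r hr; exact absurd hr (by simp)
    | cons r rs => exact absurd h (by show ¬ (false = true); simp)
  | cons y ys ih =>
    cases rs with
    | nil => exact absurd h (by show ¬ (false = true); simp)
    | cons r rs =>
      rw [rowsOf_cons, Bool.and_eq_true, Bool.and_eq_true, Bool.and_eq_true] at h
      intro r' hr'
      rcases List.mem_cons.1 hr' with rfl | hr'
      · exact ⟨y, Nat.le_of_ble_eq_true h.1.2.1, Nat.le_of_ble_eq_true h.1.2.2,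
          Nat.eq_of_beq_eq_true h.1.1⟩
      · exact ih h.2 r' hr'

theorem pow_of {ws : List Net} (h : ∀ l ∈ ws, l ∈ gensG) {m : Nat}
    (hp : powTest 12 ws m = true) : (ws.map netPerm).prod ^ m = 1 :=
  powTest_spec (fun l hl => ok_all l (h l hl)) hp

theorem disj_cells : [2, RuCheckW.s10, RuCheckW.s80, RuCheckW.s640, RuCheckW.s1024].Pairwise
    (fun c d => c &&& d = 0) := by
  decide +kernel

theorem isSimpleGroup_T : IsSimpleGroup T := by
  have : Nontrivial T := by
    rw [← Finite.one_lt_card_iff_nontrivial, card_T]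
    norm_num
  have hstab : Nat.card (MulAction.stabilizer T 1) = 10240 := by
    rw [card_stabilizer]
    have h := card_eq_orbit_mul T 1
    rw [card_T, orbT, ncard_bitSet_mask] at h
    omega
  refine isSimpleGroup_of_coprime (1 : Nat) ?_ ?_
    {e : T | (e : Equiv.Perm Nat) ^ 13 = 1} ?_ ?_
  · intro g hg
    have h1 : (g : Equiv.Perm Nat) = 1 := by
      refine eq_one_of_sortedK_full (isAut (T_le_G1 g.2).1).1 (Q := RuPlanes.yrows) ?_
        RuCheckP.sorted2
      intro q hq
      obtain ⟨y, hy1, hy2, rfl⟩ := rowsOf_spec RuCheckP.yrows_ok q hq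
      refine InvSet.row (isAut (T_le_G1 g.2).1) (by norm_num; omega) ?_
      apply hg
      rw [orbT]
      exact tb_mask hy1 (by omega)
    exact Subtype.ext h1
  · intro N hN
    have h1 := ncard_orbit_normal_mem (H := T) 1 [x1, x2]
      (by
        intro l hl
        simp only [List.mem_cons, List.not_mem_nil, or_false] at hl
        rcases hl with rfl | rfl
        exacts [tx1, tx2])
      (by
        intro l hl
        simp only [List.mem_cons, List.not_mem_nil, or_false] at hl
        rcases hl with rfl | rfl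
        exacts [ptTest_spec (valid_mem mx1) RuCheckW.b3_x1,
          ptTest_spec (valid_mem mx2) RuCheckW.b3_x2])
      [2, RuCheckW.s10, RuCheckW.s80, RuCheckW.s640, RuCheckW.s1024] ?_ ?_ ?_ N hN
    · have e2 : (bitSet 2).ncard = 1 := by
        rw [← Set.ncard_singleton (1 : Nat)]
        congr 1
        ext i
        have h3 : (2 : Nat) = 1 <<< 1 := rfl
        rw [mem_bitSet, h3, testBit_one_shiftLeft, decide_eq_true_eq, Set.mem_singleton_iff]
      have e10 : (bitSet RuCheckW.s10).ncard = 10 :=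
        ncard_bitSet_of RuCheckW.slt10 RuCheckW.spop10
      have e80 : (bitSet RuCheckW.s80).ncard = 80 :=
        ncard_bitSet_of RuCheckW.slt80 RuCheckW.spop80
      have e640 : (bitSet RuCheckW.s640).ncard = 640 :=
        ncard_bitSet_of RuCheckW.slt640 RuCheckW.spop640
      have e1024 : (bitSet RuCheckW.s1024).ncard = 1024 :=
        ncard_bitSet_of RuCheckW.slt1024 RuCheckW.spop1024
      rw [List.map_cons, List.map_cons, List.map_cons, List.map_cons, List.map_cons, List.map_nil,
        e2, e10, e80, e640, e1024] at h1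
      have h2 := ncard_orbit_dvd (G := T) (1 : Nat) N hN
      rw [orbT, ncard_bitSet_mask] at h2 ⊢
      have key : ∀ m ∈ subsetSums [1, 10, 80, 640, 1024], m ∣ 1755 → m = 1 ∨ m = 1755 := by
        decide +kernel
      exact key _ h1 h2
    · have hv : ∀ n ∈ [x1, x2], Valid n := valid_of (by simp [mx1, mx2])
      have hH : ∀ n ∈ [x1, x2], netPerm n ∈ grp [x1, x2] := fun n hn => netPerm_mem hn
      intro c hc
      simp only [List.mem_cons, List.not_mem_nil, or_false] at hc
      rcases hc with rfl | rfl | rfl | rfl | rfl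
      · refine ⟨1, fun i hi => ?_⟩
        have h3 : (2 : Nat) = 1 <<< 1 := rfl
        rw [h3, testBit_one_shiftLeft, decide_eq_true_eq] at hi
        rw [hi]
        exact MulAction.mem_orbit_self _
      · exact ⟨_, fun i hi => mem_orbit_of_reach hv hH RuCheckW.sorb10 hi⟩
      · exact ⟨_, fun i hi => mem_orbit_of_reach hv hH RuCheckW.sorb80 hi⟩
      · exact ⟨_, fun i hi => mem_orbit_of_reach hv hH RuCheckW.sorb640 hi⟩
      · exact ⟨_, fun i hi => mem_orbit_of_reach hv hH RuCheckW.sorb1024 hi⟩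
    · intro i hi
      rw [orbT, mem_bitSet] at hi
      have h4 : ((((2 ||| RuCheckW.s10) ||| RuCheckW.s80) ||| RuCheckW.s640) ||| RuCheckW.s1024) =
          mask 1755 1 := eqb_spec RuCheckW.sunion
      rw [← h4] at hi
      simp only [Nat.testBit_lor, Bool.or_eq_true] at hi
      simp only [List.mem_cons, List.not_mem_nil, or_false, exists_eq_or_imp, exists_eq_left]
      tauto
    · exact disj_cells
  · refine closure_preimage_eq_top (L := gensT) rfl _ ?_
    intro l hl
    have hu1 : (⟨netPerm u1, tu1⟩ : T) ∈ Subgroup.closure {e : T | (e : Equiv.Perm Nat) ^ 13 = 1} := by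
      apply Subgroup.subset_closure
      have := pow_of (ws := [u1]) (by simp [mu1]) RuCheckW.pu1
      simpa using this
    have hu2 : (⟨netPerm u2, tu2⟩ : T) ∈ Subgroup.closure {e : T | (e : Equiv.Perm Nat) ^ 13 = 1} := by
      apply Subgroup.subset_closure
      have := pow_of (ws := [u2]) (by simp [mu2]) RuCheckW.pu2
      simpa using this
    simp only [gensT, List.mem_cons, List.not_mem_nil, or_false] at hl
    rcases hl with rfl | rfl | rfl | rfl | rfl | rfl
    · exact ⟨tu1, hu1⟩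
    · exact ⟨tu2, hu2⟩
    · refine ⟨tv1, ?_⟩
      have h5 : (⟨netPerm v1, tv1⟩ * ⟨netPerm u1, tu1⟩ : T) ∈
          Subgroup.closure {e : T | (e : Equiv.Perm Nat) ^ 13 = 1} := by
        apply Subgroup.subset_closure
        have := pow_of (ws := [v1, u1]) (by simp [mv1, mu1]) RuCheckW.pv1
        simpa using this
      exact (Subgroup.mul_mem_cancel_right _ hu1).1 h5
    · refine ⟨tv2, ?_⟩
      have h5 : (⟨netPerm v2, tv2⟩ * (⟨netPerm u1, tu1⟩ * ⟨netPerm u1, tu1⟩) : T) ∈
          Subgroup.closure {e : T | (e : Equiv.Perm Nat) ^ 13 = 1} := by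
        apply Subgroup.subset_closure
        have := pow_of (ws := [v2, u1, u1]) (by simp [mv2, mu1]) RuCheckW.pv2
        simpa using this
      exact (Subgroup.mul_mem_cancel_right _ (mul_mem hu1 hu1)).1 h5
    · refine ⟨tx1, ?_⟩
      have h5 : (⟨netPerm x1, tx1⟩ * ⟨netPerm u2, tu2⟩ : T) ∈
          Subgroup.closure {e : T | (e : Equiv.Perm Nat) ^ 13 = 1} := by
        apply Subgroup.subset_closure
        have := pow_of (ws := [x1, u2]) (by simp [mx1, mu2]) RuCheckW.px1
        simpa using this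
      exact (Subgroup.mul_mem_cancel_right _ hu2).1 h5
    · refine ⟨tx2, ?_⟩
      have h5 : (⟨netPerm x2, tx2⟩ * ⟨netPerm u2, tu2⟩ : T) ∈
          Subgroup.closure {e : T | (e : Equiv.Perm Nat) ^ 13 = 1} := by
        apply Subgroup.subset_closure
        have := pow_of (ws := [x2, u2]) (by simp [mx2, mu2]) RuCheckW.px2
        simpa using this
      exact (Subgroup.mul_mem_cancel_right _ hu2).1 h5
  · intro e he
    rw [hstab]
    have h6 : orderOf e ∣ 13 := by
      apply orderOf_dvd_of_pow_eq_one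
      apply Subtype.ext
      simpa using he
    exact Nat.Coprime.coprime_dvd_left h6 (by norm_num)

/-! ### Simplicity of the Rudvalis group -/

/-- Elements of order `7` or `29`. -/
def coprimeSet : Set G := {e | (e : Equiv.Perm Nat) ^ 7 = 1 ∨ (e : Equiv.Perm Nat) ^ 29 = 1}

theorem g0_mem : (⟨netPerm g0, netPerm_mem mg0⟩ : G) ∈ Subgroup.closure coprimeSet := by
  apply Subgroup.subset_closure
  right
  have := pow_of (ws := [g0]) (by simp [mg0]) RuCheckW.qg0
  simpa using this

theorem coprime_mem {l : Net} (hl : l ∈ gensG) (k m : Nat) (hm : m = 7 ∨ m = 29)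
    (hp : powTest 12 (l :: List.replicate k g0) m = true) :
    (⟨netPerm l, netPerm_mem hl⟩ : G) ∈ Subgroup.closure coprimeSet := by
  have h1 := pow_of (ws := l :: List.replicate k g0) (by
    intro l' hl'
    rcases List.mem_cons.1 hl' with rfl | hl'
    · exact hl
    · rw [List.mem_replicate] at hl'
      rw [hl'.2]
      exact mg0) hp
  have h2 : (⟨netPerm l, netPerm_mem hl⟩ * ⟨netPerm g0, netPerm_mem mg0⟩ ^ k : G) ∈
      Subgroup.closure coprimeSet := by
    apply Subgroup.subset_closure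
    rw [List.map_cons, List.prod_cons, List.map_replicate, List.prod_replicate] at h1
    rcases hm with rfl | rfl
    · left
      exact h1
    · right
      exact h1
  exact (Subgroup.mul_mem_cancel_right _ (Subgroup.pow_mem _ g0_mem k)).1 h2

theorem disj_cells0 : [Nat.shiftLeft 1 0, mask 1755 1, mask 2304 1756].Pairwise
    (fun c d => c &&& d = 0) := by
  decide +kernel

theorem isSimpleGroup_G : IsSimpleGroup G := by
  have : Nontrivial G := by
    rw [← Finite.one_lt_card_iff_nontrivial, card_G]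
    norm_num
  have hstab : Nat.card (MulAction.stabilizer G 0) = 35942400 := by
    rw [card_stabilizer]
    exact card_G1
  refine isSimpleGroup_of_coprime (0 : Nat) ?_ ?_ coprimeSet ?_ ?_
  · intro g hg
    have h1 : (g : Equiv.Perm Nat) = 1 := by
      ext i
      rcases lt_or_ge i 4060 with hi | hi
      · apply hg
        rw [orbG]
        exact tb_mask (Nat.zero_le _) (by omega)
      · exact (isAut g.2).1 i hi
    exact Subtype.ext h1
  · intro N hN
    have hv : ∀ n ∈ [u1, u2, x1, x2], Valid n := valid_of (by simp [mu1, mu2, mx1, mx2])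
    have h1 := ncard_orbit_normal_mem (H := G) 0 [u1, u2, x1, x2]
      (by
        intro l hl
        simp only [List.mem_cons, List.not_mem_nil, or_false] at hl
        rcases hl with rfl | rfl | rfl | rfl
        exacts [netPerm_mem mu1, netPerm_mem mu2, netPerm_mem mx1, netPerm_mem mx2])
      (by
        intro l hl
        simp only [List.mem_cons, List.not_mem_nil, or_false] at hl
        rcases hl with rfl | rfl | rfl | rfl
        exacts [u1_G1.2, u2_G1.2, x1_G1.2, x2_G1.2])
      [Nat.shiftLeft 1 0, mask 1755 1, mask 2304 1756] ?_ ?_ disj_cells0 N hN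
    · have e0 : (bitSet (Nat.shiftLeft 1 0)).ncard = 1 := by
        have hs : bitSet (Nat.shiftLeft 1 0) = {0} := by
          ext i
          have h3 : (Nat.shiftLeft 1 0 : Nat) = 1 <<< 0 := rfl
          rw [mem_bitSet, h3, testBit_one_shiftLeft, decide_eq_true_eq, Set.mem_singleton_iff]
        rw [hs, Set.ncard_singleton]
      rw [List.map_cons, List.map_cons, List.map_cons, List.map_nil,
        e0, ncard_bitSet_mask, ncard_bitSet_mask] at h1
      have h2 := ncard_orbit_dvd (G := G) (0 : Nat) N hN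
      rw [orbG, ncard_bitSet_mask] at h2 ⊢
      have key : ∀ m ∈ subsetSums [1, 1755, 2304], m ∣ 4060 → m = 1 ∨ m = 4060 := by
        decide +kernel
      exact key _ h1 h2
    · have hH : ∀ n ∈ [u1, u2, x1, x2], netPerm n ∈ grp [u1, u2, x1, x2] :=
        fun n hn => netPerm_mem hn
      intro c hc
      simp only [List.mem_cons, List.not_mem_nil, or_false] at hc
      rcases hc with rfl | rfl | rfl
      · refine ⟨0, fun i hi => ?_⟩
        have h3 : (Nat.shiftLeft 1 0 : Nat) = 1 <<< 0 := rfl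
        rw [h3, testBit_one_shiftLeft, decide_eq_true_eq] at hi
        rw [hi]
        exact MulAction.mem_orbit_self _
      · refine ⟨1, fun i hi => mem_orbit_of_reach (ns := [u1, x2])
          (valid_of (by simp [mu1, mx2])) ?_ RuCheckW.orbD1 hi⟩
        intro l hl
        simp only [List.mem_cons, List.not_mem_nil, or_false] at hl
        rcases hl with rfl | rfl
        · exact hH _ (by simp)
        · exact hH _ (by simp)
      · exact ⟨_, fun i hi => mem_orbit_of_reach hv hH RuCheckW.orb1 hi⟩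
    · intro i hi
      rw [orbG, bitSet_mask, Set.mem_Ico] at hi
      simp only [List.mem_cons, List.not_mem_nil, or_false, exists_eq_or_imp, exists_eq_left]
      rcases Nat.eq_zero_or_pos i with rfl | h0
      · left
        rfl
      · rcases lt_or_ge i 1756 with h1 | h1
        · right; left
          exact tb_mask (by omega) (by omega)
        · right; right
          exact tb_mask (by omega) (by omega)
  · refine closure_preimage_eq_top (L := gensG) rfl _ ?_
    intro l hl
    refine ⟨netPerm_mem hl, ?_⟩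
    simp only [gensG, List.mem_cons, List.not_mem_nil, or_false] at hl
    rcases hl with rfl | rfl | rfl | rfl | rfl | rfl | rfl | rfl
    · exact coprime_mem mu1 26 7 (Or.inl rfl) RuCheckW.qu1
    · exact coprime_mem mu2 12 7 (Or.inl rfl) RuCheckW.qu2
    · exact coprime_mem mv1 2 29 (Or.inr rfl) RuCheckW.qv1
    · exact coprime_mem mv2 4 29 (Or.inr rfl) RuCheckW.qv2
    · exact coprime_mem mx1 6 7 (Or.inl rfl) RuCheckW.qx1
    · exact coprime_mem mx2 7 29 (Or.inr rfl) RuCheckW.qx2
    · exact coprime_mem mk0 6 7 (Or.inl rfl) RuCheckW.qk0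
    · exact g0_mem
  · intro e he
    rw [hstab]
    rcases he with he | he
    · have h6 : orderOf e ∣ 7 := by
        apply orderOf_dvd_of_pow_eq_one
        apply Subtype.ext
        simpa using he
      exact Nat.Coprime.coprime_dvd_left h6 (by norm_num)
    · have h6 : orderOf e ∣ 29 := by
        apply orderOf_dvd_of_pow_eq_one
        apply Subtype.ext
        simpa using he
      exact Nat.Coprime.coprime_dvd_left h6 (by norm_num)

end Cfsg.Agent.SporadicB.RuMain
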