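import Cfsg.Agent.SporadicB.ON45Word
import Cfsg.Agent.SporadicB.ON45SubData
import Cfsg.Agent.SporadicB.AtlasPres.J1Rec
import Cfsg.Agent.SporadicB.AtlasPres.M11Rec

/-!
Subgroups `J₁` and `M₁₁` of the presented O'Nan group (provided this group is simple).
-/

set_option autoImplicit false

namespace Cfsg.Agent.SporadicB.ON45Sub

open Cfsg.Spor Cfsg.Spor.ON Cfsg.Agent.Lib.PackMat Cfsg.Agent.SporadicB.ON45Data
  Cfsg.Agent.SporadicB.ON45SubData Cfsg.Agent.SporadicB.ON45Word
  Cfsg.Agent.SporadicB.AtlasPres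

/-- `(f g)²` -/
def xA : ON := ([.f, .g, .f, .g].map on).prod

/-- `(d f c g⁻¹ d b e g c b)²` with `g⁻¹ = a f g` -/
def xB : ON := ([.d, .f, .c, .a, .f, .g, .d, .b, .e, .g, .c, .b,
  .d, .f, .c, .a, .f, .g, .d, .b, .e, .g, .c, .b].map on).prod

theorem lA : LW xA [pA] := (LW.word _).change (by decide +kernel) (by decide +kernel)
theorem lB : LW xB [pB] := (LW.word _).change (by decide +kernel) (by decide +kernel)
theorem lBi : LW xB⁻¹ [pBi] := lB.inv (by decide +kernel) (by decide +kernel)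
theorem lP : LW (xA * xB * xA * xB⁻¹) [pP] :=
  (((lA.mul lB).mul lA).mul lBi).change (by decide +kernel) (by decide +kernel)
theorem lS : LW (J1Bound.sW xA xB) [pS] :=
  ((((((((lB.mul lA).mul lBi).mul lA).mul lB).mul lA).mul lB).mul lA).mul lBi).change
    (by decide +kernel) (by decide +kernel)
theorem lT : LW (J1Bound.tW xA xB) [pT] :=
  ((((((((((lA.mul lBi).mul lA).mul lB).mul lA).mul lBi).mul lA).mul lBi).mul lA).mul lB).mul lA).change
    (by decide +kernel) (by decide +kernel)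
theorem lSi : LW (J1Bound.sW xA xB)⁻¹ [pSi] := lS.inv (by decide +kernel) (by decide +kernel)
theorem lTi : LW (J1Bound.tW xA xB)⁻¹ [pTi] := lT.inv (by decide +kernel) (by decide +kernel)

theorem relJ1 (hs : IsSimpleGroup ON) : J1Bound.Rel xA xB where
  a2 := (lA.mul lA).eq_one hs 1 (by decide) (by decide +kernel)
  b3 := (lB.pow 3).eq_one hs 1 (by decide) (by decide +kernel)
  ab := ((lA.mul lB).pow 7).eq_one hs 2 (by decide) (by decide +kernel)
  r4 := (((lA.mul lB).mul (lP.pow 3)).pow 5).eq_one hs 4 (by decide) (by decide +kernel)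
  r5 := (((((lA.mul lB).mul (lP.pow 6)).mul ((lA.mul lB).pow 2)).mul ((lA.mul lBi).pow 2)).pow 2).eq_one hs 4
    (by decide) (by decide +kernel)
  st := ((lS.mul lT).pow 11).eq_one hs 1 (by decide) (by decide +kernel)
  sT := ((lS.mul lTi).pow 5).eq_one hs 2 (by decide) (by decide +kernel)
  r8 := ((((((lS.mul lT).mul lS).mul lTi).mul lSi).mul lTi).pow 2).eq_one hs 2 (by decide) (by decide +kernel)
  r9 := ((((((lS.mul lT).mul lS).mul lTi).mul lSi).mul lT).pow 3).eq_one hs 1 (by decide) (by decide +kernel)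

/-- `(e g c b)²` -/
def yA : ON := ([.e, .g, .c, .b, .e, .g, .c, .b].map on).prod

/-- `d c g f d f g⁻¹` with `g⁻¹ = a f g` -/
def yB : ON := ([.d, .c, .g, .f, .d, .f, .a, .f, .g].map on).prod

theorem kA : LW yA [qA] := (LW.word _).change (by decide +kernel) (by decide +kernel)
theorem kB : LW yB [qB] := (LW.word _).change (by decide +kernel) (by decide +kernel)
theorem kBi : LW yB⁻¹ [qBi] := kB.inv (by decide +kernel) (by decide +kernel)

theorem relM11 (hs : IsSimpleGroup ON) : M11Bound.Rel yA yB where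
  a2 := (kA.mul kA).eq_one hs 4 (by decide) (by decide +kernel)
  b4 := (kB.pow 4).eq_one hs 1 (by decide) (by decide +kernel)
  ab := ((kA.mul kB).pow 11).eq_one hs 4 (by decide) (by decide +kernel)
  abb := (((kA.mul kB).mul kB).pow 6).eq_one hs 1 (by decide) (by decide +kernel)
  r5 := ((((((((((((((((((kA.mul kB).mul kA).mul kB).mul kA).mul kBi).mul kA).mul kB).mul kA).mul kB).mul
    kB).mul kA).mul kBi).mul kA).mul kB).mul kA).mul kBi).mul kA).mul kBi).eq_one hs 1 (by decide)
    (by decide +kernel)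

theorem xA_ne : xA ≠ 1 := lA.ne_one 0 5 (by decide) (by decide +kernel)
theorem yA_ne : yA ≠ 1 := kA.ne_one 0 1 (by decide) (by decide +kernel)

/-- A subgroup `J₁` of the presented O'Nan group. -/
theorem isJ1 (hs : IsSimpleGroup ON) : Cfsg.IsJ1 (Subgroup.closure {xA, xB}) :=
  J1Rec.isJ1_closure (relJ1 hs) xA_ne

/-- A subgroup `M₁₁` of the presented O'Nan group. -/
theorem isM11 (hs : IsSimpleGroup ON) : Cfsg.IsM11 (Subgroup.closure {yA, yB}) :=
  M11Rec.isM11_closure (relM11 hs) yA_ne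

end Cfsg.Agent.SporadicB.ON45Sub
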