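import Cfsg.Agent.SporadicB.ON45Data

/-!
The relations of the O'Nan group, up to the scalar 4, for the seven 45 × 45 matrices over the field with
7 elements.
-/

set_option autoImplicit false

namespace Cfsg.Agent.SporadicB.ON45Rels

open Cfsg.Agent.Lib.PackMat Cfsg.Agent.SporadicB.ON45Data Cfsg.Agent.SporadicB.ON45Core

/-- a matrix from its packed form -/
def mk (g : ℕ) : M45 := mat C45 g

theorem good : C45.good = true := by decide +kernel

theorem okA : okG C45 ga = true := by decide +kernel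
theorem okB : okG C45 gb = true := by decide +kernel
theorem okC : okG C45 gc = true := by decide +kernel
theorem okD : okG C45 gd = true := by decide +kernel
theorem okE : okG C45 ge = true := by decide +kernel
theorem okF : okG C45 gf = true := by decide +kernel
theorem okGg : okG C45 gg = true := by decide +kernel

theorem ok_all : ∀ g ∈ [ga, gb, gc, gd, ge, gf, gg], okG C45 g = true := by
  intro g hg
  simp only [List.mem_cons, List.not_mem_nil, or_false] at hg
  rcases hg with rfl | rfl | rfl | rfl | rfl | rfl | rfl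
  · exact okA
  · exact okB
  · exact okC
  · exact okD
  · exact okE
  · exact okF
  · exact okGg

/-- words in the generators, as lists of indices -/
def gens : ℕ → ℕ
  | 0 => ga
  | 1 => gb
  | 2 => gc
  | 3 => gd
  | 4 => ge
  | 5 => gf
  | _ => gg

theorem ok_gens (i : ℕ) : okG C45 (gens i) = true := by
  match i with
  | 0 => exact okA
  | 1 => exact okB
  | 2 => exact okC
  | 3 => exact okD
  | 4 => exact okE
  | 5 => exact okF
  | (_ + 6) => exact okGg

/-- the generator matrices, indexed -/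
def M (i : ℕ) : M45 := mk (gens i)

theorem word_eq (w₁ w₂ : List ℕ) (h : checkEq C45 (w₁.map gens) (w₂.map gens) 0 45 = true) :
    (w₁.map M).prod = (w₂.map M).prod := by
  have h1 : ∀ w : List ℕ, ∀ g ∈ w.map gens, okG C45 g = true := by
    intro w g hg
    obtain ⟨i, _, rfl⟩ := List.mem_map.1 hg
    exact ok_gens i
  have h2 := prod_eq_of_check (C := C45) good (by decide) (h1 w₁) (h1 w₂) h
  rw [List.map_map, List.map_map] at h2
  exact h2

theorem word_scalar (w : List ℕ) (c : ℕ) (hc : c < 7) (h : checkScalar C45 (w.map gens) c 0 45 = true) :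
    (w.map M).prod = (c : ZMod 7) • (1 : M45) := by
  have h1 : ∀ w : List ℕ, ∀ g ∈ w.map gens, okG C45 g = true := by
    intro w g hg
    obtain ⟨i, _, rfl⟩ := List.mem_map.1 hg
    exact ok_gens i
  have h2 := prod_scalar_of_check (C := C45) good (c := c) hc (by decide) (h1 w) h
  rw [List.map_map] at h2
  exact h2

theorem word_one (w : List ℕ) (h : checkScalar C45 (w.map gens) 1 0 45 = true) :
    (w.map M).prod = 1 := by
  rw [word_scalar w 1 (by decide) h, Nat.cast_one, one_smul]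

theorem l_aa {α : Type*} [Monoid α] (M : ℕ → α) : ([0, 0].map M).prod = M 0 * M 0 := by
  simp only [List.map_cons, List.map_nil, List.prod_cons, List.prod_nil, pow_succ, pow_zero, one_mul, mul_one, mul_assoc]

theorem r_aa : M 0 * M 0 = 1 :=
  (l_aa M).symm.trans (word_one [0, 0] (by decide +kernel))

theorem l_bb {α : Type*} [Monoid α] (M : ℕ → α) : ([1, 1].map M).prod = M 1 * M 1 := by
  simp only [List.map_cons, List.map_nil, List.prod_cons, List.prod_nil, pow_succ, pow_zero, one_mul, mul_one, mul_assoc]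

theorem r_bb : M 1 * M 1 = 1 :=
  (l_bb M).symm.trans (word_one [1, 1] (by decide +kernel))

theorem l_cc {α : Type*} [Monoid α] (M : ℕ → α) : ([2, 2].map M).prod = M 2 * M 2 := by
  simp only [List.map_cons, List.map_nil, List.prod_cons, List.prod_nil, pow_succ, pow_zero, one_mul, mul_one, mul_assoc]

theorem r_cc : M 2 * M 2 = 1 :=
  (l_cc M).symm.trans (word_one [2, 2] (by decide +kernel))

theorem l_dd {α : Type*} [Monoid α] (M : ℕ → α) : ([3, 3].map M).prod = M 3 * M 3 := by
  simp only [List.map_cons, List.map_nil, List.prod_cons, List.prod_nil, pow_succ, pow_zero, one_mul, mul_one, mul_assoc]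

theorem r_dd : M 3 * M 3 = 1 :=
  (l_dd M).symm.trans (word_one [3, 3] (by decide +kernel))

theorem l_ee {α : Type*} [Monoid α] (M : ℕ → α) : ([4, 4].map M).prod = M 4 * M 4 := by
  simp only [List.map_cons, List.map_nil, List.prod_cons, List.prod_nil, pow_succ, pow_zero, one_mul, mul_one, mul_assoc]

theorem r_ee : M 4 * M 4 = 1 :=
  (l_ee M).symm.trans (word_one [4, 4] (by decide +kernel))

theorem l_ff {α : Type*} [Monoid α] (M : ℕ → α) : ([5, 5].map M).prod = M 5 * M 5 := by
  simp only [List.map_cons, List.map_nil, List.prod_cons, List.prod_nil, pow_succ, pow_zero, one_mul, mul_one, mul_assoc]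

theorem r_ff : M 5 * M 5 = 1 :=
  (l_ff M).symm.trans (word_one [5, 5] (by decide +kernel))

theorem l_ab {α : Type*} [Monoid α] (M : ℕ → α) : ([0, 1, 0, 1, 0, 1].map M).prod = (M 0 * M 1) ^ 3 := by
  simp only [List.map_cons, List.map_nil, List.prod_cons, List.prod_nil, pow_succ, pow_zero, one_mul, mul_one, mul_assoc]

theorem r_ab : (M 0 * M 1) ^ 3 = 1 :=
  (l_ab M).symm.trans (word_one [0, 1, 0, 1, 0, 1] (by decide +kernel))

theorem l_bc {α : Type*} [Monoid α] (M : ℕ → α) : ([1, 2, 1, 2, 1, 2].map M).prod = (M 1 * M 2) ^ 3 := by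
  simp only [List.map_cons, List.map_nil, List.prod_cons, List.prod_nil, pow_succ, pow_zero, one_mul, mul_one, mul_assoc]

theorem r_bc : (M 1 * M 2) ^ 3 = 1 :=
  (l_bc M).symm.trans (word_one [1, 2, 1, 2, 1, 2] (by decide +kernel))

theorem l_de {α : Type*} [Monoid α] (M : ℕ → α) : ([3, 4, 3, 4, 3, 4].map M).prod = (M 3 * M 4) ^ 3 := by
  simp only [List.map_cons, List.map_nil, List.prod_cons, List.prod_nil, pow_succ, pow_zero, one_mul, mul_one, mul_assoc]

theorem r_de : (M 3 * M 4) ^ 3 = 1 :=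
  (l_de M).symm.trans (word_one [3, 4, 3, 4, 3, 4] (by decide +kernel))

theorem l_ef {α : Type*} [Monoid α] (M : ℕ → α) : ([4, 5, 4, 5, 4, 5].map M).prod = (M 4 * M 5) ^ 3 := by
  simp only [List.map_cons, List.map_nil, List.prod_cons, List.prod_nil, pow_succ, pow_zero, one_mul, mul_one, mul_assoc]

theorem r_ef : (M 4 * M 5) ^ 3 = 1 :=
  (l_ef M).symm.trans (word_one [4, 5, 4, 5, 4, 5] (by decide +kernel))

theorem l_ac_1 {α : Type*} [Monoid α] (M : ℕ → α) : ([0, 2].map M).prod = M 0 * M 2 := by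
  simp only [List.map_cons, List.map_nil, List.prod_cons, List.prod_nil, pow_succ, pow_zero, one_mul, mul_one, mul_assoc]

theorem l_ac_2 {α : Type*} [Monoid α] (M : ℕ → α) : ([2, 0].map M).prod = M 2 * M 0 := by
  simp only [List.map_cons, List.map_nil, List.prod_cons, List.prod_nil, pow_succ, pow_zero, one_mul, mul_one, mul_assoc]

theorem r_ac : M 0 * M 2 = M 2 * M 0 :=
  (l_ac_1 M).symm.trans ((word_eq [0, 2] [2, 0] (by decide +kernel)).trans (l_ac_2 M))

theorem l_ad_1 {α : Type*} [Monoid α] (M : ℕ → α) : ([0, 3].map M).prod = M 0 * M 3 := by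
  simp only [List.map_cons, List.map_nil, List.prod_cons, List.prod_nil, pow_succ, pow_zero, one_mul, mul_one, mul_assoc]

theorem l_ad_2 {α : Type*} [Monoid α] (M : ℕ → α) : ([3, 0].map M).prod = M 3 * M 0 := by
  simp only [List.map_cons, List.map_nil, List.prod_cons, List.prod_nil, pow_succ, pow_zero, one_mul, mul_one, mul_assoc]

theorem r_ad : M 0 * M 3 = M 3 * M 0 :=
  (l_ad_1 M).symm.trans ((word_eq [0, 3] [3, 0] (by decide +kernel)).trans (l_ad_2 M))

theorem l_ae_1 {α : Type*} [Monoid α] (M : ℕ → α) : ([0, 4].map M).prod = M 0 * M 4 := by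
  simp only [List.map_cons, List.map_nil, List.prod_cons, List.prod_nil, pow_succ, pow_zero, one_mul, mul_one, mul_assoc]

theorem l_ae_2 {α : Type*} [Monoid α] (M : ℕ → α) : ([4, 0].map M).prod = M 4 * M 0 := by
  simp only [List.map_cons, List.map_nil, List.prod_cons, List.prod_nil, pow_succ, pow_zero, one_mul, mul_one, mul_assoc]

theorem r_ae : M 0 * M 4 = M 4 * M 0 :=
  (l_ae_1 M).symm.trans ((word_eq [0, 4] [4, 0] (by decide +kernel)).trans (l_ae_2 M))

theorem l_af_1 {α : Type*} [Monoid α] (M : ℕ → α) : ([0, 5].map M).prod = M 0 * M 5 := by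
  simp only [List.map_cons, List.map_nil, List.prod_cons, List.prod_nil, pow_succ, pow_zero, one_mul, mul_one, mul_assoc]

theorem l_af_2 {α : Type*} [Monoid α] (M : ℕ → α) : ([5, 0].map M).prod = M 5 * M 0 := by
  simp only [List.map_cons, List.map_nil, List.prod_cons, List.prod_nil, pow_succ, pow_zero, one_mul, mul_one, mul_assoc]

theorem r_af : M 0 * M 5 = M 5 * M 0 :=
  (l_af_1 M).symm.trans ((word_eq [0, 5] [5, 0] (by decide +kernel)).trans (l_af_2 M))

theorem l_bd_1 {α : Type*} [Monoid α] (M : ℕ → α) : ([1, 3].map M).prod = M 1 * M 3 := by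
  simp only [List.map_cons, List.map_nil, List.prod_cons, List.prod_nil, pow_succ, pow_zero, one_mul, mul_one, mul_assoc]

theorem l_bd_2 {α : Type*} [Monoid α] (M : ℕ → α) : ([3, 1].map M).prod = M 3 * M 1 := by
  simp only [List.map_cons, List.map_nil, List.prod_cons, List.prod_nil, pow_succ, pow_zero, one_mul, mul_one, mul_assoc]

theorem r_bd : M 1 * M 3 = M 3 * M 1 :=
  (l_bd_1 M).symm.trans ((word_eq [1, 3] [3, 1] (by decide +kernel)).trans (l_bd_2 M))

theorem l_be_1 {α : Type*} [Monoid α] (M : ℕ → α) : ([1, 4].map M).prod = M 1 * M 4 := by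
  simp only [List.map_cons, List.map_nil, List.prod_cons, List.prod_nil, pow_succ, pow_zero, one_mul, mul_one, mul_assoc]

theorem l_be_2 {α : Type*} [Monoid α] (M : ℕ → α) : ([4, 1].map M).prod = M 4 * M 1 := by
  simp only [List.map_cons, List.map_nil, List.prod_cons, List.prod_nil, pow_succ, pow_zero, one_mul, mul_one, mul_assoc]

theorem r_be : M 1 * M 4 = M 4 * M 1 :=
  (l_be_1 M).symm.trans ((word_eq [1, 4] [4, 1] (by decide +kernel)).trans (l_be_2 M))

theorem l_bf_1 {α : Type*} [Monoid α] (M : ℕ → α) : ([1, 5].map M).prod = M 1 * M 5 := by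
  simp only [List.map_cons, List.map_nil, List.prod_cons, List.prod_nil, pow_succ, pow_zero, one_mul, mul_one, mul_assoc]

theorem l_bf_2 {α : Type*} [Monoid α] (M : ℕ → α) : ([5, 1].map M).prod = M 5 * M 1 := by
  simp only [List.map_cons, List.map_nil, List.prod_cons, List.prod_nil, pow_succ, pow_zero, one_mul, mul_one, mul_assoc]

theorem r_bf : M 1 * M 5 = M 5 * M 1 :=
  (l_bf_1 M).symm.trans ((word_eq [1, 5] [5, 1] (by decide +kernel)).trans (l_bf_2 M))

theorem l_ce_1 {α : Type*} [Monoid α] (M : ℕ → α) : ([2, 4].map M).prod = M 2 * M 4 := by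
  simp only [List.map_cons, List.map_nil, List.prod_cons, List.prod_nil, pow_succ, pow_zero, one_mul, mul_one, mul_assoc]

theorem l_ce_2 {α : Type*} [Monoid α] (M : ℕ → α) : ([4, 2].map M).prod = M 4 * M 2 := by
  simp only [List.map_cons, List.map_nil, List.prod_cons, List.prod_nil, pow_succ, pow_zero, one_mul, mul_one, mul_assoc]

theorem r_ce : M 2 * M 4 = M 4 * M 2 :=
  (l_ce_1 M).symm.trans ((word_eq [2, 4] [4, 2] (by decide +kernel)).trans (l_ce_2 M))

theorem l_cf_1 {α : Type*} [Monoid α] (M : ℕ → α) : ([2, 5].map M).prod = M 2 * M 5 := by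
  simp only [List.map_cons, List.map_nil, List.prod_cons, List.prod_nil, pow_succ, pow_zero, one_mul, mul_one, mul_assoc]

theorem l_cf_2 {α : Type*} [Monoid α] (M : ℕ → α) : ([5, 2].map M).prod = M 5 * M 2 := by
  simp only [List.map_cons, List.map_nil, List.prod_cons, List.prod_nil, pow_succ, pow_zero, one_mul, mul_one, mul_assoc]

theorem r_cf : M 2 * M 5 = M 5 * M 2 :=
  (l_cf_1 M).symm.trans ((word_eq [2, 5] [5, 2] (by decide +kernel)).trans (l_cf_2 M))

theorem l_df_1 {α : Type*} [Monoid α] (M : ℕ → α) : ([3, 5].map M).prod = M 3 * M 5 := by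
  simp only [List.map_cons, List.map_nil, List.prod_cons, List.prod_nil, pow_succ, pow_zero, one_mul, mul_one, mul_assoc]

theorem l_df_2 {α : Type*} [Monoid α] (M : ℕ → α) : ([5, 3].map M).prod = M 5 * M 3 := by
  simp only [List.map_cons, List.map_nil, List.prod_cons, List.prod_nil, pow_succ, pow_zero, one_mul, mul_one, mul_assoc]

theorem r_df : M 3 * M 5 = M 5 * M 3 :=
  (l_df_1 M).symm.trans ((word_eq [3, 5] [5, 3] (by decide +kernel)).trans (l_df_2 M))

theorem l_afcd_1 {α : Type*} [Monoid α] (M : ℕ → α) : ([0, 5].map M).prod = M 0 * M 5 := by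
  simp only [List.map_cons, List.map_nil, List.prod_cons, List.prod_nil, pow_succ, pow_zero, one_mul, mul_one, mul_assoc]

theorem l_afcd_2 {α : Type*} [Monoid α] (M : ℕ → α) : ([2, 3, 2, 3, 2, 3, 2, 3].map M).prod = (M 2 * M 3) ^ 4 := by
  simp only [List.map_cons, List.map_nil, List.prod_cons, List.prod_nil, pow_succ, pow_zero, one_mul, mul_one, mul_assoc]

theorem r_afcd : M 0 * M 5 = (M 2 * M 3) ^ 4 :=
  (l_afcd_1 M).symm.trans ((word_eq [0, 5] [2, 3, 2, 3, 2, 3, 2, 3] (by decide +kernel)).trans (l_afcd_2 M))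

theorem l_afgg_1 {α : Type*} [Monoid α] (M : ℕ → α) : ([0, 5].map M).prod = M 0 * M 5 := by
  simp only [List.map_cons, List.map_nil, List.prod_cons, List.prod_nil, pow_succ, pow_zero, one_mul, mul_one, mul_assoc]

theorem l_afgg_2 {α : Type*} [Monoid α] (M : ℕ → α) : ([6, 6].map M).prod = M 6 * M 6 := by
  simp only [List.map_cons, List.map_nil, List.prod_cons, List.prod_nil, pow_succ, pow_zero, one_mul, mul_one, mul_assoc]

theorem r_afgg : M 0 * M 5 = M 6 * M 6 :=
  (l_afgg_1 M).symm.trans ((word_eq [0, 5] [6, 6] (by decide +kernel)).trans (l_afgg_2 M))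

theorem l_cdg_1 {α : Type*} [Monoid α] (M : ℕ → α) : ([2, 3, 6, 3, 6].map M).prod = M 2 * (M 3 * M 6 * M 3 * M 6) := by
  simp only [List.map_cons, List.map_nil, List.prod_cons, List.prod_nil, pow_succ, pow_zero, one_mul, mul_one, mul_assoc]

theorem l_cdg_2 {α : Type*} [Monoid α] (M : ℕ → α) : ([3, 6, 3, 6, 2].map M).prod = (M 3 * M 6 * M 3 * M 6) * M 2 := by
  simp only [List.map_cons, List.map_nil, List.prod_cons, List.prod_nil, pow_succ, pow_zero, one_mul, mul_one, mul_assoc]

theorem r_cdg : M 2 * (M 3 * M 6 * M 3 * M 6) = (M 3 * M 6 * M 3 * M 6) * M 2 :=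
  (l_cdg_1 M).symm.trans ((word_eq [2, 3, 6, 3, 6] [3, 6, 3, 6, 2] (by decide +kernel)).trans (l_cdg_2 M))

theorem l_dcg_1 {α : Type*} [Monoid α] (M : ℕ → α) : ([3, 2, 6, 2, 6].map M).prod = M 3 * (M 2 * M 6 * M 2 * M 6) := by
  simp only [List.map_cons, List.map_nil, List.prod_cons, List.prod_nil, pow_succ, pow_zero, one_mul, mul_one, mul_assoc]

theorem l_dcg_2 {α : Type*} [Monoid α] (M : ℕ → α) : ([2, 6, 2, 6, 3].map M).prod = (M 2 * M 6 * M 2 * M 6) * M 3 := by
  simp only [List.map_cons, List.map_nil, List.prod_cons, List.prod_nil, pow_succ, pow_zero, one_mul, mul_one, mul_assoc]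

theorem r_dcg : M 3 * (M 2 * M 6 * M 2 * M 6) = (M 2 * M 6 * M 2 * M 6) * M 3 :=
  (l_dcg_1 M).symm.trans ((word_eq [3, 2, 6, 2, 6] [2, 6, 2, 6, 3] (by decide +kernel)).trans (l_dcg_2 M))

theorem l_bcdg {α : Type*} [Monoid α] (M : ℕ → α) : ([1, 2, 3, 6, 1, 2, 3, 6, 1, 2, 3, 6, 1, 2, 3, 6, 1, 2, 3, 6].map M).prod = (M 1 * M 2 * M 3 * M 6) ^ 5 := by
  simp only [List.map_cons, List.map_nil, List.prod_cons, List.prod_nil, pow_succ, pow_zero, one_mul, mul_one, mul_assoc]

theorem r_bcdg : (M 1 * M 2 * M 3 * M 6) ^ 5 = (4 : ZMod 7) • (1 : M45) :=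
  (l_bcdg M).symm.trans (word_scalar [1, 2, 3, 6, 1, 2, 3, 6, 1, 2, 3, 6, 1, 2, 3, 6, 1, 2, 3, 6] 4 (by decide) (by decide +kernel))

theorem l_gb {α : Type*} [Monoid α] (M : ℕ → α) : ([6, 1, 2, 6, 2, 1, 6, 1, 2, 6, 2].map M).prod = M 6 * M 1 * (M 2 * M 6 * M 2) * (M 1 * M 6 * M 1) * (M 2 * M 6 * M 2) := by
  simp only [List.map_cons, List.map_nil, List.prod_cons, List.prod_nil, pow_succ, pow_zero, one_mul, mul_one, mul_assoc]

theorem r_gb : M 6 * M 1 * (M 2 * M 6 * M 2) * (M 1 * M 6 * M 1) * (M 2 * M 6 * M 2) = (4 : ZMod 7) • (1 : M45) :=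
  (l_gb M).symm.trans (word_scalar [6, 1, 2, 6, 2, 1, 6, 1, 2, 6, 2] 4 (by decide) (by decide +kernel))

theorem l_ge {α : Type*} [Monoid α] (M : ℕ → α) : ([6, 4, 3, 6, 3, 4, 6, 4, 3, 6, 3].map M).prod = M 6 * M 4 * (M 3 * M 6 * M 3) * (M 4 * M 6 * M 4) * (M 3 * M 6 * M 3) := by
  simp only [List.map_cons, List.map_nil, List.prod_cons, List.prod_nil, pow_succ, pow_zero, one_mul, mul_one, mul_assoc]

theorem r_ge : M 6 * M 4 * (M 3 * M 6 * M 3) * (M 4 * M 6 * M 4) * (M 3 * M 6 * M 3) = (4 : ZMod 7) • (1 : M45) :=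
  (l_ge M).symm.trans (word_scalar [6, 4, 3, 6, 3, 4, 6, 4, 3, 6, 3] 4 (by decide) (by decide +kernel))

/-- The seven matrices satisfy all relations of the O'Nan group up to the scalar 4. -/
theorem rels : MRels (M 0) (M 1) (M 2) (M 3) (M 4) (M 5) (M 6) where
  aa := r_aa
  bb := r_bb
  cc := r_cc
  dd := r_dd
  ee := r_ee
  ff := r_ff
  ab := r_ab
  bc := r_bc
  de := r_de
  ef := r_ef
  ac := r_ac
  ad := r_ad
  ae := r_ae
  af := r_af
  bd := r_bd
  be := r_be
  bf := r_bf
  ce := r_ce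
  cf := r_cf
  df := r_df
  afcd := r_afcd
  afgg := r_afgg
  cdg := r_cdg
  dcg := r_dcg
  bcdg := r_bcdg
  gb := r_gb
  ge := r_ge

end Cfsg.Agent.SporadicB.ON45Rels
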