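import Mathlib
import Cfsg.Prelude.Def_SporadicB

/-!
General lemmas on central extensions by a group of order two.
-/

set_option autoImplicit false

namespace Cfsg.Agent.SporadicB.DoubleCover

open Equiv.Perm

/-- A central element `z` of order two outside a subgroup `Q` whose index is twice an odd number is
detected by a homomorphism to `{1,-1}` (the sign of the action on the cosets of `Q`). -/
theorem exists_hom_of_index {H : Type*} [Group H] [Finite H] (z : H) (hz : z ∈ Subgroup.center H)
    (hz2 : z * z = 1) (Q : Subgroup H) (hzQ : z ∉ Q) {m : ℕ} (hm : Odd m)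
    (hQ : Q.index = 2 * m) : ∃ χ : H →* ℤˣ, χ z = -1 := by
  classical
  haveI : Fintype (H ⧸ Q) := Fintype.ofFinite _
  set σ : Equiv.Perm (H ⧸ Q) := MulAction.toPermHom H (H ⧸ Q) z with hσ
  have hσ2 : σ ^ 2 = 1 := by
    rw [hσ, ← map_pow, pow_two, hz2, map_one]
  have hfix : ∀ x : H ⧸ Q, σ x ≠ x := by
    intro x
    induction x using QuotientGroup.induction_on with
    | H g =>
      intro h
      have h' : ((z * g : H) : H ⧸ Q) = (g : H ⧸ Q) := h
      rw [Subgroup.mem_center_iff.mp hz g |>.symm] at h'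
      have := QuotientGroup.eq.mp h'
      apply hzQ
      have h3 : (g * z)⁻¹ * g = z⁻¹ := by group
      rw [h3] at this
      exact (Subgroup.inv_mem_iff Q).mp this
  have hσ1 : σ ≠ 1 := by
    intro h
    exact hfix ((1 : H) : H ⧸ Q) (by rw [h]; rfl)
  have hord : orderOf σ = 2 := orderOf_eq_prime hσ2 hσ1
  obtain ⟨n, hn⟩ := cycleType_prime_order (σ := σ) (by rw [hord]; exact Nat.prime_two)
  rw [hord] at hn
  have hsupp : σ.support = Finset.univ := by
    ext x
    simp [Equiv.Perm.mem_support, hfix x]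
  have hsum : σ.cycleType.sum = 2 * m := by
    rw [sum_cycleType, hsupp, Finset.card_univ, ← Nat.card_eq_fintype_card, ← hQ]
    rfl
  have hnm : n + 1 = m := by
    rw [hn] at hsum
    simp at hsum
    omega
  refine ⟨Equiv.Perm.sign.comp (MulAction.toPermHom H (H ⧸ Q)), ?_⟩
  rw [MonoidHom.comp_apply, ← hσ, sign_of_cycleType, hsum, hn, Multiset.card_replicate, hnm]
  rw [Odd.neg_one_pow]
  exact (even_two_mul m).add_odd hm

/-- The kernel of a homomorphism to `{1,-1}` which is nontrivial on a centre of order two is a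
complement of the centre. -/
theorem isComplement'_ker {H : Type*} [Group H] [Finite H] (hcard : Nat.card (Subgroup.center H) = 2)
    (z : H) (hz : z ∈ Subgroup.center H) (χ : H →* ℤˣ) (hχ : χ z = -1) :
    (Subgroup.center H).IsComplement' χ.ker := by
  have hz1 : z ≠ 1 := by
    rintro rfl
    rw [map_one] at hχ
    exact absurd hχ (by decide)
  have hall : ∀ c ∈ Subgroup.center H, c = 1 ∨ c = z := by
    intro c hc
    by_contra hcon
    push Not at hcon
    obtain ⟨y, -, hy⟩ := (Nat.card_eq_two_iff' (1 : Subgroup.center H)).mp hcard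
    have h1 := hy ⟨c, hc⟩ (fun h => hcon.1 (congrArg Subtype.val h))
    have h2 := hy ⟨z, hz⟩ (fun h => hz1 (congrArg Subtype.val h))
    exact hcon.2 (congrArg Subtype.val (h1.trans h2.symm))
  refine Subgroup.isComplement'_of_disjoint_and_mul_eq_univ ?_ ?_
  · rw [Subgroup.disjoint_def]
    intro x hx hx'
    rcases hall x hx with h | h
    · exact h
    · subst h
      rw [MonoidHom.mem_ker, hχ] at hx'
      exact absurd hx' (by decide)
  · rw [Set.eq_univ_iff_forall]
    intro g
    rcases Int.units_eq_one_or (χ g) with h | h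
    · exact ⟨1, one_mem _, g, h, one_mul g⟩
    · refine ⟨z, hz, z⁻¹ * g, ?_, by simp⟩
      change z⁻¹ * g ∈ χ.ker
      rw [MonoidHom.mem_ker, map_mul, map_inv, hχ, h]
      decide

/-- The homomorphism from a dihedral group given by an involution `A` inverting `R`, `R ^ k = 1`. -/
def dihHom {H : Type*} [Group H] (k : ℕ) [NeZero k] (A R : H) (hA : A * A = 1) (hR : R ^ k = 1)
    (hAR : A * R * A = R⁻¹) : DihedralGroup k →* H :=
  MonoidHom.mk' (fun d => match d with
    | DihedralGroup.r i => R ^ i.val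
    | DihedralGroup.sr i => A * R ^ i.val) (by
    have hadd : ∀ i j : ZMod k, R ^ (i + j).val = R ^ i.val * R ^ j.val := by
      intro i j
      rw [ZMod.val_add, ← pow_add]
      exact (pow_eq_pow_mod _ hR).symm
    have hzero : R ^ (0 : ZMod k).val = 1 := by simp
    have hneg : ∀ i : ZMod k, R ^ (-i).val = (R ^ i.val)⁻¹ := by
      intro i
      rw [eq_inv_iff_mul_eq_one, ← hadd, neg_add_cancel, hzero]
    have hsub : ∀ i j : ZMod k, R ^ (j - i).val = (R ^ i.val)⁻¹ * R ^ j.val := by
      intro i j
      rw [sub_eq_add_neg, add_comm, hadd, hneg]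
    have hinv : A⁻¹ = A := inv_eq_of_mul_eq_one_left hA
    have hconj : ∀ n : ℕ, A * R ^ n * A = (R ^ n)⁻¹ := by
      intro n
      have : MulAut.conj A (R ^ n) = (R ^ n)⁻¹ := by
        rw [map_pow, MulAut.conj_apply, hinv, hAR, inv_pow]
      rwa [MulAut.conj_apply, hinv] at this
    have hconj' : ∀ n : ℕ, R ^ n * A = A * (R ^ n)⁻¹ := by
      intro n
      rw [← hconj n, ← mul_assoc, ← mul_assoc, hA, one_mul]
    rintro (i | i) (j | j)
    · exact hadd i j
    · change A * R ^ (j - i).val = R ^ i.val * (A * R ^ j.val)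
      rw [hsub, ← mul_assoc, ← mul_assoc, hconj']
    · change A * R ^ (i + j).val = A * R ^ i.val * R ^ j.val
      rw [hadd, mul_assoc]
    · change R ^ (j - i).val = A * R ^ i.val * (A * R ^ j.val)
      rw [hsub, ← mul_assoc, hconj])

theorem dihHom_r {H : Type*} [Group H] (k : ℕ) [NeZero k] (A R : H) (hA : A * A = 1)
    (hR : R ^ k = 1) (hAR : A * R * A = R⁻¹) (i : ZMod k) :
    dihHom k A R hA hR hAR (DihedralGroup.r i) = R ^ i.val := rfl

theorem dihHom_sr {H : Type*} [Group H] (k : ℕ) [NeZero k] (A R : H) (hA : A * A = 1)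
    (hR : R ^ k = 1) (hAR : A * R * A = R⁻¹) (i : ZMod k) :
    dihHom k A R hA hR hAR (DihedralGroup.sr i) = A * R ^ i.val := rfl

end Cfsg.Agent.SporadicB.DoubleCover
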