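import Cfsg.Agent.SporadicB.DoubleCover

/-!
A non-split double cover of the alternating group of degree at most 7 has a unique involution.
-/

set_option autoImplicit false

namespace Cfsg.Agent.SporadicB.DoubleCoverSmall

open Equiv Equiv.Perm Cfsg.Agent.SporadicB.DoubleCover

/-- In the alternating group of degree at most 7 the involutions have cycle type `2^2`. -/
theorem cycleType_of_involution {n : ℕ} (hn : n ≤ 7) (σ : alternatingGroup (Fin n))
    (hσ : orderOf σ = 2) : (σ : Perm (Fin n)).cycleType = {2, 2} := by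
  have h1 : orderOf (σ : Perm (Fin n)) = 2 := by rw [Subgroup.orderOf_coe, hσ]
  obtain ⟨k, hk⟩ := cycleType_prime_order (σ := (σ : Perm (Fin n)))
    (by rw [h1]; exact Nat.prime_two)
  rw [h1] at hk
  have hs := sum_cycleType_le (σ : Perm (Fin n))
  have hsign : sign (σ : Perm (Fin n)) = 1 := mem_alternatingGroup.mp σ.2
  rw [sign_of_cycleType, hk] at hsign
  rw [hk] at hs ⊢
  simp only [Multiset.sum_replicate, smul_eq_mul, Fintype.card_fin, Multiset.card_replicate] at hs hsign
  have hk2 : k ≤ 2 := by omega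
  interval_cases k
  · exact absurd hsign (by decide)
  · rfl
  · exact absurd hsign (by decide)

/-- If an involution of type `2^2` commutes with an odd permutation, then all involutions of the
alternating group of degree at most 7 are conjugate. -/
theorem isConj_of_involutions {n : ℕ} (hn : n ≤ 7) (a c : Perm (Fin n)) (hc : sign c = -1)
    (hac : c * a = a * c) (ha : a.cycleType = {2, 2}) (σ τ : alternatingGroup (Fin n))
    (hσ : orderOf σ = 2) (hτ : orderOf τ = 2) : IsConj σ τ := by
  have key : ∀ ρ : alternatingGroup (Fin n), orderOf ρ = 2 →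
      ∃ g : alternatingGroup (Fin n), (g : Perm (Fin n)) * ρ * (g : Perm (Fin n))⁻¹ = a := by
    intro ρ hρ
    have h1 := cycleType_of_involution hn ρ hρ
    obtain ⟨g, hg⟩ := isConj_iff.mp (isConj_iff_cycleType_eq.mpr (h1.trans ha.symm))
    rcases Int.units_eq_one_or (sign g) with h | h
    · exact ⟨⟨g, mem_alternatingGroup.mpr h⟩, hg⟩
    · refine ⟨⟨c * g, mem_alternatingGroup.mpr (by rw [map_mul, hc, h]; decide)⟩, ?_⟩
      change c * g * ρ * (c * g)⁻¹ = a
      rw [mul_inv_rev, mul_assoc c g, mul_assoc c, ← mul_assoc (g * _), hg, ← mul_assoc, hac,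
        mul_inv_cancel_right]
  obtain ⟨g, hg⟩ := key σ hσ
  obtain ⟨h, hh⟩ := key τ hτ
  rw [isConj_iff]
  refine ⟨h⁻¹ * g, Subtype.val_injective ?_⟩
  change (h : Perm (Fin n))⁻¹ * (g : Perm (Fin n)) * σ * ((h : Perm (Fin n))⁻¹ * (g : Perm (Fin n)))⁻¹
    = τ
  have h1 : (h : Perm (Fin n))⁻¹ * (g : Perm (Fin n)) * σ * ((h : Perm (Fin n))⁻¹ * (g : Perm (Fin n)))⁻¹
    = (h : Perm (Fin n))⁻¹ * ((g : Perm (Fin n)) * σ * (g : Perm (Fin n))⁻¹) * (h : Perm (Fin n)) := by
    group
  rw [h1, hg, ← hh]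
  group

/-- The main step: a dihedral subgroup of odd index generated by two involutions. -/
theorem mem_center_of_involution {n k j m : ℕ} [NeZero k] (hk : k = 2 * j)
    (a b : alternatingGroup (Fin n)) (ha : orderOf a = 2) (hb : orderOf b = 2)
    (hab : orderOf ((a * b) ^ j) = 2) (hm : Odd m)
    (hcard : Nat.card (alternatingGroup (Fin n)) = 2 * k * m)
    (hinj1 : ∀ i : ZMod k, (a * b) ^ i.val = 1 → i = 0)
    (hinj2 : ∀ i : ZMod k, a * (a * b) ^ i.val ≠ 1)
    (hconj : ∀ σ τ : alternatingGroup (Fin n), orderOf σ = 2 → orderOf τ = 2 → IsConj σ τ)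
    {H : Type*} [Group H] [Finite H] (hH : Cfsg.IsNonsplitDoubleCover H (alternatingGroup (Fin n)))
    (x : H) (hx : orderOf x = 2) : x ∈ Subgroup.center H := by
  obtain ⟨hZ, ⟨e⟩, hL⟩ := hH
  by_contra hxc
  set f : H →* alternatingGroup (Fin n) :=
    e.toMonoidHom.comp (QuotientGroup.mk' (Subgroup.center H)) with hf
  have hfsurj : Function.Surjective f := by
    rw [hf]
    exact e.surjective.comp (QuotientGroup.mk'_surjective _)
  have hfker : ∀ g : H, f g = 1 ↔ g ∈ Subgroup.center H := by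
    intro g
    rw [← QuotientGroup.eq_one_iff (N := Subgroup.center H) g]
    change e ((g : H ⧸ Subgroup.center H)) = 1 ↔ _
    exact e.map_eq_one_iff
  obtain ⟨z, hz1, -⟩ := (Nat.card_eq_two_iff' (1 : Subgroup.center H)).mp hZ
  have hz1' : (z : H) ≠ 1 := fun h => hz1 (Subtype.ext h)
  have hsq : ∀ c ∈ Subgroup.center H, c * c = 1 := by
    intro c hc
    have h := pow_card_eq_one' (x := (⟨c, hc⟩ : Subgroup.center H))
    rw [hZ, pow_two] at h
    exact congrArg Subtype.val h
  have hxx : x * x = 1 := by rw [← pow_two, ← hx, pow_orderOf_eq_one]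
  have hfx : orderOf (f x) = 2 := by
    apply orderOf_eq_prime
    · rw [← map_pow, pow_two, hxx, map_one]
    · intro h
      exact hxc ((hfker x).mp h)
  have hlift : ∀ t : alternatingGroup (Fin n), orderOf t = 2 → ∀ X : H, f X = t → X * X = 1 := by
    intro t ht X hX
    obtain ⟨g, hg⟩ := isConj_iff.mp (hconj (f x) t hfx ht)
    obtain ⟨γ, rfl⟩ := hfsurj g
    have hc : (γ * x * γ⁻¹)⁻¹ * X ∈ Subgroup.center H := by
      rw [← hfker]
      rw [map_mul, map_inv, map_mul, map_mul, map_inv, hg, hX, inv_mul_cancel]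
    have hc2 := hsq _ hc
    have hcom := Subgroup.mem_center_iff.mp hc (γ * x * γ⁻¹)
    have hX' : X = (γ * x * γ⁻¹) * ((γ * x * γ⁻¹)⁻¹ * X) := by group
    generalize hcc : (γ * x * γ⁻¹)⁻¹ * X = c at *
    rw [hX']
    calc γ * x * γ⁻¹ * c * (γ * x * γ⁻¹ * c) = γ * x * γ⁻¹ * (c * (γ * x * γ⁻¹)) * c := by group
      _ = γ * x * γ⁻¹ * (γ * x * γ⁻¹ * c) * c := by rw [hcom]
      _ = γ * (x * x) * γ⁻¹ * (c * c) := by group
      _ = 1 := by rw [hxx, hc2]; group
  obtain ⟨A, hA⟩ := hfsurj a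
  obtain ⟨B, hB⟩ := hfsurj b
  have hA2 := hlift a ha A hA
  have hB2 := hlift b hb B hB
  have hR : (A * B) ^ k = 1 := by
    rw [hk, mul_comm, pow_mul, pow_two]
    exact hlift _ hab _ (by rw [map_pow, map_mul, hA, hB])
  have hAR : A * (A * B) * A = (A * B)⁻¹ := by
    rw [← mul_assoc, hA2, one_mul, mul_inv_rev, inv_eq_of_mul_eq_one_left hA2,
      inv_eq_of_mul_eq_one_left hB2]
  set φ := dihHom k A (A * B) hA2 hR hAR with hφ
  have hfφ : ∀ d, f (φ d) = 1 → d = 1 := by
    rintro (i | i) hd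
    · rw [hφ, dihHom_r, map_pow, map_mul, hA, hB] at hd
      rw [hinj1 i hd]
      rfl
    · rw [hφ, dihHom_sr, map_mul, map_pow, map_mul, hA, hB] at hd
      exact absurd hd (hinj2 i)
  have hφinj : Function.Injective φ := by
    rw [injective_iff_map_eq_one]
    intro d hd
    exact hfφ d (by rw [hd, map_one])
  have hQcard : Nat.card φ.range = 2 * k := by
    rw [← DihedralGroup.nat_card]
    exact (Nat.card_congr (MonoidHom.ofInjective hφinj).toEquiv).symm
  have hHcard : Nat.card H = 2 * k * m * 2 := by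
    rw [Subgroup.card_eq_card_quotient_mul_card_subgroup (Subgroup.center H), hZ,
      Nat.card_congr e.toEquiv, hcard]
  have hindex : φ.range.index = 2 * m := by
    have h1 := φ.range.index_mul_card
    rw [hQcard, hHcard] at h1
    have hkpos : 0 < k := Nat.pos_of_ne_zero (NeZero.ne k)
    have h2 : (2 * k) * φ.range.index = (2 * k) * (2 * m) := by
      rw [mul_comm (2 * k) φ.range.index, h1]; ring
    exact Nat.eq_of_mul_eq_mul_left (by omega) h2
  have hzQ : (z : H) ∉ φ.range := by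
    rintro ⟨d, hd⟩
    have h1 : f (φ d) = 1 := by
      rw [hd, hfker]
      exact z.2
    rw [hfφ d h1, map_one] at hd
    exact hz1' hd.symm
  obtain ⟨χ, hχ⟩ := exists_hom_of_index (z : H) z.2 (hsq _ z.2) φ.range hzQ hm hindex
  exact hL _ (isComplement'_ker hZ (z : H) z.2 χ hχ)

end Cfsg.Agent.SporadicB.DoubleCoverSmall
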