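import Cfsg.Agent.SporadicB.NetGroup

/-!
# Graphs stored as bit rows: automorphism test, neighbour counts, colour refinement
-/

set_option autoImplicit false

namespace Cfsg.Agent.SporadicB.GraphRefine

open Cfsg.Agent.SporadicB.PermNet Cfsg.Agent.SporadicB.NetGroup

/-- Binary trees of numbers (arrays of length `2 ^ k`). -/
inductive Tree : Type
  | leaf (n : Nat) : Tree
  | node (l r : Tree) : Tree

/-- Entry `i` of a tree of depth `k`. -/
noncomputable def get (t : Tree) : Nat → Nat → Nat :=
  @Tree.rec (fun _ => Nat → Nat → Nat) (fun n _ _ => n)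
    (fun _ _ ihl ihr k i => cond (Nat.ble (Nat.pow 2 (Nat.pred k)) i)
      (ihr (Nat.pred k) (Nat.sub i (Nat.pow 2 (Nat.pred k)))) (ihl (Nat.pred k) i)) t

theorem get_leaf (n k i : Nat) : get (Tree.leaf n) k i = n := rfl

theorem get_node (l r : Tree) (k i : Nat) : get (Tree.node l r) (k + 1) i =
    cond (Nat.ble (2 ^ k) i) (get r k (i - 2 ^ k)) (get l k i) := rfl

theorem get_node_lt (l r : Tree) (k i : Nat) (h : i < 2 ^ k) :
    get (Tree.node l r) (k + 1) i = get l k i := by
  rw [get_node]
  have : Nat.ble (2 ^ k) i = false := by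
    rw [Bool.eq_false_iff]
    intro hc
    have := Nat.le_of_ble_eq_true hc
    omega
  rw [this]
  rfl

theorem get_node_ge (l r : Tree) (k i : Nat) :
    get (Tree.node l r) (k + 1) (2 ^ k + i) = get r k i := by
  rw [get_node]
  have : Nat.ble (2 ^ k) (2 ^ k + i) = true := Nat.ble_eq_true_of_le (by omega)
  rw [this, Nat.add_sub_cancel_left]
  rfl

/-- The tree is complete of depth `k`. -/
noncomputable def perfect (t : Tree) : Nat → Bool :=
  @Tree.rec (fun _ => Nat → Bool) (fun _ k => Nat.beq k 0)
    (fun _ _ ihl ihr k => cond (Nat.beq k 0) false (and (ihl (Nat.pred k)) (ihr (Nat.pred k)))) t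

theorem perfect_leaf {n k : Nat} (h : perfect (Tree.leaf n) k = true) : k = 0 :=
  Nat.eq_of_beq_eq_true h

theorem perfect_node {l r : Tree} {k : Nat} (h : perfect (Tree.node l r) k = true) :
    ∃ k', k = k' + 1 ∧ perfect l k' = true ∧ perfect r k' = true := by
  cases k with
  | zero => exact absurd h (by show ¬ (false = true); simp)
  | succ k =>
    have h1 : and (perfect l k) (perfect r k) = true := h
    rw [Bool.and_eq_true] at h1
    exact ⟨k, rfl, h1.1, h1.2⟩

/-! ### Pointwise evaluation -/

/-- The number at position `v` whose binary digits are given by the planes. -/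
def pval (v : Nat) : List Nat → Nat
  | [] => 0
  | p :: ps => (p.testBit v).toNat + 2 * pval v ps

/-- Kernel version of `pval`. -/
noncomputable def pvalK (v : Nat) (ps : List Nat) : Nat :=
  @List.rec Nat (fun _ => Nat) 0
    (fun p _ ih => Nat.add (Nat.land (Nat.shiftRight p v) 1) (Nat.mul 2 ih)) ps

theorem pvalK_eq (v : Nat) (ps : List Nat) : pvalK v ps = pval v ps := by
  induction ps with
  | nil => rfl
  | cons p ps ih =>
    have e : pvalK v (p :: ps) = ((p >>> v) &&& 1) + 2 * pvalK v ps := rfl
    rw [e, ih, pval, Nat.and_one_is_mod, Nat.toNat_testBit, Nat.shiftRight_eq_div_pow]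

theorem testBit_pval (v : Nat) (ps : List Nat) (j : Nat) :
    (pval v ps).testBit j = (ps.getD j 0).testBit v := by
  induction ps generalizing j with
  | nil => simp [pval]
  | cons p ps ih =>
    cases j with
    | zero =>
      rw [pval, List.getD_cons_zero, Nat.testBit_zero]
      cases p.testBit v <;> simp
    | succ j =>
      rw [pval, List.getD_cons_succ, ← ih j, Nat.testBit_succ]
      congr 1
      cases p.testBit v
      · simp
      · simp; omega

/-- Pass the image planes `run l (plane w j)`, `j < k`, to a continuation. -/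
noncomputable def withPlanes (w : Nat) (l : Net) (k : Nat) (cont : List Nat → Bool) :
    List Nat → Bool :=
  @Nat.rec (fun _ => List Nat → Bool) cont
    (fun j ih acc => force (run l (plane w j)) fun x => ih (x :: acc)) k

theorem withPlanes_succ (w : Nat) (l : Net) (k : Nat) (cont : List Nat → Bool) (acc : List Nat) :
    withPlanes w l (k + 1) cont acc = withPlanes w l k cont (run l (plane w k) :: acc) :=
  force_eq (run l (plane w k)) fun x => withPlanes w l k cont (x :: acc)

/-- The image planes of a net. -/
noncomputable def imgPlanes (w : Nat) (l : Net) (k : Nat) : List Nat :=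
  (List.range k).map fun j => run l (plane w j)

theorem withPlanes_eq (w : Nat) (l : Net) (k : Nat) (cont : List Nat → Bool) (acc : List Nat) :
    withPlanes w l k cont acc = cont (imgPlanes w l k ++ acc) := by
  induction k generalizing acc with
  | zero => rfl
  | succ k ih =>
    rw [withPlanes_succ, ih, imgPlanes, imgPlanes, List.range_succ, List.map_append,
      List.append_assoc]
    rfl

theorem pval_imgPlanes {w : Nat} {l : Net} (ho : okNet (2 ^ w) l = true) {v : Nat}
    (hv : v < 2 ^ w) : pval v (imgPlanes w l w) = netPerm l v := by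
  have hb : netPerm l v < 2 ^ w := lt_of_fix_ge (fun j hj => netPerm_of_ge ho hj) hv
  apply Nat.eq_of_testBit_eq
  intro j
  rw [testBit_pval]
  rcases lt_or_ge j w with hj | hj
  · have e : (imgPlanes w l w).getD j 0 = run l (plane w j) := by
      rw [List.getD_eq_getElem _ _ (by simpa [imgPlanes] using hj)]
      simp [imgPlanes]
    rw [e, run_testBit (okNet_spec ho).1, plane_testBit w j _ hj]
    simp [hb]
  · have hp : (2 : Nat) ^ w ≤ 2 ^ j := Nat.pow_le_pow_right (by norm_num) hj
    rw [Nat.testBit_lt_two_pow (lt_of_lt_of_le hb hp), List.getD_eq_default _ _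
      (by simpa [imgPlanes] using hj)]
    simp

/-! ### Automorphisms -/

/-- `g` is an automorphism of the bit rows `A` on `[0, N)` fixing everything from `n` on. -/
def IsAut (A : Nat → Nat) (N n : Nat) (g : Equiv.Perm Nat) : Prop :=
  (∀ i, n ≤ i → g i = i) ∧ ∀ v < N, ∀ w, (A (g v)).testBit (g w) = (A v).testBit w

/-- The automorphism group of the bit rows `A`. -/
def autGroup (A : Nat → Nat) (N n : Nat) (hn : n ≤ N) : Subgroup (Equiv.Perm Nat) where
  carrier := {g | IsAut A N n g}
  one_mem' := ⟨fun _ _ => rfl, fun _ _ _ => rfl⟩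
  mul_mem' := by
    intro f g hf hg
    refine ⟨fun i hi => ?_, fun v hv w => ?_⟩
    · rw [Equiv.Perm.mul_apply, hg.1 i hi, hf.1 i hi]
    · rw [Equiv.Perm.mul_apply, Equiv.Perm.mul_apply, hf.2 _ (lt_of_fix_ge
        (fun i hi => hg.1 i (hn.trans hi)) hv), hg.2 v hv w]
  inv_mem' := by
    intro f hf
    have h1 : ∀ i, n ≤ i → f⁻¹ i = i := fun i hi => by
      rw [Equiv.Perm.inv_eq_iff_eq]
      exact (hf.1 i hi).symm
    refine ⟨h1, fun v hv w => ?_⟩
    have h2 := hf.2 (f⁻¹ v) (lt_of_fix_ge (fun i hi => h1 i (hn.trans hi)) hv) (f⁻¹ w)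
    rw [Equiv.Perm.coe_inv, Equiv.apply_symm_apply, Equiv.apply_symm_apply] at h2
    exact h2.symm

/-- Kernel automorphism test on a subtree; `Xs` are the image planes of `l`. -/
noncomputable def autT (l : Net) (Xs : List Nat) (T : Tree) (K : Nat) (t : Tree) : Nat → Nat → Bool :=
  @Tree.rec (fun _ => Nat → Nat → Bool)
    (fun r _ v => force (pvalK v Xs) fun u => Nat.beq (run l (get T K u)) r)
    (fun _ _ ihl ihr k v => and (ihl (Nat.pred k) v)
      (ihr (Nat.pred k) (Nat.add (Nat.pow 2 (Nat.pred k)) v))) t

theorem autT_spec {l : Net} {K : Nat} (ho : okNet (2 ^ K) l = true) {T : Tree} {t : Tree}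
    {k v : Nat} (hp : perfect t k = true) (hv : v + 2 ^ k ≤ 2 ^ K)
    (h : autT l (imgPlanes K l K) T K t k v = true) :
    ∀ i < 2 ^ k, run l (get T K (netPerm l (v + i))) = get t k i := by
  induction t generalizing k v with
  | leaf r =>
    intro i hi
    have h1 : (force (pvalK v (imgPlanes K l K)) fun u => Nat.beq (run l (get T K u)) r) = true := h
    have hk := perfect_leaf hp
    subst hk
    have : i = 0 := by simpa using hi
    subst this
    rw [force_eq, pvalK_eq, pval_imgPlanes ho (by simpa using hv)] at h1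
    exact Nat.eq_of_beq_eq_true h1
  | node a b iha ihb =>
    obtain ⟨k', rfl, ha, hb⟩ := perfect_node hp
    have h1 : and (autT l (imgPlanes K l K) T K a k' v)
      (autT l (imgPlanes K l K) T K b k' (2 ^ k' + v)) = true := h
    rw [Bool.and_eq_true] at h1
    rw [pow_succ] at hv
    intro i hi
    rcases lt_or_ge i (2 ^ k') with h2 | h2
    · rw [get_node_lt _ _ _ _ h2]
      exact iha ha (by omega) h1.1 i h2
    · obtain ⟨j, rfl⟩ : ∃ j, i = 2 ^ k' + j := ⟨i - 2 ^ k', by omega⟩
      have h3 : j < 2 ^ k' := by rw [pow_succ] at hi; omega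
      rw [get_node_ge, ← ihb hb (by omega) h1.2 j h3]
      congr 3
      omega

/-- Kernel automorphism test. -/
noncomputable def autTest (l : Net) (T : Tree) (K : Nat) : Bool :=
  withPlanes K l K (fun Xs => autT l Xs T K T K 0) []

theorem mem_autGroup {l : Net} {T : Tree} {K n : Nat} (hn : n ≤ 2 ^ K)
    (ho : okNet (2 ^ K) l = true) (hf : fixHi K n l K = true)
    (hp : perfect T K = true) (h : autTest l T K = true) :
    netPerm l ∈ autGroup (get T K) (2 ^ K) n hn := by
  refine ⟨fun i hi => fixHi_spec ho hf hi, fun v hv w => ?_⟩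
  unfold autTest at h
  rw [withPlanes_eq, List.append_nil] at h
  have h1 := autT_spec ho hp (by simp) h v hv
  rw [zero_add] at h1
  rw [← run_testBit (okNet_spec ho).1, h1]

/-! ### Neighbour counts -/

/-- Full adder on bit planes. -/
noncomputable def addP (as : List Nat) : List Nat → Nat → List Nat :=
  @List.rec Nat (fun _ => List Nat → Nat → List Nat) (fun _ c => [c])
    (fun a _ ih bs c => @List.rec Nat (fun _ => List Nat) []
      (fun b bs' _ => force (Nat.xor (Nat.xor a b) c) fun s =>
        s :: ih bs' (Nat.lor (Nat.land a b) (Nat.land c (Nat.xor a b)))) bs) as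

theorem addP_nil (bs : List Nat) (c : Nat) : addP [] bs c = [c] := rfl

theorem addP_cons (a b : Nat) (as bs : List Nat) (c : Nat) :
    addP (a :: as) (b :: bs) c =
      (a ^^^ b ^^^ c) :: addP as bs ((a &&& b) ||| (c &&& (a ^^^ b))) :=
  force_eq (Nat.xor (Nat.xor a b) c) fun s =>
        s :: addP as bs (Nat.lor (Nat.land a b) (Nat.land c (Nat.xor a b)))

theorem pval_addP (v : Nat) (as bs : List Nat) (c : Nat) (h : as.length = bs.length) :
    pval v (addP as bs c) = pval v as + pval v bs + (c.testBit v).toNat := by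
  induction as generalizing bs c with
  | nil =>
    cases bs with
    | nil => simp [addP_nil, pval]
    | cons b bs => simp at h
  | cons a as ih =>
    cases bs with
    | nil => simp at h
    | cons b bs =>
      rw [addP_cons, pval, pval, pval, ih bs _ (by simpa using h)]
      simp only [Nat.testBit_xor, Nat.testBit_lor, Nat.testBit_land]
      cases a.testBit v <;> cases b.testBit v <;> cases c.testBit v <;> simp <;> omega

theorem length_addP (as bs : List Nat) (c : Nat) (h : as.length = bs.length) :
    (addP as bs c).length = as.length + 1 := by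
  induction as generalizing bs c with
  | nil => rfl
  | cons a as ih =>
    cases bs with
    | nil => simp at h
    | cons b bs =>
      rw [addP_cons, List.length_cons, ih bs _ (by simpa using h), List.length_cons]

/-- Bit planes of the number of set positions `i` of `C` whose row contains `v`. -/
noncomputable def sumT (t : Tree) : Nat → Nat → List Nat :=
  @Tree.rec (fun _ => Nat → Nat → List Nat) (fun n _ C => [Nat.mul n C])
    (fun _ _ ihl ihr k C => force C fun C =>
      addP (ihl (Nat.pred k) (Nat.mod C (Nat.pow 2 (Nat.pow 2 (Nat.pred k)))))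
        (ihr (Nat.pred k) (Nat.shiftRight C (Nat.pow 2 (Nat.pred k)))) 0) t

theorem sumT_leaf (n k C : Nat) : sumT (Tree.leaf n) k C = [n * C] := rfl

theorem sumT_node (l r : Tree) (k C : Nat) : sumT (Tree.node l r) (k + 1) C =
    addP (sumT l k (C % 2 ^ 2 ^ k)) (sumT r k (C >>> 2 ^ k)) 0 :=
  force_eq C fun C => addP (sumT l k (C % 2 ^ 2 ^ k)) (sumT r k (C >>> 2 ^ k)) 0

theorem length_sumT (t : Tree) (k C : Nat) (hp : perfect t k = true) :
    (sumT t k C).length = k + 1 := by
  induction t generalizing k C with
  | leaf n =>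
    have := perfect_leaf hp
    subst this
    rfl
  | node l r ihl ihr =>
    obtain ⟨k', rfl, ha, hb⟩ := perfect_node hp
    rw [sumT_node, length_addP _ _ _ (by rw [ihl _ _ ha, ihr _ _ hb]), ihl _ _ ha]

/-- The count. -/
def cnt (A : Nat → Nat) (N C v : Nat) : Nat :=
  ∑ i ∈ Finset.range N, (C.testBit i && (A i).testBit v).toNat

theorem pval_sumT (t : Tree) (k C v : Nat) (hp : perfect t k = true) (hC : C < 2 ^ 2 ^ k) :
    pval v (sumT t k C) = cnt (get t k) (2 ^ k) C v := by
  induction t generalizing k C with
  | leaf n =>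
    have := perfect_leaf hp
    subst this
    have h2 : C = 0 ∨ C = 1 := by
      have : C < 2 := by simpa using hC
      omega
    rw [sumT_leaf, cnt]
    simp only [pow_zero, Finset.range_one, Finset.sum_singleton, get_leaf, pval]
    rcases h2 with rfl | rfl <;> simp
  | node l r ihl ihr =>
    obtain ⟨k', rfl, ha, hb⟩ := perfect_node hp
    have hpw : 2 ^ 2 ^ (k' + 1) = 2 ^ 2 ^ k' * 2 ^ 2 ^ k' := by
      rw [← pow_add, pow_succ, mul_two]
    have h1 : C % 2 ^ 2 ^ k' < 2 ^ 2 ^ k' := Nat.mod_lt _ (by positivity)
    have h2 : C >>> 2 ^ k' < 2 ^ 2 ^ k' := by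
      rw [Nat.shiftRight_eq_div_pow]
      rw [hpw] at hC
      exact Nat.div_lt_of_lt_mul hC
    rw [sumT_node, pval_addP _ _ _ _ (by rw [length_sumT _ _ _ ha, length_sumT _ _ _ hb]),
      ihl _ _ ha h1, ihr _ _ hb h2]
    have e : 2 ^ (k' + 1) = 2 ^ k' + 2 ^ k' := by rw [pow_succ]; omega
    unfold cnt
    rw [e, Finset.sum_range_add]
    simp only [Nat.zero_testBit, Bool.toNat_false, add_zero]
    congr 1
    · apply Finset.sum_congr rfl
      intro i hi
      rw [Finset.mem_range] at hi
      rw [get_node_lt _ _ _ _ hi, Nat.testBit_mod_two_pow]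
      simp [hi]
    · apply Finset.sum_congr rfl
      intro i hi
      rw [get_node_ge, Nat.testBit_shiftRight]

/-- A bit vector invariant under `g`. -/
def InvSet (g : Equiv.Perm Nat) (C : Nat) : Prop := ∀ i, C.testBit (g i) = C.testBit i

theorem InvSet.land {g : Equiv.Perm Nat} {C D : Nat} (h : InvSet g C) (h' : InvSet g D) :
    InvSet g (C &&& D) := fun i => by rw [Nat.testBit_land, Nat.testBit_land, h i, h' i]

theorem InvSet.lor {g : Equiv.Perm Nat} {C D : Nat} (h : InvSet g C) (h' : InvSet g D) :
    InvSet g (C ||| D) := fun i => by rw [Nat.testBit_lor, Nat.testBit_lor, h i, h' i]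

theorem InvSet.xor {g : Equiv.Perm Nat} {C D : Nat} (h : InvSet g C) (h' : InvSet g D) :
    InvSet g (C ^^^ D) := fun i => by rw [Nat.testBit_xor, Nat.testBit_xor, h i, h' i]

theorem InvSet.zero (g : Equiv.Perm Nat) : InvSet g 0 := fun i => by simp

theorem InvSet.row {g : Equiv.Perm Nat} {A : Nat → Nat} {N n : Nat} (h : IsAut A N n g) {b : Nat}
    (hb : b < N) (hg : g b = b) : InvSet g (A b) := fun i => by
  have := h.2 b hb i
  rw [hg] at this
  exact this

theorem cnt_inv {g : Equiv.Perm Nat} {A : Nat → Nat} {N n : Nat} (hn : n ≤ N)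
    (h : IsAut A N n g) {C : Nat} (hC : InvSet g C) (v : Nat) : cnt A N C (g v) = cnt A N C v := by
  unfold cnt
  symm
  refine Finset.sum_bij' (fun i _ => g i) (fun i _ => g⁻¹ i) ?_ ?_ ?_ ?_ ?_
  · intro i hi
    rw [Finset.mem_range] at hi ⊢
    exact lt_of_fix_ge (fun j hj => h.1 j (hn.trans hj)) hi
  · intro i hi
    rw [Finset.mem_range] at hi ⊢
    refine lt_of_fix_ge (fun j hj => ?_) hi
    rw [Equiv.Perm.inv_eq_iff_eq]
    exact (h.1 j (hn.trans hj)).symm
  · intro i _
    exact Equiv.symm_apply_apply g _
  · intro i _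
    exact Equiv.apply_symm_apply g _
  · intro i hi
    rw [Finset.mem_range] at hi
    rw [hC i, h.2 i hi v]

/-- Every plane of the count of an invariant set is invariant. -/
theorem InvSet.sumT {g : Equiv.Perm Nat} {T : Tree} {K n : Nat} (hn : n ≤ 2 ^ K)
    (hp : perfect T K = true) (h : IsAut (get T K) (2 ^ K) n g) {C : Nat} (hC : InvSet g C)
    (hC' : C < 2 ^ 2 ^ K) : ∀ p ∈ GraphRefine.sumT T K C, InvSet g p := by
  intro p hpm i
  obtain ⟨j, hj, rfl⟩ := List.mem_iff_getElem.1 hpm
  have h1 := testBit_pval (g i) (GraphRefine.sumT T K C) j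
  have h2 := testBit_pval i (GraphRefine.sumT T K C) j
  rw [pval_sumT _ _ _ _ hp hC', cnt_inv hn h hC] at h1
  rw [pval_sumT _ _ _ _ hp hC'] at h2
  rw [h2] at h1
  rw [List.getD_eq_getElem _ _ hj] at h1
  exact h1.symm

/-! ### Separation of all positions -/

/-- Check that the positions in the list have strictly increasing signatures and cover `target`. -/
noncomputable def sortedK (Q : List Nat) (target : Nat) (L : List Nat) : Nat → Nat → Bool :=
  @List.rec Nat (fun _ => Nat → Nat → Bool) (fun _ seen => Nat.beq seen target)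
    (fun v _ ih prev seen => force (Nat.succ (pvalK v Q)) fun s =>
      cond (Nat.ble (Nat.succ prev) s)
        (force (Nat.lor seen (Nat.shiftLeft 1 v)) fun seen' => ih s seen') false) L

theorem sortedK_cons (Q : List Nat) (target v : Nat) (L : List Nat) (prev seen : Nat) :
    sortedK Q target (v :: L) prev seen = cond (Nat.ble (Nat.succ prev) (Nat.succ (pvalK v Q)))
      (sortedK Q target L (Nat.succ (pvalK v Q)) (seen ||| (1 <<< v))) false := by
  have e : sortedK Q target (v :: L) prev seen = force (Nat.succ (pvalK v Q)) fun s =>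
      cond (Nat.ble (Nat.succ prev) s)
        (force (Nat.lor seen (Nat.shiftLeft 1 v)) fun seen' => sortedK Q target L s seen') false := rfl
  rw [e, force_eq, force_eq]
  rfl

theorem sortedK_spec (Q : List Nat) (target : Nat) (L : List Nat) (prev seen : Nat)
    (h : sortedK Q target L prev seen = true) :
    (∀ v, target.testBit v = true → seen.testBit v = true ∨ v ∈ L) ∧
    (∀ v ∈ L, prev < pval v Q + 1) ∧
    (∀ v ∈ L, ∀ w ∈ L, pval v Q = pval w Q → v = w) := by
  induction L generalizing prev seen with
  | nil =>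
    have h1 : seen = target := Nat.eq_of_beq_eq_true h
    subst h1
    refine ⟨fun v hv => Or.inl hv, ?_, ?_⟩ <;> simp
  | cons u L ih =>
    rw [sortedK_cons] at h
    cases hb : Nat.ble (Nat.succ prev) (Nat.succ (pvalK u Q)) with
    | false => rw [hb] at h; exact absurd h (by simp)
    | true =>
      rw [hb, cond_true] at h
      have hlt := Nat.le_of_ble_eq_true hb
      rw [pvalK_eq] at h hlt
      obtain ⟨h1, h2, h3⟩ := ih _ _ h
      refine ⟨?_, ?_, ?_⟩
      · intro v hv
        rcases h1 v hv with h4 | h4
        · rw [Nat.testBit_lor, testBit_one_shiftLeft, Bool.or_eq_true, decide_eq_true_eq] at h4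
          rcases h4 with h4 | h4
          · exact Or.inl h4
          · exact Or.inr (h4 ▸ List.mem_cons_self)
        · exact Or.inr (List.mem_cons_of_mem _ h4)
      · intro v hv
        rcases List.mem_cons.1 hv with rfl | hv
        · omega
        · have := h2 v hv
          omega
      · intro v hv w hw hvw
        rcases List.mem_cons.1 hv with rfl | hv
        · rcases List.mem_cons.1 hw with rfl | hw
          · rfl
          · have := h2 w hw
            omega
        · rcases List.mem_cons.1 hw with hw | hw
          · have := h2 v hv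
            rw [hw] at hvw
            omega
          · exact h3 v hv w hw hvw

/-- If all planes of `Q` are invariant under `g`, the positions are separated by `Q`, and `g` fixes
everything outside `[0, n)`, then `g = 1`. -/
theorem eq_one_of_sortedK {g : Equiv.Perm Nat} {n : Nat} (hg : ∀ i, n ≤ i → g i = i)
    {Q : List Nat} (hQ : ∀ q ∈ Q, InvSet g q) {target : Nat} (ht : Nat.beq target (2 ^ n - 1) = true)
    {L : List Nat} (h : sortedK Q target L 0 0 = true) : g = 1 := by
  obtain ⟨h1, -, h3⟩ := sortedK_spec Q target L 0 0 h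
  have ht' := Nat.eq_of_beq_eq_true ht
  have hmem : ∀ v < n, v ∈ L := by
    intro v hv
    rcases h1 v (by rw [ht', Nat.testBit_two_pow_sub_one]; simpa using hv) with h4 | h4
    · simp at h4
    · exact h4
  have hpv : ∀ v, pval (g v) Q = pval v Q := by
    intro v
    clear h h3 h1 hmem
    induction Q with
    | nil => rfl
    | cons q Q ih =>
      rw [pval, pval, ih (fun q' hq' => hQ q' (List.mem_cons_of_mem _ hq')),
        hQ q List.mem_cons_self v]
  ext v
  rcases lt_or_ge v n with hv | hv
  · exact h3 _ (hmem _ (lt_of_fix_ge hg hv)) _ (hmem v hv) (hpv v)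
  · exact hg v hv

/-- Kernel comparison of lists of numbers. -/
noncomputable def listBeq (as : List Nat) : List Nat → Bool :=
  @List.rec Nat (fun _ => List Nat → Bool)
    (fun bs => @List.rec Nat (fun _ => Bool) true (fun _ _ _ => false) bs)
    (fun a _ ih bs => @List.rec Nat (fun _ => Bool) false
      (fun b bs' _ => and (Nat.beq a b) (ih bs')) bs) as

theorem listBeq_spec {as bs : List Nat} (h : listBeq as bs = true) : as = bs := by
  induction as generalizing bs with
  | nil =>
    cases bs with
    | nil => rfl
    | cons b bs => exact absurd h (by show ¬ (false = true); simp)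
  | cons a as ih =>
    cases bs with
    | nil => exact absurd h (by show ¬ (false = true); simp)
    | cons b bs =>
      have h1 : and (Nat.beq a b) (listBeq as bs) = true := h
      rw [Bool.and_eq_true] at h1
      rw [Nat.eq_of_beq_eq_true h1.1, ih h1.2]

/-- Xor of the members of the pool selected by the bits of `m`. -/
noncomputable def xorSel (pool : List Nat) : Nat → Nat :=
  @List.rec Nat (fun _ => Nat → Nat) (fun _ => 0)
    (fun q _ ih m => Nat.xor (Nat.mul q (Nat.land m 1)) (ih (Nat.shiftRight m 1))) pool

theorem InvSet.xorSel {g : Equiv.Perm Nat} {pool : List Nat} (h : ∀ q ∈ pool, InvSet g q) (m : Nat) :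
    InvSet g (GraphRefine.xorSel pool m) := by
  induction pool generalizing m with
  | nil => exact InvSet.zero g
  | cons q pool ih =>
    have e : GraphRefine.xorSel (q :: pool) m =
      (q * (m &&& 1)) ^^^ GraphRefine.xorSel pool (m >>> 1) := rfl
    rw [e]
    refine InvSet.xor ?_ (ih (fun q' hq' => h q' (List.mem_cons_of_mem _ hq')) _)
    rw [Nat.and_one_is_mod]
    rcases Nat.mod_two_eq_zero_or_one m with h1 | h1
    · rw [h1, Nat.mul_zero]
      exact InvSet.zero g
    · rw [h1, Nat.mul_one]
      exact h q List.mem_cons_self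

/-- Intersect `acc` with the members of `Q` or their complements, according to the bits of `s`. -/
noncomputable def selK (Q : List Nat) : Nat → Nat → Nat :=
  @List.rec Nat (fun _ => Nat → Nat → Nat) (fun _ acc => acc)
    (fun q _ ih s acc => force (cond (Nat.beq (Nat.land s 1) 1) (Nat.land acc q)
      (Nat.xor acc (Nat.land acc q))) (ih (Nat.shiftRight s 1))) Q

theorem selK_cons (q : Nat) (Q : List Nat) (s acc : Nat) :
    selK (q :: Q) s acc = selK Q (s >>> 1) (cond (Nat.beq (Nat.land s 1) 1) (acc &&& q)
      (acc ^^^ (acc &&& q))) := force_eq _ _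

theorem InvSet.selK {g : Equiv.Perm Nat} {Q : List Nat} (h : ∀ q ∈ Q, InvSet g q) (s acc : Nat)
    (ha : InvSet g acc) : InvSet g (GraphRefine.selK Q s acc) := by
  induction Q generalizing s acc with
  | nil => exact ha
  | cons q Q ih =>
    rw [selK_cons]
    refine ih (fun q' hq' => h q' (List.mem_cons_of_mem _ hq')) _ _ ?_
    cases Nat.beq (Nat.land s 1) 1 with
    | true => exact ha.land (h q List.mem_cons_self)
    | false => exact ha.xor (ha.land (h q List.mem_cons_self))

theorem InvSet.all {g : Equiv.Perm Nat} {n : Nat} (h : ∀ i, n ≤ i → g i = i) :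
    InvSet g (2 ^ n - 1) := fun i => by
  rw [Nat.testBit_two_pow_sub_one, Nat.testBit_two_pow_sub_one, decide_eq_decide]
  constructor
  · intro h1
    by_contra hc
    rw [h i (by omega)] at h1
    exact hc h1
  · exact fun h1 => lt_of_fix_ge h h1

theorem InvSet.single {g : Equiv.Perm Nat} {b : Nat} (h : g b = b) : InvSet g (1 <<< b) :=
  fun i => by
  rw [testBit_one_shiftLeft, testBit_one_shiftLeft, decide_eq_decide]
  constructor
  · intro h1
    apply g.injective
    rw [h1, h]
  · rintro rfl
    exact h

end Cfsg.Agent.SporadicB.GraphRefine
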