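import Cfsg.Agent.SporadicB.PermNet

/-!
# Groups generated by nets: orbits, stabiliser chains, popcount, a simplicity criterion
-/

set_option autoImplicit false

namespace Cfsg.Agent.SporadicB.NetGroup

open Cfsg.Agent.SporadicB.PermNet

/-- Evaluate a number before passing it on (kernel strictness). -/
noncomputable def force {α : Type} (x : Nat) (k : Nat → α) : α :=
  @Nat.rec (fun _ => α) (k 0) (fun n _ => k (Nat.succ n)) x

theorem force_eq {α : Type} (x : Nat) (k : Nat → α) : force x k = k x := by
  cases x <;> rfl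

/-- Grow a set of positions through a sequence of nets (preimages are added). -/
noncomputable def bfs (ns : List Net) : Nat → Nat :=
  @List.rec Net (fun _ => Nat → Nat) (fun x => x)
    (fun n _ ih x => force (Nat.lor x (run n x)) ih) ns

theorem bfs_nil (x : Nat) : bfs [] x = x := rfl

theorem bfs_cons (n : Net) (ns : List Net) (x : Nat) :
    bfs (n :: ns) x = bfs ns (x ||| run n x) :=
  force_eq (Nat.lor x (run n x)) (bfs ns)

/-- Repeat a sequence of nets. -/
noncomputable def rounds (ns : List Net) (r : Nat) : Nat → Nat :=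
  @Nat.rec (fun _ => Nat → Nat) (fun x => x) (fun _ ih x => force (bfs ns x) ih) r

theorem rounds_succ (ns : List Net) (r x : Nat) :
    rounds ns (r + 1) x = rounds ns r (bfs ns x) := force_eq (bfs ns x) (rounds ns r)

theorem bfs_spec {ns : List Net} (hv : ∀ n ∈ ns, Valid n) {O : Set Nat}
    (hO : ∀ n ∈ ns, ∀ i, netPerm n i ∈ O → i ∈ O) {x : Nat} (hx : ∀ i, x.testBit i = true → i ∈ O)
    (i : Nat) (hi : (bfs ns x).testBit i = true) : i ∈ O := by
  induction ns generalizing x with
  | nil => exact hx i hi
  | cons n ns ih =>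
    rw [bfs_cons] at hi
    refine ih (fun m hm => hv m (List.mem_cons_of_mem _ hm))
      (fun m hm => hO m (List.mem_cons_of_mem _ hm)) ?_ hi
    intro j hj
    rw [Nat.testBit_lor, Bool.or_eq_true] at hj
    rcases hj with hj | hj
    · exact hx j hj
    · rw [run_testBit (hv n List.mem_cons_self)] at hj
      exact hO n List.mem_cons_self j (hx _ hj)

theorem rounds_spec {ns : List Net} (hv : ∀ n ∈ ns, Valid n) {O : Set Nat}
    (hO : ∀ n ∈ ns, ∀ i, netPerm n i ∈ O → i ∈ O) (r : Nat) {x : Nat}
    (hx : ∀ i, x.testBit i = true → i ∈ O)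
    (i : Nat) (hi : (rounds ns r x).testBit i = true) : i ∈ O := by
  induction r generalizing x with
  | zero => exact hx i hi
  | succ r ih =>
    rw [rounds_succ] at hi
    exact ih (fun j hj => bfs_spec hv hO hx j hj) hi

/-- Orbits: everything reached from `p` by `rounds` lies in the orbit of `p` under any subgroup
containing the permutations of the nets. -/
theorem mem_orbit_of_rounds {ns : List Net} (hv : ∀ n ∈ ns, Valid n)
    {H : Subgroup (Equiv.Perm Nat)} (hH : ∀ n ∈ ns, netPerm n ∈ H) {r p X : Nat}
    (hX : Nat.beq (rounds ns r (Nat.shiftLeft 1 p)) X = true) {i : Nat} (hi : X.testBit i = true) :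
    i ∈ MulAction.orbit H p := by
  have hX' := Nat.eq_of_beq_eq_true hX
  rw [← hX'] at hi
  refine rounds_spec (O := MulAction.orbit H p) hv ?_ r (x := Nat.shiftLeft 1 p) ?_ i hi
  · intro n hn j hj
    obtain ⟨h, h1⟩ := hj
    refine ⟨(⟨netPerm n, hH n hn⟩ : H)⁻¹ * h, ?_⟩
    have h2 : h • p = (⟨netPerm n, hH n hn⟩ : H) • j := h1
    show ((⟨netPerm n, hH n hn⟩ : H)⁻¹ * h) • p = j
    rw [mul_smul, h2, inv_smul_smul]
  · intro j hj
    have h1 : (1 <<< p).testBit j = true := hj
    rw [Nat.testBit_shiftLeft] at h1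
    rw [Bool.and_eq_true, decide_eq_true_eq] at h1
    have h3 : j - p = 0 := by
      by_contra hne
      rw [Nat.testBit_lt_two_pow (Nat.one_lt_two_pow hne)] at h1
      exact absurd h1.2 (by simp)
    have h4 : j = p := by omega
    rw [h4]
    exact MulAction.mem_orbit_self p

/-- Kernel test `netPerm l b = c`. -/
noncomputable def ptTest (l : Net) (b c : Nat) : Bool :=
  Nat.beq (run l (Nat.shiftLeft 1 c)) (Nat.shiftLeft 1 b)

theorem testBit_one_shiftLeft (b j : Nat) : (1 <<< b).testBit j = decide (j = b) := by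
  rw [Nat.testBit_shiftLeft]
  by_cases h : j = b
  · subst h
    simp
  · by_cases h1 : j ≥ b
    · have h2 : j - b ≠ 0 := by omega
      rw [Nat.testBit_lt_two_pow (Nat.one_lt_two_pow h2)]
      simp [h]
    · simp [h, h1]

theorem ptTest_spec {l : Net} (hv : Valid l) {b c : Nat} (h : ptTest l b c = true) :
    netPerm l b = c := by
  have h1 : run l (1 <<< c) = 1 <<< b := Nat.eq_of_beq_eq_true h
  have h2 := congrArg (fun z => Nat.testBit z b) h1
  simp only [run_testBit hv, testBit_one_shiftLeft, decide_true, decide_eq_true_eq] at h2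
  exact h2

/-- Kernel test that the net fixes all positions from `n` on (`n ≤ 2 ^ w`). -/
noncomputable def fixHi (w n : Nat) (l : Net) (k : Nat) : Bool :=
  @Nat.rec (fun _ => Bool) true
    (fun j ih => and (Nat.beq (Nat.shiftRight (run l (plane w j)) n) (Nat.shiftRight (plane w j) n)) ih) k

theorem fixHi_aux {w n : Nat} {l : Net} {k : Nat} (h : fixHi w n l k = true) :
    ∀ j < k, (run l (plane w j)) >>> n = (plane w j) >>> n := by
  induction k with
  | zero => intro j hj; omega
  | succ k ih =>
    have h1 : and (Nat.beq (Nat.shiftRight (run l (plane w k)) n) (Nat.shiftRight (plane w k) n))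
      (fixHi w n l k) = true := h
    rw [Bool.and_eq_true] at h1
    intro j hj
    rcases Nat.lt_succ_iff_lt_or_eq.1 hj with hj | rfl
    · exact ih h1.2 j hj
    · exact Nat.eq_of_beq_eq_true h1.1

theorem fixHi_spec {w n : Nat} {l : Net} (ho : okNet (2 ^ w) l = true)
    (h : fixHi w n l w = true) {i : Nat} (hi : n ≤ i) : netPerm l i = i := by
  rcases lt_or_ge i (2 ^ w) with hw | hw
  · have hb : netPerm l i < 2 ^ w := lt_of_fix_ge (fun j hj => netPerm_of_ge ho hj) hw
    apply Nat.eq_of_testBit_eq
    intro j
    rcases lt_or_ge j w with hj | hj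
    · have h2 := congrArg (fun z => Nat.testBit z (i - n)) (fixHi_aux h j hj)
      have e : n + (i - n) = i := by omega
      simp only [Nat.testBit_shiftRight, e, run_testBit (okNet_spec ho).1,
        plane_testBit w j _ hj, hb, hw, decide_true, Bool.true_and] at h2
      exact h2
    · have hp : (2 : Nat) ^ w ≤ 2 ^ j := Nat.pow_le_pow_right (by norm_num) hj
      rw [Nat.testBit_lt_two_pow (lt_of_lt_of_le hb hp),
        Nat.testBit_lt_two_pow (lt_of_lt_of_le hw hp)]
  · exact netPerm_of_ge ho hw

/-- Run a word of nets. -/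
noncomputable def runs (ws : List Net) : Nat → Nat :=
  @List.rec Net (fun _ => Nat → Nat) (fun x => x) (fun n _ ih x => force (run n x) ih) ws

theorem runs_cons (n : Net) (ws : List Net) (x : Nat) : runs (n :: ws) x = runs ws (run n x) :=
  force_eq (run n x) (runs ws)

theorem runs_testBit {ws : List Net} (hv : ∀ l ∈ ws, Valid l) (x i : Nat) :
    (runs ws x).testBit i = x.testBit ((ws.map netPerm).prod i) := by
  induction ws generalizing x with
  | nil => rfl
  | cons l ws ih =>
    rw [runs_cons, ih (fun m hm => hv m (List.mem_cons_of_mem _ hm)),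
      run_testBit (hv l List.mem_cons_self), List.map_cons, List.prod_cons, Equiv.Perm.mul_apply]

/-- Kernel test that two words are equal permutations of `2 ^ w` positions. -/
noncomputable def eqWord (w : Nat) (ws ws' : List Net) (k : Nat) : Bool :=
  @Nat.rec (fun _ => Bool) true
    (fun j ih => and (Nat.beq (runs ws (plane w j)) (runs ws' (plane w j))) ih) k

theorem eqWord_aux {w : Nat} {ws ws' : List Net} {k : Nat} (h : eqWord w ws ws' k = true) :
    ∀ j < k, runs ws (plane w j) = runs ws' (plane w j) := by
  induction k with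
  | zero => intro j hj; omega
  | succ k ih =>
    have h1 : and (Nat.beq (runs ws (plane w k)) (runs ws' (plane w k)))
      (eqWord w ws ws' k) = true := h
    rw [Bool.and_eq_true] at h1
    intro j hj
    rcases Nat.lt_succ_iff_lt_or_eq.1 hj with hj | rfl
    · exact ih h1.2 j hj
    · exact Nat.eq_of_beq_eq_true h1.1

theorem prod_of_ge {B : Nat} {ws : List Net} (ho : ∀ l ∈ ws, okNet B l = true) {i : Nat}
    (hi : B ≤ i) : (ws.map netPerm).prod i = i := by
  induction ws with
  | nil => rfl
  | cons l ws ih =>
    rw [List.map_cons, List.prod_cons, Equiv.Perm.mul_apply,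
      ih (fun m hm => ho m (List.mem_cons_of_mem _ hm)), netPerm_of_ge (ho l List.mem_cons_self) hi]

theorem prod_eq_of_eqWord {w : Nat} {ws ws' : List Net} (ho : ∀ l ∈ ws, okNet (2 ^ w) l = true)
    (ho' : ∀ l ∈ ws', okNet (2 ^ w) l = true) (h : eqWord w ws ws' w = true) :
    (ws.map netPerm).prod = (ws'.map netPerm).prod := by
  have h1 := eqWord_aux h
  have hv : ∀ l ∈ ws, Valid l := fun l hl => (okNet_spec (ho l hl)).1
  have hv' : ∀ l ∈ ws', Valid l := fun l hl => (okNet_spec (ho' l hl)).1
  ext i
  rcases lt_or_ge i (2 ^ w) with hi | hi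
  · have hb : (ws.map netPerm).prod i < 2 ^ w := lt_of_fix_ge (fun j hj => prod_of_ge ho hj) hi
    have hb' : (ws'.map netPerm).prod i < 2 ^ w := lt_of_fix_ge (fun j hj => prod_of_ge ho' hj) hi
    apply Nat.eq_of_testBit_eq
    intro j
    rcases lt_or_ge j w with hj | hj
    · have h2 := congrArg (fun z => Nat.testBit z i) (h1 j hj)
      simp only [runs_testBit hv, runs_testBit hv',
        plane_testBit w j _ hj, hb, hb', decide_true, Bool.true_and] at h2
      exact h2
    · have hp : (2 : Nat) ^ w ≤ 2 ^ j := Nat.pow_le_pow_right (by norm_num) hj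
      rw [Nat.testBit_lt_two_pow (lt_of_lt_of_le hb hp),
        Nat.testBit_lt_two_pow (lt_of_lt_of_le hb' hp)]
  · rw [prod_of_ge ho hi, prod_of_ge ho' hi]

/-- Kernel test that the word `ws` has `m`-th power one. -/
noncomputable def powTest (w : Nat) (ws : List Net) (m : Nat) : Bool :=
  eqWord w (List.flatten (List.replicate m ws)) [] w

theorem powTest_spec {w : Nat} {ws : List Net} {m : Nat} (ho : ∀ l ∈ ws, okNet (2 ^ w) l = true)
    (h : powTest w ws m = true) : (ws.map netPerm).prod ^ m = 1 := by
  have h1 := prod_eq_of_eqWord (w := w) (ws := List.flatten (List.replicate m ws)) (ws' := [])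
    (fun l hl => by
      rw [List.mem_flatten] at hl
      obtain ⟨L, hL, hl⟩ := hl
      rw [List.mem_replicate] at hL
      rw [hL.2] at hl
      exact ho l hl) (fun l hl => absurd hl (by simp)) h
  have h2 : ((List.flatten (List.replicate m ws)).map netPerm).prod =
      (ws.map netPerm).prod ^ m := by
    rw [List.map_flatten, List.prod_flatten, List.map_map, List.map_replicate, List.prod_replicate]
    rfl
  rw [← h2, h1]
  rfl

/-- The subgroup of `H` fixing `b`. -/
def fixPt (H : Subgroup (Equiv.Perm Nat)) (b : Nat) : Subgroup (Equiv.Perm Nat) :=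
  H ⊓ MulAction.stabilizer (Equiv.Perm Nat) b

theorem mem_fixPt {H : Subgroup (Equiv.Perm Nat)} {b : Nat} {g : Equiv.Perm Nat} :
    g ∈ fixPt H b ↔ g ∈ H ∧ g b = b := Iff.rfl

theorem fixPt_le (H : Subgroup (Equiv.Perm Nat)) (b : Nat) : fixPt H b ≤ H := inf_le_left

theorem fixPt_mono {H K : Subgroup (Equiv.Perm Nat)} (h : H ≤ K) (b : Nat) :
    fixPt H b ≤ fixPt K b := inf_le_inf_right _ h

theorem map_stabilizer (H : Subgroup (Equiv.Perm Nat)) (b : Nat) :
    (MulAction.stabilizer H b).map H.subtype = fixPt H b := by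
  ext g
  rw [Subgroup.mem_map, mem_fixPt]
  constructor
  · rintro ⟨h, h1, rfl⟩
    exact ⟨h.2, h1⟩
  · rintro ⟨h1, h2⟩
    exact ⟨⟨g, h1⟩, h2, rfl⟩

theorem card_stabilizer (H : Subgroup (Equiv.Perm Nat)) (b : Nat) :
    Nat.card (MulAction.stabilizer H b) = Nat.card (fixPt H b) := by
  rw [← map_stabilizer]
  exact (Subgroup.card_map_of_injective H.subtype_injective).symm

theorem card_eq_orbit_mul (H : Subgroup (Equiv.Perm Nat)) (b : Nat) :
    Nat.card H = (MulAction.orbit H b).ncard * Nat.card (fixPt H b) := by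
  rw [← card_stabilizer, ← MulAction.index_stabilizer, mul_comm]
  exact (Subgroup.card_mul_index _).symm

/-- Population count of `x < 2 ^ (2 ^ k)` by halving. -/
noncomputable def pop (k : Nat) : Nat → Nat :=
  @Nat.rec (fun _ => Nat → Nat) (fun x => x)
    (fun k ih x => force x (fun x => cond (Nat.beq x 0) 0
      (Nat.add (ih (Nat.mod x (Nat.pow 2 (Nat.pow 2 k)))) (ih (Nat.shiftRight x (Nat.pow 2 k)))))) k

theorem pop_zero (x : Nat) : pop 0 x = x := rfl

theorem pop_succ (k x : Nat) : pop (k + 1) x =
    cond (Nat.beq x 0) 0 (pop k (x % (2 ^ (2 ^ k))) + pop k (x >>> (2 ^ k))) :=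
  force_eq x (fun x => cond (Nat.beq x 0) 0
      (Nat.add (pop k (Nat.mod x (Nat.pow 2 (Nat.pow 2 k)))) (pop k (Nat.shiftRight x (Nat.pow 2 k)))))

/-- The set of positions of a bit vector. -/
def bitSet (x : Nat) : Set Nat := {i | x.testBit i = true}

theorem mem_bitSet {x i : Nat} : i ∈ bitSet x ↔ x.testBit i = true := Iff.rfl

theorem bitSet_finite (x : Nat) : (bitSet x).Finite := by
  refine (Set.finite_lt_nat x).subset ?_
  intro i hi
  by_contra hc
  have h1 : x < 2 ^ i := lt_of_le_of_lt (not_lt.1 hc) Nat.lt_two_pow_self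
  rw [mem_bitSet, Nat.testBit_lt_two_pow h1] at hi
  exact absurd hi (by simp)

theorem ncard_bitSet (k x : Nat) (hx : x < 2 ^ (2 ^ k)) : (bitSet x).ncard = pop k x := by
  induction k generalizing x with
  | zero =>
    have h2 : x = 0 ∨ x = 1 := by
      have : x < 2 := by simpa using hx
      omega
    rcases h2 with rfl | rfl
    · have : bitSet 0 = ∅ := by
        ext i; simp [mem_bitSet]
      rw [this, Set.ncard_empty, pop_zero]
    · have : bitSet 1 = {0} := by
        ext i
        rw [mem_bitSet, Set.mem_singleton_iff]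
        rcases Nat.eq_zero_or_pos i with rfl | hi
        · simp
        · rw [Nat.testBit_lt_two_pow (Nat.one_lt_two_pow (by omega))]
          simp; omega
      rw [this, Set.ncard_singleton, pop_zero]
  | succ k ih =>
    rw [pop_succ]
    by_cases h0 : x = 0
    · subst h0
      have : bitSet 0 = ∅ := by
        ext i; simp [mem_bitSet]
      rw [this, Set.ncard_empty]
      rfl
    · have hb : Nat.beq x 0 = false := by
        cases hx' : Nat.beq x 0 with
        | false => rfl
        | true => exact absurd (Nat.eq_of_beq_eq_true hx') h0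
      rw [hb, cond_false]
      have hp : 2 ^ 2 ^ (k + 1) = 2 ^ 2 ^ k * 2 ^ 2 ^ k := by
        rw [← pow_add, pow_succ, mul_two]
      have h1 : x % 2 ^ 2 ^ k < 2 ^ 2 ^ k := Nat.mod_lt _ (by positivity)
      have h2 : x >>> 2 ^ k < 2 ^ 2 ^ k := by
        rw [Nat.shiftRight_eq_div_pow]
        rw [hp] at hx
        exact Nat.div_lt_of_lt_mul hx
      rw [← ih _ h1, ← ih _ h2]
      have e : bitSet x = bitSet (x % 2 ^ 2 ^ k) ∪ (fun i => i + 2 ^ k) '' bitSet (x >>> 2 ^ k) := by
        ext i
        rw [Set.mem_union, Set.mem_image]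
        simp only [mem_bitSet, Nat.testBit_mod_two_pow, Nat.testBit_shiftRight, Bool.and_eq_true,
          decide_eq_true_eq]
        constructor
        · intro hi
          rcases lt_or_ge i (2 ^ k) with h3 | h3
          · exact Or.inl ⟨h3, hi⟩
          · refine Or.inr ⟨i - 2 ^ k, ?_, by omega⟩
            have : 2 ^ k + (i - 2 ^ k) = i := by omega
            rw [this]
            exact hi
        · rintro (⟨_, hi⟩ | ⟨j, hj, rfl⟩)
          · exact hi
          · rw [add_comm]
            exact hj
      rw [e, Set.ncard_union_eq ?_ (bitSet_finite _) ((bitSet_finite _).image _),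
        Set.ncard_image_of_injective _ (fun a b h => by simpa using h)]
      rw [Set.disjoint_left]
      intro i hi hi'
      rw [mem_bitSet, Nat.testBit_mod_two_pow, Bool.and_eq_true, decide_eq_true_eq] at hi
      obtain ⟨j, _, hj⟩ := hi'
      have h4 := hi.1
      have h5 : j + 2 ^ k = i := hj
      omega

/-- A simplicity criterion: if the orbits of normal subgroups are trivial or everything, the
action is faithful on the orbit of `x`, and `G` is generated by elements of order coprime to the
order of the stabiliser of `x`, then `G` is simple. -/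
theorem isSimpleGroup_of_coprime {G Ω : Type*} [Group G] [Finite G] [Nontrivial G] [MulAction G Ω]
    (x : Ω) (hf : ∀ g : G, (∀ y ∈ MulAction.orbit G x, g • y = y) → g = 1)
    (hp : ∀ N : Subgroup G, N.Normal → (MulAction.orbit N x).ncard = 1 ∨
      (MulAction.orbit N x).ncard = (MulAction.orbit G x).ncard)
    (E : Set G) (hE : Subgroup.closure E = ⊤)
    (hc : ∀ e ∈ E, Nat.Coprime (orderOf e) (Nat.card (MulAction.stabilizer G x))) :
    IsSimpleGroup G := by
  refine ⟨fun N hN => ?_⟩
  have key : (MulAction.orbit N x).ncard * Nat.card (MulAction.stabilizer N x) = Nat.card N := by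
    rw [← MulAction.index_stabilizer, mul_comm]
    exact Subgroup.card_mul_index _
  have keyG : (MulAction.orbit G x).ncard * Nat.card (MulAction.stabilizer G x) = Nat.card G := by
    rw [← MulAction.index_stabilizer, mul_comm]
    exact Subgroup.card_mul_index _
  rcases hp N hN with h1 | h1
  · left
    rw [Subgroup.eq_bot_iff_forall]
    intro n hn
    apply hf
    have hx : ∀ m ∈ N, m • x = x := by
      obtain ⟨a, ha⟩ := Set.ncard_eq_one.1 h1
      intro m hm
      have hx1 : x ∈ MulAction.orbit N x := MulAction.mem_orbit_self x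
      have hx2 : m • x ∈ MulAction.orbit N x := ⟨⟨m, hm⟩, rfl⟩
      rw [ha, Set.mem_singleton_iff] at hx1 hx2
      rw [hx2, hx1]
    rintro _ ⟨g, rfl⟩
    have h3 : g⁻¹ * n * g ∈ N := by
      have := hN.conj_mem n hn g⁻¹
      simpa using this
    have h4 := hx _ h3
    show n • g • x = g • x
    rw [mul_smul, mul_smul] at h4
    have h5 := congrArg (fun z => g • z) h4
    simpa using h5
  · right
    rw [h1] at key
    have hpos : 0 < (MulAction.orbit G x).ncard := by
      have : 0 < Nat.card G := Nat.card_pos
      rw [← keyG] at this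
      exact Nat.pos_of_mul_pos_right this
    have hidx : Nat.card (MulAction.stabilizer N x) * N.index =
        Nat.card (MulAction.stabilizer G x) := by
      have h2 := Subgroup.card_mul_index N
      rw [← key, ← keyG, mul_assoc] at h2
      exact Nat.eq_of_mul_eq_mul_left hpos h2
    rw [eq_top_iff, ← hE, Subgroup.closure_le]
    intro e he
    have hcop := hc e he
    have hq : (QuotientGroup.mk' N e) = 1 := by
      rw [← orderOf_eq_one_iff]
      have d1 : orderOf (QuotientGroup.mk' N e) ∣ orderOf e := orderOf_map_dvd _ _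
      have d2 : orderOf (QuotientGroup.mk' N e) ∣ Nat.card (MulAction.stabilizer G x) := by
        rw [← hidx]
        exact (orderOf_dvd_natCard _).trans (Dvd.intro_left _ rfl)
      have := Nat.dvd_gcd d1 d2
      rw [hcop] at this
      exact Nat.dvd_one.1 this
    exact (QuotientGroup.eq_one_iff e).1 hq

theorem card_mul_relIndex {G : Type*} [Group G] {A B : Subgroup G} (h : A ≤ B) :
    Nat.card A * A.relIndex B = Nat.card B := by
  have h1 := Subgroup.card_mul_index (A.subgroupOf B)
  rw [Nat.card_congr (Subgroup.subgroupOfEquivOfLe h).toEquiv] at h1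
  exact h1

/-- The orbit of a normal subgroup has size dividing the orbit of the group. -/
theorem ncard_orbit_dvd {G Ω : Type*} [Group G] [Finite G] [MulAction G Ω] (x : Ω)
    (N : Subgroup G) (hN : N.Normal) :
    (MulAction.orbit N x).ncard ∣ (MulAction.orbit G x).ncard := by
  have e1 : (MulAction.orbit N x).ncard = (MulAction.stabilizer G x).relIndex
      (MulAction.stabilizer G x ⊔ N) := by
    have h1 : (MulAction.orbit N x).ncard = (MulAction.stabilizer G x).relIndex N :=
      (MulAction.index_stabilizer _ _).symm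
    set S := MulAction.stabilizer G x
    -- `|S N| = |N| [S : S ∩ N] = |S| [S N : S]`, `|N| = |S ∩ N| [N : S ∩ N]`
    have a1 : Nat.card N * N.relIndex (S ⊔ N) = Nat.card ↥(S ⊔ N) :=
      card_mul_relIndex le_sup_right
    have a2 : Nat.card S * S.relIndex (S ⊔ N) = Nat.card ↥(S ⊔ N) :=
      card_mul_relIndex le_sup_left
    have a3 : Nat.card ↥(S ⊓ N) * S.relIndex N = Nat.card N := by
      rw [← Subgroup.inf_relIndex_right S N]
      exact card_mul_relIndex inf_le_right
    have a4 : Nat.card ↥(S ⊓ N) * N.relIndex S = Nat.card S := by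
      rw [← Subgroup.inf_relIndex_left S N]
      exact card_mul_relIndex inf_le_left
    rw [Subgroup.relIndex_sup_right] at a1
    rw [h1]
    have hpos : 0 < Nat.card S := Nat.card_pos
    apply Nat.eq_of_mul_eq_mul_left hpos
    rw [a2, ← a1, ← a3, ← a4]
    ring
  have e2 : (MulAction.orbit G x).ncard = (MulAction.stabilizer G x).index :=
    (MulAction.index_stabilizer _ _).symm
  rw [e1, e2]
  exact Dvd.intro _ (Subgroup.relIndex_mul_index le_sup_left)

/-- The orbit of a normal subgroup is invariant under the stabiliser. -/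
theorem smul_mem_orbit_normal {G Ω : Type*} [Group G] [MulAction G Ω] (x : Ω)
    (N : Subgroup G) (hN : N.Normal) (g : G) (hg : g • x = x) {y : Ω}
    (hy : y ∈ MulAction.orbit N x) : g • y ∈ MulAction.orbit N x := by
  obtain ⟨n, rfl⟩ := hy
  refine ⟨⟨g * n * g⁻¹, hN.conj_mem n n.2 g⟩, ?_⟩
  show (g * n * g⁻¹) • x = g • (n : G) • x
  rw [mul_smul, mul_smul, ← hg, inv_smul_smul]
  rw [hg]

end Cfsg.Agent.SporadicB.NetGroup
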