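import Cfsg.Prelude.Def_Spor_ON

/-!
Homomorphisms out of the presented O'Nan group `Cfsg.Spor.ON`: a family `f : Gen → P` of elements of a
group satisfying the (positive word form of the) relations gives a homomorphism `ON →* P`.
-/

set_option autoImplicit false

namespace Cfsg.Agent.SporadicB.ONHom

open Cfsg.Spor Cfsg.Spor.ON

/-- The relations of the O'Nan group for seven elements of a group (equations between positive words). -/
structure Rels {P : Type*} [Group P] (a b c d e f g : P) : Prop where
  aa : a * a = 1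
  bb : b * b = 1
  cc : c * c = 1
  dd : d * d = 1
  ee : e * e = 1
  ff : f * f = 1
  ab : (a * b) ^ 3 = 1
  bc : (b * c) ^ 3 = 1
  de : (d * e) ^ 3 = 1
  ef : (e * f) ^ 3 = 1
  ac : a * c = c * a
  ad : a * d = d * a
  ae : a * e = e * a
  af : a * f = f * a
  bd : b * d = d * b
  be : b * e = e * b
  bf : b * f = f * b
  ce : c * e = e * c
  cf : c * f = f * c
  df : d * f = f * d
  afcd : a * f = (c * d) ^ 4
  afgg : a * f = g * g
  cdg : c * (d * g * d * g) = (d * g * d * g) * c
  dcg : d * (c * g * c * g) = (c * g * c * g) * d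
  bcdg : (b * c * d * g) ^ 5 = 1
  gb : g * b * (c * g * c) * (b * g * b) * (c * g * c) = 1
  ge : g * e * (d * g * d) * (e * g * e) * (d * g * d) = 1

variable {P : Type*} [Group P]

theorem swap_pow (x y : P) (m : ℕ) (h : (x * y) ^ m = 1) : (y * x) ^ m = 1 := by
  have : y * x = x⁻¹ * (x * y) * x⁻¹⁻¹ := by group
  rw [this, conj_pow, h]; group

theorem comm_pow (x y : P) (hx : x * x = 1) (hy : y * y = 1) (h : x * y = y * x) : (x * y) ^ 2 = 1 := by
  rw [pow_two]
  calc x * y * (x * y) = x * y * (y * x) := by rw [h]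
    _ = x * (y * y) * x := by group
    _ = 1 := by rw [hy, mul_one, hx]

/-- the seven generators -/
def fam (a b c d e f g : P) : Gen → P
  | .a => a
  | .b => b
  | .c => c
  | .d => d
  | .e => e
  | .f => f
  | .g => g

theorem lift_eq_one {a b c d e f g : P} (h : Rels a b c d e f g) :
    ∀ r ∈ (coxRelators edges ∪ {r | r ∈ extra} : Set (FreeGroup Gen)),
      FreeGroup.lift (fam a b c d e f g) r = 1 := by
  have ia : a⁻¹ = a := inv_eq_of_mul_eq_one_left h.aa
  have ib : b⁻¹ = b := inv_eq_of_mul_eq_one_left h.bb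
  have ic : c⁻¹ = c := inv_eq_of_mul_eq_one_left h.cc
  have id' : d⁻¹ = d := inv_eq_of_mul_eq_one_left h.dd
  have ie : e⁻¹ = e := inv_eq_of_mul_eq_one_left h.ee
  have iff' : f⁻¹ = f := inv_eq_of_mul_eq_one_left h.ff
  have hac := comm_pow _ _ h.aa h.cc h.ac
  have had := comm_pow _ _ h.aa h.dd h.ad
  have hae := comm_pow _ _ h.aa h.ee h.ae
  have haf := comm_pow _ _ h.aa h.ff h.af
  have hbd := comm_pow _ _ h.bb h.dd h.bd
  have hbe := comm_pow _ _ h.bb h.ee h.be
  have hbf := comm_pow _ _ h.bb h.ff h.bf
  have hce := comm_pow _ _ h.cc h.ee h.ce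
  have hcf := comm_pow _ _ h.cc h.ff h.cf
  have hdf := comm_pow _ _ h.dd h.ff h.df
  have hcd : (c * d) ^ 8 = 1 := by
    have : (c * d) ^ 8 = ((c * d) ^ 4) ^ 2 := by rw [← pow_mul]
    rw [this, ← h.afcd, haf]
  rintro r (⟨x, hx, y, hy, rfl⟩ | hr)
  · rw [map_pow, map_mul, FreeGroup.lift_apply_of, FreeGroup.lift_apply_of]
    have hxy : ∀ x y : Gen, x ≠ .g → y ≠ .g → (fam a b c d e f g x * fam a b c d e f g y) ^
        coxLabel edges x y = 1 := by
      intro x y hx hy
      cases x <;> cases y <;> first
        | exact absurd rfl hx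
        | exact absurd rfl hy
        | (change (_ : P) ^ 1 = 1; rw [pow_one]; first | exact h.aa | exact h.bb | exact h.cc | exact h.dd | exact h.ee | exact h.ff)
        | (change (_ : P) ^ 2 = 1; first
            | exact hac | exact had | exact hae | exact haf | exact hbd | exact hbe | exact hbf | exact hce | exact hcf | exact hdf
            | exact swap_pow _ _ _ hac | exact swap_pow _ _ _ had | exact swap_pow _ _ _ hae | exact swap_pow _ _ _ haf | exact swap_pow _ _ _ hbd
            | exact swap_pow _ _ _ hbe | exact swap_pow _ _ _ hbf | exact swap_pow _ _ _ hce | exact swap_pow _ _ _ hcf | exact swap_pow _ _ _ hdf)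
        | (change (_ : P) ^ 3 = 1; first
            | exact h.ab | exact h.bc | exact h.de | exact h.ef
            | exact swap_pow _ _ _ h.ab | exact swap_pow _ _ _ h.bc | exact swap_pow _ _ _ h.de | exact swap_pow _ _ _ h.ef)
        | (change (_ : P) ^ 8 = 1; first | exact hcd | exact swap_pow _ _ _ hcd)
    have hnode : ∀ z ∈ coxNodes edges, z ≠ Gen.g := by decide
    exact hxy x y (hnode x hx) (hnode y hy)
  · change r ∈ extra at hr
    unfold extra at hr
    simp only [List.mem_cons, List.not_mem_nil, or_false] at hr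
    rcases hr with rfl | rfl | rfl | rfl | rfl | rfl | rfl
    · simp only [map_mul, map_pow, map_inv, FreeGroup.lift_apply_of]
      change (a * f) * (g ^ 2)⁻¹ = 1
      rw [h.afgg, pow_two, mul_inv_cancel]
    · simp only [map_mul, map_pow, map_inv, FreeGroup.lift_apply_of]
      change (a * f) * ((c * d) ^ 4)⁻¹ = 1
      rw [h.afcd, mul_inv_cancel]
    · simp only [map_mul, map_inv, FreeGroup.lift_apply_of]
      change c * ((d * g * d * g)⁻¹ * c * (d * g * d * g)) = 1
      rw [mul_assoc (d * g * d * g)⁻¹, h.cdg, inv_mul_cancel_left, h.cc]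
    · simp only [map_mul, map_inv, FreeGroup.lift_apply_of]
      change d * ((c * g * c * g)⁻¹ * d * (c * g * c * g)) = 1
      rw [mul_assoc (c * g * c * g)⁻¹, h.dcg, inv_mul_cancel_left, h.dd]
    · simp only [map_mul, map_pow, map_inv, FreeGroup.lift_apply_of]
      exact h.bcdg
    · simp only [map_mul, map_inv, FreeGroup.lift_apply_of]
      change g * b * (c⁻¹ * g * c) * (b⁻¹ * g * b) * (c⁻¹ * g * c) = 1
      rw [ib, ic]; exact h.gb
    · simp only [map_mul, map_inv, FreeGroup.lift_apply_of]
      change g * e * (d⁻¹ * g * d) * (e⁻¹ * g * e) * (d⁻¹ * g * d) = 1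
      rw [id', ie]; exact h.ge

/-- The homomorphism from the presented O'Nan group given by seven elements satisfying the relations. -/
def hom {a b c d e f g : P} (h : Rels a b c d e f g) : ON →* P :=
  PresentedGroup.toGroup (lift_eq_one h)

theorem hom_of {a b c d e f g : P} (h : Rels a b c d e f g) (x : Gen) :
    hom h (PresentedGroup.of x) = fam a b c d e f g x :=
  PresentedGroup.toGroup.of (lift_eq_one h)

theorem range_hom {a b c d e f g : P} (h : Rels a b c d e f g) :
    (hom h).range = Subgroup.closure (Set.range (fam a b c d e f g)) := by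
  apply le_antisymm
  · rw [MonoidHom.range_eq_map, ← PresentedGroup.closure_range_of, MonoidHom.map_closure, Subgroup.closure_le]
    rintro _ ⟨_, ⟨x, rfl⟩, rfl⟩
    rw [hom_of]
    exact Subgroup.subset_closure ⟨x, rfl⟩
  · rw [Subgroup.closure_le]
    rintro _ ⟨x, rfl⟩
    exact ⟨PresentedGroup.of x, hom_of h x⟩

end Cfsg.Agent.SporadicB.ONHom
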