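import Cfsg.Prelude.Def_Sporadic
import Cfsg.Agent.SporadicB.ONHom

/-!
From 45 × 45 matrices over the field with 7 elements satisfying the relations of the O'Nan group up to
scalars, to a subgroup of `SL(45, 7)` with centre of order 3 and central quotient the O'Nan group.
-/

set_option autoImplicit false

namespace Cfsg.Agent.SporadicB.ON45Core

open Cfsg.Spor Cfsg.Spor.ON Cfsg.Agent.SporadicB.ONHom

/-- 45 × 45 matrices over the field with seven elements -/
abbrev M45 := Matrix (Fin 45) (Fin 45) (ZMod 7)

/-- The relations satisfied by the seven matrices. -/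
structure MRels (a b c d e f g : M45) : Prop where
  aa : a * a = 1
  bb : b * b = 1
  cc : c * c = 1
  dd : d * d = 1
  ee : e * e = 1
  ff : f * f = 1
  ab : (a * b) ^ 3 = 1
  bc : (b * c) ^ 3 = 1
  de : (d * e) ^ 3 = 1
  ef : (e * f) ^ 3 = 1
  ac : a * c = c * a
  ad : a * d = d * a
  ae : a * e = e * a
  af : a * f = f * a
  bd : b * d = d * b
  be : b * e = e * b
  bf : b * f = f * b
  ce : c * e = e * c
  cf : c * f = f * c
  df : d * f = f * d
  afcd : a * f = (c * d) ^ 4
  afgg : a * f = g * g
  cdg : c * (d * g * d * g) = (d * g * d * g) * c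
  dcg : d * (c * g * c * g) = (c * g * c * g) * d
  bcdg : (b * c * d * g) ^ 5 = (4 : ZMod 7) • (1 : M45)
  gb : g * b * (c * g * c) * (b * g * b) * (c * g * c) = (4 : ZMod 7) • (1 : M45)
  ge : g * e * (d * g * d) * (e * g * e) * (d * g * d) = (4 : ZMod 7) • (1 : M45)

theorem det_four : ((4 : ZMod 7) • (1 : M45)).det = 1 := by
  rw [Matrix.det_smul, Matrix.det_one, mul_one, Fintype.card_fin]
  decide

theorem sq_cases : ∀ x : ZMod 7, x * x = 1 → x = 1 ∨ x = 6 := by decide

theorem dets {a b c d e f g : M45} (h : MRels a b c d e f g) :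
    a.det = 1 ∧ b.det = 1 ∧ c.det = 1 ∧ d.det = 1 ∧ e.det = 1 ∧ f.det = 1 ∧ g.det = 1 := by
  have ha := congrArg Matrix.det h.aa
  have hb := congrArg Matrix.det h.bb
  have hc := congrArg Matrix.det h.cc
  have hd := congrArg Matrix.det h.dd
  have he := congrArg Matrix.det h.ee
  have hf := congrArg Matrix.det h.ff
  have hab := congrArg Matrix.det h.ab
  have hbc := congrArg Matrix.det h.bc
  have hde := congrArg Matrix.det h.de
  have hef := congrArg Matrix.det h.ef
  have haf := congrArg Matrix.det h.afcd
  have hg := congrArg Matrix.det h.afgg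
  have h5 := congrArg Matrix.det h.bcdg
  have h6 := congrArg Matrix.det h.gb
  rw [det_four] at h5 h6
  simp only [Matrix.det_mul, Matrix.det_pow, Matrix.det_one] at ha hb hc hd he hf hab hbc hde hef haf hg h5 h6
  generalize a.det = A at *
  generalize b.det = B at *
  generalize c.det = C at *
  generalize d.det = D at *
  generalize e.det = E at *
  generalize f.det = F at *
  generalize g.det = G at *
  have key1 : ∀ x y : ZMod 7, x * x = 1 → y * y = 1 → (x * y) ^ 3 = 1 → y = x := by decide
  have eB := key1 A B ha hb hab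
  subst eB
  have eC := key1 B C ha hc hbc
  subst eC
  have eE := key1 D E hd he hde
  subst eE
  have eF := key1 E F hd hf hef
  subst eF
  have key2 : ∀ x y z : ZMod 7, x * x = 1 → y * y = 1 → x * y = (x * y) ^ 4 → x * y = z * z →
      (x * x * y * z) ^ 5 = 1 →
      z * x * (x * z * x) * (x * z * x) * (x * z * x) = 1 → x = 1 ∧ y = 1 ∧ z = 1 := by decide
  obtain ⟨h1, h2, h3⟩ := key2 C F G hc hf haf hg h5 h6
  exact ⟨h1, h1, h1, h2, h2, h2, h3⟩

/-- the special linear group -/
abbrev SL45 := Matrix.SpecialLinearGroup (Fin 45) (ZMod 7)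

theorem mem_center_of_smul {x : SL45} {r : ZMod 7} (h : (x : M45) = r • (1 : M45)) :
    x ∈ Subgroup.center SL45 := by
  rw [Subgroup.mem_center_iff]
  intro y
  apply Subtype.ext
  change (y : M45) * (x : M45) = (x : M45) * (y : M45)
  rw [h, mul_smul_comm, smul_mul_assoc, mul_one, one_mul]

theorem cube_of_pow : ∀ r : ZMod 7, r ^ 45 = 1 → r = 1 ∨ r = 2 ∨ r = 4 := by decide

/-- The scalar matrices of `SL(45, 7)` are three in number. -/
theorem center_cases {x : SL45} (hx : x ∈ Subgroup.center SL45) :
    (x : M45) = (1 : ZMod 7) • 1 ∨ (x : M45) = (2 : ZMod 7) • 1 ∨ (x : M45) = (4 : ZMod 7) • 1 := by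
  rw [Matrix.SpecialLinearGroup.mem_center_iff] at hx
  obtain ⟨r, hr, hrx⟩ := hx
  rw [Fintype.card_fin] at hr
  have hx' : (x : M45) = r • (1 : M45) := by
    rw [← hrx, Matrix.scalar_apply, Matrix.smul_one_eq_diagonal]
  rcases cube_of_pow r hr with rfl | rfl | rfl
  · exact Or.inl hx'
  · exact Or.inr (Or.inl hx')
  · exact Or.inr (Or.inr hx')

theorem not_comm_of_isON {Q : Type*} [Group Q] (hQ : Cfsg.IsON Q) : Subgroup.center Q = ⊥ := by
  obtain ⟨hs, hc⟩ := hQ
  rcases hs.eq_bot_or_eq_top_of_normal (Subgroup.center Q) inferInstance with h | h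
  · exact h
  · exfalso
    have hcomm : ∀ x y : Q, x * y = y * x := by
      intro x y
      have : y ∈ Subgroup.center Q := by rw [h]; trivial
      exact Subgroup.mem_center_iff.1 this x
    letI : CommGroup Q := { (inferInstance : Group Q) with mul_comm := hcomm }
    have hfin : Finite Q := Nat.finite_of_card_ne_zero (by rw [hc]; norm_num)
    have hp : (Nat.card Q).Prime := by
      haveI : IsSimpleGroup Q := hs
      exact IsSimpleGroup.prime_card
    rw [hc] at hp
    revert hp
    norm_num

/-- Main statement: the subgroup of `SL(45, 7)` generated by seven matrices satisfying the relations has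
centre of order 3 and central quotient of O'Nan type. -/
theorem main {a b c d e f g : M45} (h : MRels a b c d e f g) (hON : Cfsg.IsON ON) :
    ∃ H : Subgroup SL45, Nat.card (Subgroup.center H) = 3 ∧ Cfsg.IsON (H ⧸ Subgroup.center H) := by
  obtain ⟨da, db, dc, dd, de, df, dg⟩ := dets h
  let a' : SL45 := ⟨a, da⟩
  let b' : SL45 := ⟨b, db⟩
  let c' : SL45 := ⟨c, dc⟩
  let d' : SL45 := ⟨d, dd⟩
  let e' : SL45 := ⟨e, de⟩
  let f' : SL45 := ⟨f, df⟩
  let g' : SL45 := ⟨g, dg⟩
  let H : Subgroup SL45 := Subgroup.closure (Set.range (fam a' b' c' d' e' f' g'))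
  let Z : Subgroup SL45 := Subgroup.center SL45
  let π : SL45 →* SL45 ⧸ Z := QuotientGroup.mk' Z
  -- scalars go to one
  have hsc : ∀ x : SL45, ∀ r : ZMod 7, (x : M45) = r • (1 : M45) → π x = 1 := by
    intro x r hx
    exact (QuotientGroup.eq_one_iff x).2 (mem_center_of_smul hx)
  have heq : ∀ x y : SL45, (x : M45) = (y : M45) → π x = π y := by
    intro x y hxy
    rw [Subtype.ext hxy]
  have hone : ∀ x : SL45, (x : M45) = 1 → π x = 1 := by
    intro x hx
    exact hsc x 1 (by rw [hx, one_smul])
  have hrel : Rels (π a') (π b') (π c') (π d') (π e') (π f') (π g') := by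
    refine ⟨?_, ?_, ?_, ?_, ?_, ?_, ?_, ?_, ?_, ?_, ?_, ?_, ?_, ?_, ?_, ?_, ?_, ?_, ?_, ?_, ?_, ?_, ?_, ?_, ?_, ?_, ?_⟩ <;>
      simp only [← map_mul, ← map_pow]
    · exact hone _ h.aa
    · exact hone _ h.bb
    · exact hone _ h.cc
    · exact hone _ h.dd
    · exact hone _ h.ee
    · exact hone _ h.ff
    · exact hone _ h.ab
    · exact hone _ h.bc
    · exact hone _ h.de
    · exact hone _ h.ef
    · exact heq _ _ h.ac
    · exact heq _ _ h.ad
    · exact heq _ _ h.ae
    · exact heq _ _ h.af
    · exact heq _ _ h.bd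
    · exact heq _ _ h.be
    · exact heq _ _ h.bf
    · exact heq _ _ h.ce
    · exact heq _ _ h.cf
    · exact heq _ _ h.df
    · exact heq _ _ h.afcd
    · exact heq _ _ h.afgg
    · exact heq _ _ h.cdg
    · exact heq _ _ h.dcg
    · exact hsc _ 4 h.bcdg
    · exact hsc _ 4 h.gb
    · exact hsc _ 4 h.ge
  -- the element z = (b c d g)^5 of H
  have hmem : ∀ x : Gen, fam a' b' c' d' e' f' g' x ∈ H := fun x => Subgroup.subset_closure ⟨x, rfl⟩
  let z : SL45 := (b' * c' * d' * g') ^ 5
  have hzH : z ∈ H :=
    H.pow_mem (H.mul_mem (H.mul_mem (H.mul_mem (hmem .b) (hmem .c)) (hmem .d)) (hmem .g)) 5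
  have hz4 : (z : M45) = (4 : ZMod 7) • (1 : M45) := h.bcdg
  -- the homomorphism from ON to the quotient has range the image of H
  let φ : ON →* SL45 ⧸ Z := hom hrel
  have hrange : φ.range = H.map π := by
    change (hom hrel).range = _
    rw [range_hom, MonoidHom.map_closure, ← Set.range_comp]
    congr 1
    ext y
    constructor
    · rintro ⟨x, rfl⟩
      exact ⟨x, by cases x <;> rfl⟩
    · rintro ⟨x, rfl⟩
      exact ⟨x, by cases x <;> rfl⟩
  haveI hsimple : IsSimpleGroup ON := hON.1
  -- φ is injective
  have hinj : Function.Injective φ := by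
    rw [← MonoidHom.ker_eq_bot_iff]
    rcases hsimple.eq_bot_or_eq_top_of_normal φ.ker inferInstance with h0 | h0
    · exact h0
    · exfalso
      -- then H is contained in the centre, but a' * b' is not scalar
      have hb : π a' = 1 := by
        have h1 : φ (PresentedGroup.of Gen.a) = π a' := hom_of hrel Gen.a
        have h2 : PresentedGroup.of Gen.a ∈ φ.ker := by rw [h0]; trivial
        rw [← h1]
        exact h2
      have hc1 : π b' = 1 := by
        have h1 : φ (PresentedGroup.of Gen.b) = π b' := hom_of hrel Gen.b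
        have h2 : PresentedGroup.of Gen.b ∈ φ.ker := by rw [h0]; trivial
        rw [← h1]
        exact h2
      have hc2 : π c' = 1 := by
        have h1 : φ (PresentedGroup.of Gen.c) = π c' := hom_of hrel Gen.c
        have h2 : PresentedGroup.of Gen.c ∈ φ.ker := by rw [h0]; trivial
        rw [← h1]
        exact h2
      have hc3 : π g' = 1 := by
        have h1 : φ (PresentedGroup.of Gen.g) = π g' := hom_of hrel Gen.g
        have h2 : PresentedGroup.of Gen.g ∈ φ.ker := by rw [h0]; trivial
        rw [← h1]
        exact h2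
      have cent : ∀ x : SL45, π x = 1 → x ∈ Subgroup.center SL45 := fun x hx =>
        (QuotientGroup.eq_one_iff x).1 hx
      have xa := Subgroup.mem_center_iff.1 (cent _ hb)
      -- all generators central: then everything in the relation is scalar in a commutative way
      -- b' c' g' scalars r with r^3 = 1 (as elements of SL), b'^2 = 1 so b' = 1 etc.
      have hcases : ∀ x : SL45, π x = 1 → (x : M45) * x = 1 → (x : M45) = 1 := by
        intro x hx hxx
        rcases center_cases (cent x hx) with h1 | h1 | h1
        · rw [h1, one_smul]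
        · exfalso
          rw [h1, smul_mul_smul_comm, mul_one] at hxx
          have := congrFun (congrFun hxx 0) 0
          simp only [Matrix.smul_apply, Matrix.one_apply_eq, smul_eq_mul] at this
          revert this; decide
        · exfalso
          rw [h1, smul_mul_smul_comm, mul_one] at hxx
          have := congrFun (congrFun hxx 0) 0
          simp only [Matrix.smul_apply, Matrix.one_apply_eq, smul_eq_mul] at this
          revert this; decide
      have hb1 : b = 1 := hcases b' hc1 h.bb
      have hc1' : c = 1 := hcases c' hc2 h.cc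
      have hg4 : g ^ 4 = 1 := by
        have h8 : g ^ 4 = (g * g) * (g * g) := by
          rw [← pow_two, ← pow_two, ← pow_mul]
        have h9 : (a * f) * (a * f) = 1 := by
          calc (a * f) * (a * f) = (a * f) * (f * a) := by rw [h.af]
            _ = a * (f * f) * a := by simp only [mul_assoc]
            _ = 1 := by rw [h.ff, mul_one, h.aa]
        rw [h8, ← h.afgg, h9]
      have h6 := h.gb
      rw [hb1, hc1'] at h6
      simp only [one_mul, mul_one] at h6
      have h7 : g * g * g * g = g ^ 4 := by
        rw [pow_succ, pow_succ, pow_succ, pow_one]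
      rw [h7, hg4] at h6
      have := congrFun (congrFun h6 0) 0
      simp only [Matrix.smul_apply, Matrix.one_apply_eq, smul_eq_mul] at this
      revert this; decide
  -- the restriction of π to H
  let ψ : H →* SL45 ⧸ Z := π.comp H.subtype
  have hψrange : ψ.range = φ.range := by
    rw [hrange]
    ext y
    constructor
    · rintro ⟨x, rfl⟩
      exact ⟨x, x.2, rfl⟩
    · rintro ⟨x, hx, rfl⟩
      exact ⟨⟨x, hx⟩, rfl⟩
  let eON : ON ≃* φ.range := MonoidHom.ofInjective hinj
  have hONrange : Cfsg.IsON φ.range := by
    refine ⟨?_, ?_⟩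
    · haveI : Nontrivial φ.range := eON.symm.toEquiv.nontrivial
      exact IsSimpleGroup.isSimpleGroup_of_surjective (hf := eON.surjective) (f := eON.toMonoidHom)
    · rw [← Nat.card_congr eON.toEquiv]; exact hON.2
  have hONψ : Cfsg.IsON ψ.range := by rw [hψrange]; exact hONrange
  -- the centre of H is the kernel of ψ
  have hker : Subgroup.center H = ψ.ker := by
    apply le_antisymm
    · intro x hx
      rw [MonoidHom.mem_ker]
      have hx2 : ψ.rangeRestrict x ∈ Subgroup.center ψ.range := by
        rw [Subgroup.mem_center_iff]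
        rintro ⟨y, w, rfl⟩
        apply Subtype.ext
        change ψ w * ψ x = ψ x * ψ w
        rw [← map_mul, ← map_mul, Subgroup.mem_center_iff.1 hx w]
      rw [not_comm_of_isON hONψ, Subgroup.mem_bot] at hx2
      exact congrArg Subtype.val hx2
    · intro x hx
      rw [MonoidHom.mem_ker] at hx
      have hxc : (x : SL45) ∈ Subgroup.center SL45 := (QuotientGroup.eq_one_iff (x : SL45)).1 hx
      rw [Subgroup.mem_center_iff]
      intro y
      exact Subtype.ext (Subgroup.mem_center_iff.1 hxc (y : SL45))
  refine ⟨H, ?_, ?_⟩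
  · -- order of the centre
    have hz1 : (z : M45) ≠ 1 := by
      intro hz
      rw [hz4] at hz
      have := congrFun (congrFun hz 0) 0
      simp only [Matrix.smul_apply, Matrix.one_apply_eq, smul_eq_mul] at this
      revert this; decide
    have hzz : ((z * z : SL45) : M45) = (2 : ZMod 7) • (1 : M45) := by
      change (z : M45) * (z : M45) = _
      rw [hz4, smul_mul_smul_comm, mul_one]
      rfl
    have hzc : ∀ w : SL45, (∃ r : ZMod 7, (w : M45) = r • (1 : M45)) → ∀ hw : w ∈ H,
        (⟨w, hw⟩ : H) ∈ Subgroup.center H := by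
      rintro w ⟨r, hr⟩ hw
      rw [hker, MonoidHom.mem_ker]
      exact hsc w r hr
    let zc : Subgroup.center H := ⟨⟨z, hzH⟩, hzc z ⟨4, hz4⟩ hzH⟩
    let zzc : Subgroup.center H := ⟨⟨z * z, H.mul_mem hzH hzH⟩, hzc (z * z) ⟨2, hzz⟩ _⟩
    have hall : ∀ x : Subgroup.center H, x = 1 ∨ x = zc ∨ x = zzc := by
      rintro ⟨x, hx⟩
      have hx' := hx
      rw [hker, MonoidHom.mem_ker] at hx'
      have hxc : (x : SL45) ∈ Subgroup.center SL45 := (QuotientGroup.eq_one_iff (x : SL45)).1 hx'
      rcases center_cases hxc with h1 | h1 | h1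
      · left
        apply Subtype.ext; apply Subtype.ext; apply Subtype.ext
        rw [h1, one_smul]; rfl
      · right; right
        apply Subtype.ext; apply Subtype.ext; apply Subtype.ext
        rw [h1]; exact hzz.symm
      · right; left
        apply Subtype.ext; apply Subtype.ext; apply Subtype.ext
        rw [h1]; exact hz4.symm
    have hne1 : (1 : Subgroup.center H) ≠ zc := by
      intro hh
      apply hz1
      have := congrArg (fun t : Subgroup.center H => (((t : H) : SL45) : M45)) hh
      exact this.symm
    have hne2 : (1 : Subgroup.center H) ≠ zzc := by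
      intro hh
      have h1 : (1 : M45) = (2 : ZMod 7) • (1 : M45) := by
        have := congrArg (fun t : Subgroup.center H => (((t : H) : SL45) : M45)) hh
        exact Eq.trans this hzz
      have := congrFun (congrFun h1 0) 0
      simp only [Matrix.smul_apply, Matrix.one_apply_eq, smul_eq_mul] at this
      revert this; decide
    have hne3 : zc ≠ zzc := by
      intro hh
      have h1 : (4 : ZMod 7) • (1 : M45) = (2 : ZMod 7) • (1 : M45) := by
        have := congrArg (fun t : Subgroup.center H => (((t : H) : SL45) : M45)) hh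
        exact (hz4.symm.trans this).trans hzz
      have := congrFun (congrFun h1 0) 0
      simp only [Matrix.smul_apply, Matrix.one_apply_eq, smul_eq_mul] at this
      revert this; decide
    classical
    have hset : (Set.univ : Set (Subgroup.center H)) = {1, zc, zzc} := by
      ext x
      simp only [Set.mem_univ, Set.mem_insert_iff, Set.mem_singleton_iff, true_iff]
      exact hall x
    rw [← Set.ncard_univ, hset]
    exact Set.ncard_eq_three.2 ⟨1, zc, zzc, hne1, hne2, hne3, rfl⟩
  · -- the quotient
    have e1 : H ⧸ Subgroup.center H ≃* ψ.range :=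
      (QuotientGroup.quotientMulEquivOfEq hker).trans (QuotientGroup.quotientKerEquivRange ψ)
    haveI : IsSimpleGroup ψ.range := hONψ.1
    refine ⟨?_, ?_⟩
    · haveI : Nontrivial (H ⧸ Subgroup.center H) := e1.toEquiv.nontrivial
      exact IsSimpleGroup.isSimpleGroup_of_surjective (hf := e1.symm.surjective) (f := e1.symm.toMonoidHom)
    · rw [Nat.card_congr e1.toEquiv]; exact hONψ.2

end Cfsg.Agent.SporadicB.ON45Core
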