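import Cfsg.Agent.SporadicB.ON45Rels

/-!
Words in the presented O'Nan group are decided by the 45-dimensional matrices, provided the presented group
is simple: `LW x l` says that `x` is represented by the product of the packed matrices of the list `l`.
-/

set_option autoImplicit false

namespace Cfsg.Agent.SporadicB.ON45Word

open Cfsg.Spor Cfsg.Spor.ON Cfsg.Agent.Lib.PackMat Cfsg.Agent.SporadicB.ONHom Cfsg.Agent.SporadicB.ON45Data
  Cfsg.Agent.SporadicB.ON45Core Cfsg.Agent.SporadicB.ON45Rels

/-- the generator matrices as elements of the special linear group -/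
def sl (x : Gen) : SL45 :=
  match x with
  | .a => ⟨M 0, (dets rels).1⟩
  | .b => ⟨M 1, (dets rels).2.1⟩
  | .c => ⟨M 2, (dets rels).2.2.1⟩
  | .d => ⟨M 3, (dets rels).2.2.2.1⟩
  | .e => ⟨M 4, (dets rels).2.2.2.2.1⟩
  | .f => ⟨M 5, (dets rels).2.2.2.2.2.1⟩
  | .g => ⟨M 6, (dets rels).2.2.2.2.2.2⟩

/-- index of a generator -/
def gi (x : Gen) : ℕ :=
  match x with
  | .a => 0
  | .b => 1
  | .c => 2
  | .d => 3
  | .e => 4
  | .f => 5
  | .g => 6

theorem coe_sl (x : Gen) : (sl x : M45) = mk (gens (gi x)) := by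
  cases x <;> rfl

/-- the projection onto the quotient by the scalars -/
abbrev pr : SL45 →* SL45 ⧸ Subgroup.center SL45 := QuotientGroup.mk' (Subgroup.center SL45)

theorem pr_eq_one_of_smul {x : SL45} {r : ZMod 7} (h : (x : M45) = r • (1 : M45)) : pr x = 1 :=
  (QuotientGroup.eq_one_iff x).2 (mem_center_of_smul h)

theorem relsP : Rels (pr (sl .a)) (pr (sl .b)) (pr (sl .c)) (pr (sl .d)) (pr (sl .e)) (pr (sl .f))
    (pr (sl .g)) := by
  have hone : ∀ x : SL45, (x : M45) = 1 → pr x = 1 := by
    intro x hx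
    exact pr_eq_one_of_smul (r := 1) (by rw [hx, one_smul])
  have heq : ∀ x y : SL45, (x : M45) = (y : M45) → pr x = pr y := by
    intro x y hxy
    rw [Subtype.ext hxy]
  refine ⟨?_, ?_, ?_, ?_, ?_, ?_, ?_, ?_, ?_, ?_, ?_, ?_, ?_, ?_, ?_, ?_, ?_, ?_, ?_, ?_, ?_, ?_, ?_, ?_, ?_, ?_, ?_⟩ <;>
    simp only [← map_mul, ← map_pow]
  · exact hone _ rels.aa
  · exact hone _ rels.bb
  · exact hone _ rels.cc
  · exact hone _ rels.dd
  · exact hone _ rels.ee
  · exact hone _ rels.ff
  · exact hone _ rels.ab
  · exact hone _ rels.bc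
  · exact hone _ rels.de
  · exact hone _ rels.ef
  · exact heq _ _ rels.ac
  · exact heq _ _ rels.ad
  · exact heq _ _ rels.ae
  · exact heq _ _ rels.af
  · exact heq _ _ rels.bd
  · exact heq _ _ rels.be
  · exact heq _ _ rels.bf
  · exact heq _ _ rels.ce
  · exact heq _ _ rels.cf
  · exact heq _ _ rels.df
  · exact heq _ _ rels.afcd
  · exact heq _ _ rels.afgg
  · exact heq _ _ rels.cdg
  · exact heq _ _ rels.dcg
  · exact pr_eq_one_of_smul rels.bcdg
  · exact pr_eq_one_of_smul rels.gb
  · exact pr_eq_one_of_smul rels.ge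

/-- the projective representation -/
def rho : ON →* SL45 ⧸ Subgroup.center SL45 := hom relsP

/-- the generators in the presented group -/
def on (x : Gen) : ON := PresentedGroup.of x

theorem rho_on (x : Gen) : rho (on x) = pr (sl x) := by
  have h : rho (on x) = fam (pr (sl .a)) (pr (sl .b)) (pr (sl .c)) (pr (sl .d)) (pr (sl .e)) (pr (sl .f))
    (pr (sl .g)) x := hom_of relsP x
  rw [h]
  cases x <;> rfl

/-- `x` is represented by the product of the packed matrices of the list `l` -/
def LW (x : ON) (l : List ℕ) : Prop :=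
  (∀ g ∈ l, okG C45 g = true) ∧ ∃ y : SL45, (y : M45) = (l.map mk).prod ∧ pr y = rho x

theorem LW.one : LW 1 [] := by
  refine ⟨by simp, 1, ?_, ?_⟩
  · simp
  · rw [map_one, map_one]

theorem LW.mul {x y : ON} {l m : List ℕ} (hx : LW x l) (hy : LW y m) : LW (x * y) (l ++ m) := by
  obtain ⟨h1, u, h2, h3⟩ := hx
  obtain ⟨k1, v, k2, k3⟩ := hy
  refine ⟨?_, u * v, ?_, ?_⟩
  · intro g hg
    rcases List.mem_append.1 hg with hg | hg
    · exact h1 g hg
    · exact k1 g hg
  · rw [List.map_append, List.prod_append, ← h2, ← k2]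
    rfl
  · rw [map_mul, map_mul, h3, k3]

theorem LW.pow {x : ON} {l : List ℕ} (hx : LW x l) (n : ℕ) : LW (x ^ n) (List.replicate n l).flatten := by
  induction n with
  | zero => simpa using LW.one
  | succ n ih =>
    rw [pow_succ', List.replicate_succ, List.flatten_cons]
    exact hx.mul ih

theorem LW.gen (x : Gen) : LW (on x) [gens (gi x)] := by
  refine ⟨?_, sl x, ?_, ?_⟩
  · intro g hg
    rw [List.mem_singleton] at hg
    rw [hg]
    exact ok_gens _
  · simp [coe_sl]
  · exact (rho_on x).symm

/-- word in the generators -/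
theorem LW.word (w : List Gen) : LW (w.map on).prod (w.map fun x => gens (gi x)) := by
  induction w with
  | nil => exact LW.one
  | cons x w ih =>
    rw [List.map_cons, List.map_cons, List.prod_cons]
    exact (LW.gen x).mul ih

/-- change the list of matrices -/
theorem LW.change {x : ON} {l m : List ℕ} (hx : LW x l) (hm : (m.all fun g => okG C45 g) = true)
    (h : checkEq C45 l m 0 45 = true) : LW x m := by
  obtain ⟨h1, u, h2, h3⟩ := hx
  have hm' : ∀ g ∈ m, okG C45 g = true := fun g hg => List.all_eq_true.1 hm g hg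
  refine ⟨hm', u, ?_, h3⟩
  rw [h2]
  exact prod_eq_of_check (C := C45) good (by decide) h1 hm' h

/-- inverse -/
theorem LW.inv {x : ON} {l m : List ℕ} (hx : LW x l) (hm : (m.all fun g => okG C45 g) = true)
    (h : checkScalar C45 (l ++ m) 1 0 45 = true) : LW x⁻¹ m := by
  obtain ⟨h1, u, h2, h3⟩ := hx
  have hm' : ∀ g ∈ m, okG C45 g = true := fun g hg => List.all_eq_true.1 hm g hg
  have h4 : ∀ g ∈ l ++ m, okG C45 g = true := by
    intro g hg
    rcases List.mem_append.1 hg with hg | hg
    · exact h1 g hg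
    · exact hm' g hg
  have h5 : ((l ++ m).map mk).prod = (1 : M45) := by
    have := prod_scalar_of_check (C := C45) good (c := 1) (by decide) (by decide) h4 h
    rw [Nat.cast_one, one_smul] at this
    exact this
  rw [List.map_append, List.prod_append, ← h2] at h5
  refine ⟨hm', u⁻¹, ?_, ?_⟩
  · have h6 : ((u⁻¹ : SL45) : M45) * (u : M45) = 1 := by
      rw [← Matrix.SpecialLinearGroup.coe_mul, inv_mul_cancel, Matrix.SpecialLinearGroup.coe_one]
    calc ((u⁻¹ : SL45) : M45) = ((u⁻¹ : SL45) : M45) * ((u : M45) * (m.map mk).prod) := by rw [h5, mul_one]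
      _ = (m.map mk).prod := by rw [← mul_assoc, h6, one_mul]
  · rw [map_inv, map_inv, h3]

theorem exists_not_scalar : ∃ x : ON, rho x ≠ 1 := by
  by_contra hcon
  push Not at hcon
  have cent : ∀ x : Gen, sl x ∈ Subgroup.center SL45 := by
    intro x
    have h := hcon (on x)
    rw [rho_on] at h
    exact (QuotientGroup.eq_one_iff (sl x)).1 h
  have hcases : ∀ x : SL45, x ∈ Subgroup.center SL45 → (x : M45) * x = 1 → (x : M45) = 1 := by
    intro x hx hxx
    rcases center_cases hx with h1 | h1 | h1
    · rw [h1, one_smul]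
    · exfalso
      rw [h1, smul_mul_smul_comm, mul_one] at hxx
      have := congrFun (congrFun hxx 0) 0
      simp only [Matrix.smul_apply, Matrix.one_apply_eq, smul_eq_mul] at this
      revert this; decide
    · exfalso
      rw [h1, smul_mul_smul_comm, mul_one] at hxx
      have := congrFun (congrFun hxx 0) 0
      simp only [Matrix.smul_apply, Matrix.one_apply_eq, smul_eq_mul] at this
      revert this; decide
  have hb1 : M 1 = 1 := hcases (sl .b) (cent .b) rels.bb
  have hc1 : M 2 = 1 := hcases (sl .c) (cent .c) rels.cc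
  have hg4 : M 6 ^ 4 = 1 := by
    have h8 : M 6 ^ 4 = (M 6 * M 6) * (M 6 * M 6) := by
      rw [← pow_two, ← pow_two, ← pow_mul]
    have h9 : (M 0 * M 5) * (M 0 * M 5) = 1 := by
      calc (M 0 * M 5) * (M 0 * M 5) = (M 0 * M 5) * (M 5 * M 0) := by rw [rels.af]
        _ = M 0 * (M 5 * M 5) * M 0 := by simp only [mul_assoc]
        _ = 1 := by rw [rels.ff, mul_one, rels.aa]
    rw [h8, ← rels.afgg, h9]
  have h6 := rels.gb
  rw [hb1, hc1] at h6
  simp only [one_mul, mul_one] at h6
  have h7 : M 6 * M 6 * M 6 * M 6 = M 6 ^ 4 := by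
    rw [pow_succ, pow_succ, pow_succ, pow_one]
  rw [h7, hg4] at h6
  have := congrFun (congrFun h6 0) 0
  simp only [Matrix.smul_apply, Matrix.one_apply_eq, smul_eq_mul] at this
  revert this; decide

/-- The projective representation is faithful as soon as the presented group is simple. -/
theorem rho_injective (hs : IsSimpleGroup ON) : Function.Injective rho := by
  rw [← MonoidHom.ker_eq_bot_iff]
  rcases hs.eq_bot_or_eq_top_of_normal rho.ker inferInstance with h0 | h0
  · exact h0
  · exfalso
    obtain ⟨x, hx⟩ := exists_not_scalar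
    apply hx
    have : x ∈ rho.ker := by rw [h0]; trivial
    exact this

/-- An element represented by a scalar is trivial. -/
theorem LW.eq_one (hs : IsSimpleGroup ON) {x : ON} {l : List ℕ} (hx : LW x l) (c : ℕ) (hc : c < 7)
    (h : checkScalar C45 l c 0 45 = true) : x = 1 := by
  obtain ⟨h1, u, h2, h3⟩ := hx
  have h4 := prod_scalar_of_check (C := C45) good hc (by decide) h1 h
  apply rho_injective hs
  rw [map_one, ← h3]
  exact pr_eq_one_of_smul (r := (c : ZMod 7)) (h2.trans h4)

/-- An element represented by a matrix with a nonzero entry off the diagonal is not trivial. -/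
theorem LW.ne_one {x : ON} {g : ℕ} (hx : LW x [g]) (i j : Fin 45) (hij : i ≠ j)
    (h : ((dg 11 g (i.val + 45 * j.val) : ℕ) : ZMod 7) ≠ 0) : x ≠ 1 := by
  rintro rfl
  obtain ⟨-, u, h2, h3⟩ := hx
  rw [map_one] at h3
  have hu : u ∈ Subgroup.center SL45 := (QuotientGroup.eq_one_iff u).1 h3
  have h4 : (u : M45) i j = 0 := by
    rcases center_cases hu with h5 | h5 | h5 <;> rw [h5] <;> simp [Matrix.one_apply_ne hij]
  rw [h2] at h4
  apply h
  rw [← h4]
  simp only [List.map_cons, List.map_nil, List.prod_cons, List.prod_nil, mul_one]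
  rfl

end Cfsg.Agent.SporadicB.ON45Word
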