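import Cfsg.Agent.SporadicB.ON45Rels

/-!
The homomorphism from the presented O'Nan group `Cfsg.Spor.ON` to `SL(45, 7)` modulo its centre, and the
non-triviality of the group.
-/

set_option autoImplicit false

namespace Cfsg.Agent.SporadicB.ONNonTrivial

open Cfsg.Spor Cfsg.Spor.ON Cfsg.Agent.SporadicB.ONHom Cfsg.Agent.SporadicB.ON45Core
  Cfsg.Agent.SporadicB.ON45Rels

/-- the determinant of each generator matrix is one -/
theorem det_M (i : ℕ) : (M i).det = 1 := by
  obtain ⟨h0, h1, h2, h3, h4, h5, h6⟩ := dets rels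
  match i with
  | 0 => exact h0
  | 1 => exact h1
  | 2 => exact h2
  | 3 => exact h3
  | 4 => exact h4
  | 5 => exact h5
  | (_ + 6) => exact h6

/-- generators as elements of `SL(45, 7)` -/
def S (i : ℕ) : SL45 := ⟨M i, det_M i⟩

theorem coe_S (i : ℕ) : ((S i : SL45) : M45) = M i := rfl

/-- the projection modulo scalars -/
def pr : SL45 →* SL45 ⧸ Subgroup.center SL45 := QuotientGroup.mk' _

theorem pr_eq_one_of_smul {x : SL45} (r : ZMod 7) (hx : (x : M45) = r • (1 : M45)) : pr x = 1 :=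
  (QuotientGroup.eq_one_iff x).2 (mem_center_of_smul hx)

theorem pr_eq_one {x : SL45} (hx : (x : M45) = 1) : pr x = 1 :=
  pr_eq_one_of_smul 1 (by rw [hx, one_smul])

theorem pr_congr {x y : SL45} (h : (x : M45) = (y : M45)) : pr x = pr y := by
  rw [Subtype.ext h]

theorem pr_eq_one_iff {x : SL45} : pr x = 1 ↔ ∃ r : ZMod 7, (x : M45) = r • (1 : M45) := by
  constructor
  · intro h
    have h1 : x ∈ Subgroup.center SL45 := (QuotientGroup.eq_one_iff x).1 h
    rcases center_cases h1 with h2 | h2 | h2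
    · exact ⟨_, h2⟩
    · exact ⟨_, h2⟩
    · exact ⟨_, h2⟩
  · rintro ⟨r, hr⟩
    exact pr_eq_one_of_smul r hr

/-- The relations hold modulo scalars. -/
theorem rels_pr : Rels (pr (S 0)) (pr (S 1)) (pr (S 2)) (pr (S 3)) (pr (S 4)) (pr (S 5)) (pr (S 6)) := by
  have h := rels
  refine ⟨?_, ?_, ?_, ?_, ?_, ?_, ?_, ?_, ?_, ?_, ?_, ?_, ?_, ?_, ?_, ?_, ?_, ?_, ?_, ?_, ?_, ?_, ?_, ?_, ?_, ?_, ?_⟩ <;>
    simp only [← map_mul, ← map_pow]
  · exact pr_eq_one h.aa
  · exact pr_eq_one h.bb
  · exact pr_eq_one h.cc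
  · exact pr_eq_one h.dd
  · exact pr_eq_one h.ee
  · exact pr_eq_one h.ff
  · exact pr_eq_one h.ab
  · exact pr_eq_one h.bc
  · exact pr_eq_one h.de
  · exact pr_eq_one h.ef
  · exact pr_congr h.ac
  · exact pr_congr h.ad
  · exact pr_congr h.ae
  · exact pr_congr h.af
  · exact pr_congr h.bd
  · exact pr_congr h.be
  · exact pr_congr h.bf
  · exact pr_congr h.ce
  · exact pr_congr h.cf
  · exact pr_congr h.df
  · exact pr_congr h.afcd
  · exact pr_congr h.afgg
  · exact pr_congr h.cdg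
  · exact pr_congr h.dcg
  · exact pr_eq_one_of_smul 4 h.bcdg
  · exact pr_eq_one_of_smul 4 h.gb
  · exact pr_eq_one_of_smul 4 h.ge

/-- The projective 45-dimensional representation of the presented O'Nan group over `ZMod 7`. -/
def rho : ON →* SL45 ⧸ Subgroup.center SL45 := hom rels_pr

theorem rho_a : rho (PresentedGroup.of Gen.a) = pr (S 0) := hom_of rels_pr Gen.a
theorem rho_b : rho (PresentedGroup.of Gen.b) = pr (S 1) := hom_of rels_pr Gen.b
theorem rho_c : rho (PresentedGroup.of Gen.c) = pr (S 2) := hom_of rels_pr Gen.c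
theorem rho_d : rho (PresentedGroup.of Gen.d) = pr (S 3) := hom_of rels_pr Gen.d
theorem rho_e : rho (PresentedGroup.of Gen.e) = pr (S 4) := hom_of rels_pr Gen.e
theorem rho_f : rho (PresentedGroup.of Gen.f) = pr (S 5) := hom_of rels_pr Gen.f
theorem rho_g : rho (PresentedGroup.of Gen.g) = pr (S 6) := hom_of rels_pr Gen.g

/-- index of a generator -/
def idx : Gen → ℕ
  | .a => 0
  | .b => 1
  | .c => 2
  | .d => 3
  | .e => 4
  | .f => 5
  | .g => 6

theorem rho_of (x : Gen) : rho (PresentedGroup.of x) = pr (S (idx x)) := by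
  cases x
  · exact rho_g
  · exact rho_a
  · exact rho_b
  · exact rho_c
  · exact rho_d
  · exact rho_e
  · exact rho_f

end Cfsg.Agent.SporadicB.ONNonTrivial
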