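import Mathlib

/-!
# Permutations as switching networks, evaluated by the kernel

A *net* is a list of stages `(d, m)`.  A stage swaps the positions `i` and `i + d` for every set
bit `i` of the mask `m` (which must satisfy `m &&& (m <<< d) = 0`).  Applied to a bit vector stored
as one natural number a stage costs a handful of GMP operations, so the kernel can apply a
permutation of thousands (even 10^5) of points to a set of points in about a millisecond.

* `run l x`       : the bit vector `x` permuted by the net `l`
* `netPerm l`     : the permutation of `ℕ` given by `l`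
* `run_testBit`   : `(run l x).testBit i = x.testBit (netPerm l i)` for valid nets
* `eqNet w l l'`  : kernel test that two nets on `2 ^ w` points are the same permutation
* `bfs`           : orbit growing; `mem_orbit_of_bfs`
-/

set_option autoImplicit false

namespace Cfsg.Agent.SporadicB.PermNet

/-- A switching network: a list of stages `(distance, mask)`. -/
abbrev Net : Type := List (Nat × Nat)

/-- Apply one stage to a bit vector. -/
def stepApply (d m x : Nat) : Nat :=
  Nat.xor (Nat.xor x (Nat.land (Nat.xor (Nat.shiftRight x d) x) m))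
    (Nat.shiftLeft (Nat.land (Nat.xor (Nat.shiftRight x d) x) m) d)

/-- Apply a net to a bit vector. -/
noncomputable def run (l : Net) : Nat → Nat :=
  @List.rec (Nat × Nat) (fun _ => Nat → Nat) (fun x => x) (fun p _ ih x => ih (stepApply p.1 p.2 x)) l

theorem run_nil (x : Nat) : run [] x = x := rfl

theorem run_cons (p : Nat × Nat) (l : Net) (x : Nat) :
    run (p :: l) x = run l (stepApply p.1 p.2 x) := rfl

theorem run_append (l l' : Net) (x : Nat) : run (l ++ l') x = run l' (run l x) := by
  induction l generalizing x with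
  | nil => rfl
  | cons p l ih => rw [List.cons_append, run_cons, run_cons, ih]

/-- The action of one stage on positions. -/
def stepFun (d m i : Nat) : Nat :=
  if m.testBit i then i + d else if d ≤ i ∧ m.testBit (i - d) then i - d else i

/-- A stage is valid if its swaps are disjoint. -/
def StepValid (p : Nat × Nat) : Prop := p.2 &&& (p.2 <<< p.1) = 0

theorem StepValid.testBit {p : Nat × Nat} (h : StepValid p) (i : Nat) (hi : p.2.testBit i = true) :
    p.2.testBit (i + p.1) = false := by
  have h1 := congrArg (fun z => Nat.testBit z (i + p.1)) h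
  simp only [Nat.testBit_land, Nat.testBit_shiftLeft, Nat.zero_testBit] at h1
  have h2 : i + p.1 - p.1 = i := by omega
  rw [h2, hi] at h1
  simpa using h1

theorem stepFun_invol {p : Nat × Nat} (h : StepValid p) (i : Nat) :
    stepFun p.1 p.2 (stepFun p.1 p.2 i) = i := by
  unfold stepFun
  by_cases h1 : p.2.testBit i = true
  · have h2 := h.testBit i h1
    simp [h1, h2]
  · by_cases h3 : p.1 ≤ i ∧ p.2.testBit (i - p.1) = true
    · rw [if_neg h1, if_pos h3, if_pos h3.2]
      omega
    · rw [if_neg h1, if_neg h3, if_neg h1, if_neg h3]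

theorem testBit_stepApply {p : Nat × Nat} (h : StepValid p) (x i : Nat) :
    (stepApply p.1 p.2 x).testBit i = x.testBit (stepFun p.1 p.2 i) := by
  have e : stepApply p.1 p.2 x =
      (x ^^^ (((x >>> p.1) ^^^ x) &&& p.2)) ^^^ ((((x >>> p.1) ^^^ x) &&& p.2) <<< p.1) := rfl
  rw [e]
  simp only [Nat.testBit_xor, Nat.testBit_land, Nat.testBit_shiftLeft, Nat.testBit_shiftRight]
  unfold stepFun
  by_cases h1 : p.2.testBit i = true
  · simp only [h1, if_true]
    by_cases hd : p.1 ≤ i
    · have h4 : p.2.testBit (i - p.1) = false := by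
        by_contra hc
        have := h.testBit (i - p.1) (by simpa using hc)
        rw [Nat.sub_add_cancel hd, h1] at this
        exact absurd this (by simp)
      simp only [h4, Nat.add_comm p.1 i, Bool.and_true, Bool.and_false, Bool.xor_false]
      cases x.testBit i <;> cases x.testBit (i + p.1) <;> rfl
    · have h6 : decide (i ≥ p.1) = false := decide_eq_false hd
      simp only [h6, Nat.add_comm p.1 i, Bool.and_true, Bool.false_and, Bool.xor_false]
      cases x.testBit i <;> cases x.testBit (i + p.1) <;> rfl
  · have h1' : p.2.testBit i = false := by simpa using h1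
    by_cases h3 : p.1 ≤ i ∧ p.2.testBit (i - p.1) = true
    · have h5 : p.1 + (i - p.1) = i := by omega
      simp [h1', h3, h5]
    · simp only [h1', Bool.false_eq_true, if_false, h3]
      by_cases hd : p.1 ≤ i
      · have h6 : p.2.testBit (i - p.1) = false := by
          by_contra hc
          exact h3 ⟨hd, by simpa using hc⟩
        simp [h6]
      · simp [hd]

open Classical in
/-- The permutation of positions given by one stage (the identity if the stage is not valid). -/
noncomputable def stepPerm (p : Nat × Nat) : Equiv.Perm Nat :=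
  if h : StepValid p then Function.Involutive.toPerm (stepFun p.1 p.2) (stepFun_invol h) else 1

theorem stepPerm_apply {p : Nat × Nat} (h : StepValid p) (i : Nat) :
    stepPerm p i = stepFun p.1 p.2 i := by
  unfold stepPerm
  rw [dif_pos h]
  rfl

theorem stepPerm_mul_self (p : Nat × Nat) : stepPerm p * stepPerm p = 1 := by
  by_cases h : StepValid p
  · ext i
    rw [Equiv.Perm.mul_apply, stepPerm_apply h, stepPerm_apply h, stepFun_invol h]
    rfl
  · unfold stepPerm
    rw [dif_neg h, one_mul]

theorem stepPerm_inv (p : Nat × Nat) : (stepPerm p)⁻¹ = stepPerm p :=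
  inv_eq_of_mul_eq_one_right (stepPerm_mul_self p)

/-- The permutation of `ℕ` given by a net. -/
noncomputable def netPerm (l : Net) : Equiv.Perm Nat := (l.map stepPerm).prod

theorem netPerm_nil : netPerm [] = 1 := rfl

theorem netPerm_cons (p : Nat × Nat) (l : Net) : netPerm (p :: l) = stepPerm p * netPerm l := by
  unfold netPerm
  rw [List.map_cons, List.prod_cons]

theorem netPerm_append (l l' : Net) : netPerm (l ++ l') = netPerm l * netPerm l' := by
  unfold netPerm
  rw [List.map_append, List.prod_append]

theorem netPerm_reverse (l : Net) : netPerm l.reverse = (netPerm l)⁻¹ := by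
  induction l with
  | nil => simp [netPerm_nil]
  | cons p l ih =>
    rw [List.reverse_cons, netPerm_append, ih, netPerm_cons p l, netPerm_cons p [], netPerm_nil,
      mul_one, mul_inv_rev, stepPerm_inv]

/-- All stages valid. -/
def Valid (l : Net) : Prop := ∀ p ∈ l, StepValid p

theorem Valid.append {l l' : Net} (h : Valid l) (h' : Valid l') : Valid (l ++ l') := by
  intro p hp
  rcases List.mem_append.1 hp with hp | hp
  · exact h p hp
  · exact h' p hp

theorem Valid.reverse {l : Net} (h : Valid l) : Valid l.reverse := fun p hp =>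
  h p (List.mem_reverse.1 hp)

theorem run_testBit {l : Net} (h : Valid l) (x i : Nat) :
    (run l x).testBit i = x.testBit (netPerm l i) := by
  induction l generalizing x with
  | nil => rfl
  | cons p l ih =>
    rw [run_cons, ih (fun q hq => h q (List.mem_cons_of_mem _ hq)),
      testBit_stepApply (h p List.mem_cons_self), netPerm_cons, Equiv.Perm.mul_apply,
      stepPerm_apply (h p List.mem_cons_self)]

/-- Kernel check of validity and boundedness by `2 ^ B` (all swaps inside `[0, B)`). -/
noncomputable def okNet (B : Nat) (l : Net) : Bool :=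
  @List.rec (Nat × Nat) (fun _ => Bool) true
    (fun p _ ih => and (and (Nat.beq (Nat.land p.2 (Nat.shiftLeft p.2 p.1)) 0)
      (Nat.ble (Nat.succ (Nat.shiftLeft p.2 p.1)) (Nat.pow 2 B))) ih) l

theorem okNet_cons (B : Nat) (p : Nat × Nat) (l : Net) :
    okNet B (p :: l) = and (and (Nat.beq (Nat.land p.2 (Nat.shiftLeft p.2 p.1)) 0)
      (Nat.ble (Nat.succ (Nat.shiftLeft p.2 p.1)) (Nat.pow 2 B))) (okNet B l) := rfl

theorem okNet_spec {B : Nat} {l : Net} (h : okNet B l = true) :
    Valid l ∧ ∀ p ∈ l, p.2 <<< p.1 < 2 ^ B := by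
  induction l with
  | nil => exact ⟨fun p hp => absurd hp (by simp), fun p hp => absurd hp (by simp)⟩
  | cons p l ih =>
    rw [okNet_cons, Bool.and_eq_true, Bool.and_eq_true] at h
    obtain ⟨⟨h1, h2⟩, h3⟩ := h
    obtain ⟨h4, h5⟩ := ih h3
    refine ⟨?_, ?_⟩
    · intro q hq
      rcases List.mem_cons.1 hq with rfl | hq
      · exact Nat.eq_of_beq_eq_true h1
      · exact h4 q hq
    · intro q hq
      rcases List.mem_cons.1 hq with rfl | hq
      · exact Nat.le_of_ble_eq_true h2
      · exact h5 q hq

theorem stepFun_of_ge {B : Nat} {p : Nat × Nat} (h : p.2 <<< p.1 < 2 ^ B) {i : Nat} (hi : B ≤ i) :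
    stepFun p.1 p.2 i = i := by
  have key : ∀ j, B ≤ j + p.1 → p.2.testBit j = false := by
    intro j hj
    have h1 : (p.2 <<< p.1).testBit (j + p.1) = false :=
      Nat.testBit_lt_two_pow (lt_of_lt_of_le h (Nat.pow_le_pow_right (by norm_num) hj))
    rw [Nat.testBit_shiftLeft] at h1
    have h2 : j + p.1 - p.1 = j := by omega
    rw [h2] at h1
    simpa using h1
  unfold stepFun
  rw [key i (by omega)]
  simp only [Bool.false_eq_true, if_false]
  split_ifs with h3
  · exact absurd h3.2 (by rw [key (i - p.1) (by omega)]; simp)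
  · rfl

theorem netPerm_of_ge {B : Nat} {l : Net} (h : okNet B l = true) {i : Nat} (hi : B ≤ i) :
    netPerm l i = i := by
  obtain ⟨h1, h2⟩ := okNet_spec h
  clear h
  induction l with
  | nil => rfl
  | cons p l ih =>
    rw [netPerm_cons, Equiv.Perm.mul_apply, ih (fun q hq => h1 q (List.mem_cons_of_mem _ hq))
      (fun q hq => h2 q (List.mem_cons_of_mem _ hq)), stepPerm_apply (h1 p List.mem_cons_self),
      stepFun_of_ge (h2 p List.mem_cons_self) hi]

/-- A permutation of `ℕ` fixing everything `≥ B` maps `[0, B)` to itself. -/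
theorem lt_of_fix_ge {B : Nat} {g : Equiv.Perm Nat} (h : ∀ i, B ≤ i → g i = i) {i : Nat}
    (hi : i < B) : g i < B := by
  by_contra hc
  have h1 := h (g i) (by omega)
  have h2 := g.injective h1
  omega

/-- Bit plane `j` of the identity vector on `2 ^ w` positions: bit `i` is bit `j` of `i`. -/
noncomputable def plane (w j : Nat) : Nat :=
  @Nat.rec (fun _ => Nat) 0
    (fun k ih => Nat.rec (Nat.shiftLeft (Nat.sub (Nat.pow 2 (Nat.pow 2 k)) 1) (Nat.pow 2 k))
      (fun _ _ => Nat.lor ih (Nat.shiftLeft ih (Nat.pow 2 k)))
      (Nat.sub k j)) w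

theorem plane_succ (w j : Nat) : plane (w + 1) j =
    @Nat.rec (fun _ => Nat) ((2 ^ (2 ^ w) - 1) <<< (2 ^ w))
      (fun _ _ => plane w j ||| (plane w j <<< (2 ^ w))) (w - j) := rfl

theorem plane_succ_self (w : Nat) : plane (w + 1) w = (2 ^ (2 ^ w) - 1) <<< (2 ^ w) := by
  rw [plane_succ, Nat.sub_self]
  rfl

theorem plane_succ_lt (w j : Nat) (h : j < w) :
    plane (w + 1) j = plane w j ||| (plane w j <<< (2 ^ w)) := by
  rw [plane_succ]
  obtain ⟨k, hk⟩ : ∃ k, w - j = k + 1 := ⟨w - j - 1, by omega⟩
  rw [hk]

theorem plane_testBit (w j i : Nat) (hj : j < w) :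
    (plane w j).testBit i = (decide (i < 2 ^ w) && i.testBit j) := by
  induction w generalizing i with
  | zero => omega
  | succ w ih =>
    rcases Nat.lt_succ_iff_lt_or_eq.1 hj with h | rfl
    · rw [plane_succ_lt w j h, Nat.testBit_lor, Nat.testBit_shiftLeft, ih i h, ih (i - 2 ^ w) h]
      have e : 2 ^ (w + 1) = 2 ^ w + 2 ^ w := by rw [pow_succ]; omega
      rw [e]
      rcases lt_or_ge i (2 ^ w) with h1 | h1
      · have h2 : ¬ 2 ^ w ≤ i := by omega
        have h3 : i < 2 ^ w + 2 ^ w := by omega
        simp [h1, h2, h3]
      · have h2 : ¬ i < 2 ^ w := by omega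
        simp only [h2, decide_false, Bool.false_and, Bool.false_or, ge_iff_le, h1, decide_true,
          Bool.true_and]
        by_cases h3 : i < 2 ^ w + 2 ^ w
        · have h4 : i - 2 ^ w < 2 ^ w := by omega
          simp only [h3, h4, decide_true, Bool.true_and]
          have h5 : i = 2 ^ w + (i - 2 ^ w) := by omega
          conv_rhs => rw [h5]
          rw [Nat.testBit_two_pow_add_gt h]
        · have h4 : ¬ i - 2 ^ w < 2 ^ w := by omega
          simp only [h3, h4, decide_false, Bool.false_and]
    · rw [plane_succ_self, Nat.testBit_shiftLeft, Nat.testBit_two_pow_sub_one]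
      have e : 2 ^ (j + 1) = 2 ^ j + 2 ^ j := by rw [pow_succ]; omega
      rw [e]
      rcases lt_or_ge i (2 ^ j) with h1 | h1
      · have h2 : ¬ 2 ^ j ≤ i := by omega
        have h3 : i.testBit j = false := Nat.testBit_lt_two_pow h1
        simp [h2, h3]
      · simp only [ge_iff_le, h1, decide_true, Bool.true_and]
        by_cases h3 : i < 2 ^ j + 2 ^ j
        · have h4 : i - 2 ^ j < 2 ^ j := by omega
          simp only [h3, h4, decide_true, Bool.true_and]
          have h5 : i = 2 ^ j + (i - 2 ^ j) := by omega
          rw [h5, Nat.testBit_two_pow_add_eq, Nat.testBit_lt_two_pow h4]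
          rfl
        · have h4 : ¬ i - 2 ^ j < 2 ^ j := by omega
          simp only [h3, h4, decide_false, Bool.false_and]

/-- Kernel test: the nets `l` and `l'` are equal on the `j` lowest bit planes. -/
noncomputable def eqNetAux (w : Nat) (l l' : Net) (k : Nat) : Bool :=
  @Nat.rec (fun _ => Bool) true
    (fun j ih => and (Nat.beq (run l (plane w j)) (run l' (plane w j))) ih) k

/-- Kernel test that two nets on `2 ^ w` positions are the same permutation. -/
noncomputable def eqNet (w : Nat) (l l' : Net) : Bool := eqNetAux w l l' w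

theorem eqNetAux_spec {w : Nat} {l l' : Net} {k : Nat} (h : eqNetAux w l l' k = true) :
    ∀ j < k, run l (plane w j) = run l' (plane w j) := by
  induction k with
  | zero => intro j hj; omega
  | succ k ih =>
    have h1 : and (Nat.beq (run l (plane w k)) (run l' (plane w k))) (eqNetAux w l l' k) = true := h
    rw [Bool.and_eq_true] at h1
    intro j hj
    rcases Nat.lt_succ_iff_lt_or_eq.1 hj with hj | rfl
    · exact ih h1.2 j hj
    · exact Nat.eq_of_beq_eq_true h1.1

theorem netPerm_eq_of_eqNet {w : Nat} {l l' : Net} (hl : okNet (2 ^ w) l = true)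
    (hl' : okNet (2 ^ w) l' = true) (h : eqNet w l l' = true) : netPerm l = netPerm l' := by
  have h1 := eqNetAux_spec h
  ext i
  rcases lt_or_ge i (2 ^ w) with hi | hi
  · have hb : netPerm l i < 2 ^ w := lt_of_fix_ge (fun j hj => netPerm_of_ge hl hj) hi
    have hb' : netPerm l' i < 2 ^ w := lt_of_fix_ge (fun j hj => netPerm_of_ge hl' hj) hi
    apply Nat.eq_of_testBit_eq
    intro j
    rcases lt_or_ge j w with hj | hj
    · have h2 := congrArg (fun z => Nat.testBit z i) (h1 j hj)
      simp only [run_testBit (okNet_spec hl).1, run_testBit (okNet_spec hl').1,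
        plane_testBit w j _ hj, hb, hb', decide_true, Bool.true_and] at h2
      exact h2
    · have hp : (2 : Nat) ^ w ≤ 2 ^ j := Nat.pow_le_pow_right (by norm_num) hj
      rw [Nat.testBit_lt_two_pow (lt_of_lt_of_le hb hp),
        Nat.testBit_lt_two_pow (lt_of_lt_of_le hb' hp)]
  · rw [netPerm_of_ge hl hi, netPerm_of_ge hl' hi]

end Cfsg.Agent.SporadicB.PermNet
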