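import Cfsg.Agent.SporadicB.RuOrder
import Cfsg.Agent.SporadicB.RuTitsData
import Cfsg.Agent.Lib.BitNetSimple

set_option autoImplicit false
set_option maxRecDepth 100000
set_option exponentiation.threshold 5000

/-!
The Tits group as a subgroup `T = ⟨x0, x1⟩` of index 2 of the stabiliser of a point in the automorphism group of the
Rudvalis graph: its order is 17971200 and it is simple.

Upper bound for the order: `T` preserves a family of sets `rowT a` (`a` a neighbour of 0; the image of an orbit of
length 512 of the stabiliser in `T` of the neighbour 1968) which is not preserved by the whole point stabiliser.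
-/

namespace Cfsg.Agent.SporadicB.RuTits

open Cfsg.Agent.SporadicB.RuData Cfsg.Agent.SporadicB.RuOrder Cfsg.Agent.SporadicB.RuTitsData
open Cfsg.Agent.Lib.BitNet Cfsg.Agent.Lib.BitNetSimple
open MulAction

/-! ### the family of halves -/

/-- binary tries with natural numbers at the leaves -/
inductive Tr
  | e : Tr
  | v (x : ℕ) : Tr
  | n (l r : Tr) : Tr

/-- look up -/
noncomputable def Tr.get (t : Tr) : ℕ → ℕ :=
  Tr.rec (fun _ => 0) (fun x _ => x)
    (fun _ _ gl gr i => cond (Nat.beq (Nat.land i 1) 0) (gl (Nat.shiftRight i 1)) (gr (Nat.shiftRight i 1))) t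

/-- insert `x` at position `i`, depth `d` -/
noncomputable def Tr.ins {α : Type} (x : ℕ) (d : ℕ) : ℕ → Tr → (Tr → α) → α :=
  Nat.rec (fun _ _ k => k (Tr.v x))
    (fun _ ih i t k =>
      Tr.rec (cond (Nat.beq (Nat.land i 1) 0) (ih (Nat.shiftRight i 1) Tr.e (fun l => k (Tr.n l Tr.e)))
          (ih (Nat.shiftRight i 1) Tr.e (fun r => k (Tr.n Tr.e r))))
        (fun _ => (cond (Nat.beq (Nat.land i 1) 0) (ih (Nat.shiftRight i 1) Tr.e (fun l => k (Tr.n l Tr.e)))
          (ih (Nat.shiftRight i 1) Tr.e (fun r => k (Tr.n Tr.e r)))))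
        (fun l r _ _ => cond (Nat.beq (Nat.land i 1) 0) (ih (Nat.shiftRight i 1) l (fun l => k (Tr.n l r)))
          (ih (Nat.shiftRight i 1) r (fun r => k (Tr.n l r)))) t) d

/-- build the trie from a packed list of instructions -/
noncomputable def build {α : Type} (gen : ℕ → List (ℕ × ℕ)) (fuel : ℕ) : ℕ → Tr → (Tr → α) → α :=
  Nat.rec (fun _ t k => k t)
    (fun _ ih D t k => force (Nat.mod D 4294967296) (fun w =>
      force (appMF (gen (Nat.shiftRight w 24)) (t.get (Nat.mod w 4096))) (fun x =>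
        Tr.ins x 12 (Nat.mod (Nat.shiftRight w 12) 4096) t (fun t' =>
          force (Nat.shiftRight D 32) (fun D' => ih D' t' k))))) fuel

def gen (c : ℕ) : List (ℕ × ℕ) := bif Nat.beq c 0 then x0 else bif Nat.beq c 1 then x0.reverse else
  bif Nat.beq c 2 then x1 else x1.reverse

/-- `m` is the set of neighbours; for each of them the value of the trie is transported by `l` -/
noncomputable def chkAll (t : Tr) (m : ℕ) (fuel : ℕ) : ℕ → Bool :=
  Nat.rec (fun a => force a (fun a => cond (tb m a)
      (Nat.beq (appMF x0 (t.get a)) (t.get (appF x0 a)) && Nat.beq (appMF x1 (t.get a)) (t.get (appF x1 a))) true))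
    (fun k ih a => ih a && ih (Nat.add a (Nat.pow 2 k))) fuel

/-- all the checks: the family is transported by `x0` and `x1`, but not by `net1` -/
noncomputable def chk (t : Tr) : Bool :=
  force (row 0) (fun m => chkAll t m 12 0 &&
    (tb m 1968 && (tb m (appF net1 1968) && (tb (t.get 1968) 9 && !(tb (t.get (appF net1 1968)) (appF net1 9))))))

theorem chk_ok : build gen 1754 forest (Tr.ins half 12 1968 Tr.e (fun t => t)) chk = true := by decide +kernel

theorem ins_eq {α β : Type} (f : α → β) (x : ℕ) : ∀ (d i : ℕ) (t : Tr) (k : Tr → α),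
    f (Tr.ins x d i t k) = Tr.ins x d i t (fun t => f (k t)) := by
  intro d
  induction d with
  | zero => intro i t k; rfl
  | succ d ih =>
    intro i t k
    cases t with
    | e =>
      change f (cond _ (Tr.ins x d _ _ _) (Tr.ins x d _ _ _)) = cond _ (Tr.ins x d _ _ _) (Tr.ins x d _ _ _)
      cases Nat.beq (Nat.land i 1) 0
      · exact ih _ _ _
      · exact ih _ _ _
    | v y =>
      change f (cond _ (Tr.ins x d _ _ _) (Tr.ins x d _ _ _)) = cond _ (Tr.ins x d _ _ _) (Tr.ins x d _ _ _)
      cases Nat.beq (Nat.land i 1) 0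
      · exact ih _ _ _
      · exact ih _ _ _
    | n l r =>
      change f (cond _ (Tr.ins x d _ _ _) (Tr.ins x d _ _ _)) = cond _ (Tr.ins x d _ _ _) (Tr.ins x d _ _ _)
      cases Nat.beq (Nat.land i 1) 0
      · exact ih _ _ _
      · exact ih _ _ _

theorem build_succ {α : Type} (g : ℕ → List (ℕ × ℕ)) (fuel D : ℕ) (t : Tr) (k : Tr → α) :
    build g (fuel + 1) D t k = force (Nat.mod D 4294967296) (fun w =>
      force (appMF (g (Nat.shiftRight w 24)) (t.get (Nat.mod w 4096))) (fun x =>
        Tr.ins x 12 (Nat.mod (Nat.shiftRight w 12) 4096) t (fun t' =>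
          force (Nat.shiftRight D 32) (fun D' => build g fuel D' t' k)))) := rfl

theorem build_eq {α β : Type} (f : α → β) (g : ℕ → List (ℕ × ℕ)) : ∀ (fuel D : ℕ) (t : Tr) (k : Tr → α),
    f (build g fuel D t k) = build g fuel D t (fun t => f (k t)) := by
  intro fuel
  induction fuel with
  | zero => intro D t k; rfl
  | succ fuel ih =>
    intro D t k
    rw [build_succ, build_succ, force_eq, force_eq, force_eq, force_eq, ins_eq f]
    congr 1
    funext t'
    rw [force_eq, force_eq, ih]

/-- the trie -/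
noncomputable def trie : Tr := build gen 1754 forest (Tr.ins half 12 1968 Tr.e (fun t => t)) (fun t => t)

theorem chk_trie : chk trie = true := by
  have h := build_eq chk gen 1754 forest (Tr.ins half 12 1968 Tr.e (fun t => t)) (fun t => t)
  rw [trie, h]
  exact chk_ok

theorem chkAll_spec {t : Tr} {m : ℕ} : ∀ (k s : ℕ), chkAll t m k s = true → ∀ i, s ≤ i → i < s + 2 ^ k →
    m.testBit i = true → (appM x0 (t.get i) = t.get (app x0 i) ∧ appM x1 (t.get i) = t.get (app x1 i)) := by
  intro k
  induction k with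
  | zero =>
    intro s h i h1 h2 hm
    have : i = s := by simp at h2; omega
    subst this
    have e : chkAll t m 0 i = force i (fun a => cond (tb m a)
      (Nat.beq (appMF x0 (t.get a)) (t.get (appF x0 a)) && Nat.beq (appMF x1 (t.get a)) (t.get (appF x1 a))) true) := rfl
    rw [e, force_eq, tb_eq, hm, cond_true, Bool.and_eq_true, appMF_eq, appMF_eq, appF_eq, appF_eq] at h
    exact ⟨Nat.eq_of_beq_eq_true h.1, Nat.eq_of_beq_eq_true h.2⟩
  | succ k ih =>
    intro s h i h1 h2 hm
    have e : chkAll t m (k + 1) s = (chkAll t m k s && chkAll t m k (s + 2 ^ k)) := rfl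
    rw [e, Bool.and_eq_true] at h
    rcases lt_or_ge i (s + 2 ^ k) with h3 | h3
    · exact ih s h.1 i h1 h3 hm
    · refine ih _ h.2 i h3 ?_ hm
      rw [pow_succ] at h2
      omega

/-- the half of the point `a` -/
noncomputable def rowT (a : ℕ) : ℕ := bif (row 0).testBit a then trie.get a else 0

theorem chk_parts : chkAll trie (row 0) 12 0 = true ∧ (row 0).testBit 1968 = true ∧
    (row 0).testBit (app net1 1968) = true ∧ (trie.get 1968).testBit 9 = true ∧
    (trie.get (app net1 1968)).testBit (app net1 9) = false := by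
  have h := chk_trie
  rw [chk, force_eq, Bool.and_eq_true, Bool.and_eq_true, Bool.and_eq_true, Bool.and_eq_true, tb_eq, tb_eq, tb_eq,
    tb_eq, appF_eq, appF_eq, Bool.not_eq_true'] at h
  exact h

/-! ### the group -/

theorem xinv0 : invCheck 12 row x0 = true := by decide +kernel
theorem xinv1 : invCheck 12 row x1 = true := by decide +kernel
theorem xok0 : OkNet 4060 x0 := okNet_sound (by decide +kernel)
theorem xok1 : OkNet 4060 x1 := okNet_sound (by decide +kernel)

theorem xfix0 : Nat.beq (appF x0 0) 0 = true := by decide +kernel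
theorem xfix1 : Nat.beq (appF x1 0) 0 = true := by decide +kernel

theorem xmem0 : Mem H1 x0 := Mem.stab ⟨xok0, perm_mem_Aut (K := 12) (by norm_num) sym xinv0 _⟩ xfix0
theorem xmem1 : Mem H1 x1 := Mem.stab ⟨xok1, perm_mem_Aut (K := 12) (by norm_num) sym xinv1 _⟩ xfix1

/-- the Tits group -/
def T : Subgroup (Equiv.Perm (Fin 4060)) := Subgroup.closure {perm xok0, perm xok1}

theorem T_le : T ≤ H1 := by
  rw [T, Subgroup.closure_le]
  rintro g (rfl | rfl)
  · exact xmem0.2
  · exact xmem1.2

theorem tmem0 : Mem T x0 := ⟨xok0, Subgroup.subset_closure (Or.inl rfl)⟩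
theorem tmem1 : Mem T x1 := ⟨xok1, Subgroup.subset_closure (Or.inr rfl)⟩

theorem H1_row {g : Equiv.Perm (Fin 4060)} (hg : g ∈ H1) (a : Fin 4060) :
    (row 0).testBit (g a) = (row 0).testBit a :=
  Inv.row (p := b1) hg.1 hg.2 a

theorem T_le_Aut : T ≤ Aut 4060 rowT := by
  rw [T, Subgroup.closure_le]
  have key : ∀ l : List (ℕ × ℕ), ∀ ok : OkNet 4060 l, perm ok ∈ H1 →
      (∀ i, i < 2 ^ 12 → (row 0).testBit i = true → appM l (trie.get i) = trie.get (app l i)) →
      perm ok ∈ Aut 4060 rowT := by
    intro l ok hH h u v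
    have h1 := H1_row hH u
    rw [perm_apply] at h1
    rw [perm_apply, perm_apply, rowT, rowT, h1]
    rcases hu : (row 0).testBit (u : ℕ) with _ | _
    · simp only [cond_false, Nat.zero_testBit]
    · rw [cond_true, cond_true, ← h u (by omega) hu]
      exact testBit_appM ok.valid _ _
  rintro g (rfl | rfl)
  · exact key x0 xok0 xmem0.2 (fun i hi hr => (chkAll_spec 12 0 chk_parts.1 i (Nat.zero_le _) (by omega) hr).1)
  · exact key x1 xok1 xmem1.2 (fun i hi hr => (chkAll_spec 12 0 chk_parts.1 i (Nat.zero_le _) (by omega) hr).2)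

theorem exists_not_mem : ∃ g ∈ H1, g ∉ T := by
  obtain ⟨ok, hm⟩ := mem1_1
  refine ⟨perm ok, hm, fun hT => ?_⟩
  have h1 := T_le_Aut hT (⟨1968, by norm_num⟩ : Fin 4060) (⟨9, by norm_num⟩ : Fin 4060)
  obtain ⟨_, h2, h3, h4, h5⟩ := chk_parts
  rw [perm_apply, perm_apply, rowT, rowT] at h1
  change (bif (row 0).testBit (app net1 1968) then trie.get (app net1 1968) else 0).testBit (app net1 9) =
    (bif (row 0).testBit 1968 then trie.get 1968 else 0).testBit 9 at h1
  rw [h2, h3, cond_true, cond_true, h4, h5] at h1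
  exact Bool.noConfusion h1

theorem card_T_le : Nat.card T ≤ 17971200 := by
  have h1 : Nat.card T ∣ Nat.card H1 := Subgroup.card_dvd_of_le T_le
  rw [card_H1] at h1
  obtain ⟨c, hc⟩ := h1
  have h2 : c ≠ 1 := by
    rintro rfl
    rw [mul_one] at hc
    obtain ⟨g, hg, hgT⟩ := exists_not_mem
    apply hgT
    have : T = H1 := Subgroup.eq_of_le_of_card_ge T_le (by rw [card_H1, hc])
    rwa [this]
  have h3 : c ≠ 0 := by
    rintro rfl
    omega
  have h4 : 2 ≤ c := by omega
  have h5 : Nat.card T * 2 ≤ Nat.card T * c := Nat.mul_le_mul_left _ h4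
  omega

/-! ### order -/

def k0 : List (ℕ × ℕ) := x0.reverse ++ x1.reverse
def k1 : List (ℕ × ℕ) := x0 ++ x1
def l0 : List (ℕ × ℕ) := k0 ++ (k1 ++ k1)
def l1 : List (ℕ × ℕ) := k1 ++ (k0 ++ (k1 ++ (k1 ++ (k0 ++ (k1.reverse ++ (k0 ++ k0))))))

def p1 : Fin 4060 := ⟨1968, by norm_num⟩
def p2 : Fin 4060 := ⟨4, by norm_num⟩
def p3 : Fin 4060 := ⟨3, by norm_num⟩

def T1 : Subgroup (Equiv.Perm (Fin 4060)) := T ⊓ stabilizer (Equiv.Perm (Fin 4060)) p1
def T2 : Subgroup (Equiv.Perm (Fin 4060)) := T1 ⊓ stabilizer (Equiv.Perm (Fin 4060)) p2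
def T3 : Subgroup (Equiv.Perm (Fin 4060)) := T2 ⊓ stabilizer (Equiv.Perm (Fin 4060)) p3

theorem kfix0 : Nat.beq (appF k0 1968) 1968 = true := by decide +kernel
theorem kfix1 : Nat.beq (appF k1 1968) 1968 = true := by decide +kernel
theorem lfix0 : Nat.beq (appF l0 4) 4 = true := by decide +kernel
theorem lfix1 : Nat.beq (appF l1 4) 4 = true := by decide +kernel

theorem kmem0 : Mem T1 k0 := Mem.stab (tmem0.reverse.append tmem1.reverse) kfix0
theorem kmem1 : Mem T1 k1 := Mem.stab (tmem0.append tmem1) kfix1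
theorem lmem0 : Mem T2 l0 := Mem.stab (kmem0.append (kmem1.append kmem1)) lfix0
theorem lmem1 : Mem T2 l1 :=
  Mem.stab (kmem1.append (kmem0.append (kmem1.append (kmem1.append (kmem0.append (kmem1.reverse.append
    (kmem0.append kmem0))))))) lfix1

theorem gensT : ∀ g ∈ [x0, x1], Mem T g := by
  intro g hg
  simp only [List.mem_cons, List.not_mem_nil, or_false] at hg
  rcases hg with rfl | rfl
  exacts [tmem0, tmem1]

theorem gensT1 : ∀ g ∈ [k0, k1], Mem T1 g := by
  intro g hg
  simp only [List.mem_cons, List.not_mem_nil, or_false] at hg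
  rcases hg with rfl | rfl
  exacts [kmem0, kmem1]

theorem gensT2 : ∀ g ∈ [l0, l1], Mem T2 g := by
  intro g hg
  simp only [List.mem_cons, List.not_mem_nil, or_false] at hg
  rcases hg with rfl | rfl
  exacts [lmem0, lmem1]

theorem orbT : Nat.ble 1755 (popc 12 (iterF [x0, x1] 11 (Nat.pow 2 1968))) = true := by decide +kernel
theorem orbT1 : Nat.ble 1024 (popc 12 (iterF [k0, k1] 9 (Nat.pow 2 4))) = true := by decide +kernel
theorem orbT2 : Nat.ble 10 (popc 12 (iterF [l0, l1] 3 (Nat.pow 2 3))) = true := by decide +kernel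

theorem lowT : 1755 * Nat.card T1 ≤ Nat.card T := lower_step' (L := 12) (k := 11) gensT orbT
theorem lowT1 : 1024 * Nat.card T2 ≤ Nat.card T1 := lower_step' (L := 12) (k := 9) gensT1 orbT1
theorem lowT2 : 10 * Nat.card T3 ≤ Nat.card T2 := lower_step' (L := 12) (k := 3) gensT2 orbT2

theorem card_T3 : Nat.card T3 = 1 := by
  have := card_T_le; have := lowT; have := lowT1; have := lowT2
  have : 0 < Nat.card T3 := Nat.card_pos
  omega

theorem card_T1 : Nat.card T1 = 10240 := by
  have := card_T_le; have := lowT; have := lowT1; have := lowT2; have := card_T3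
  omega

theorem card_T : Nat.card T = 17971200 := by
  have := card_T_le; have := lowT; have := lowT1; have := lowT2; have := card_T3
  omega

theorem card_orbitT : Nat.card (orbit T p1) = 1755 := by
  have h := card_eq_orbit_mul T p1
  have h1 : Nat.card ↥(T ⊓ stabilizer (Equiv.Perm (Fin 4060)) p1) = 10240 := card_T1
  rw [card_T, h1] at h
  omega

/-! ### simplicity -/

theorem orb10 : Nat.beq (iterF [k0, k1] 4 (Nat.pow 2 189)) c10 = true := by decide +kernel
theorem orb80 : Nat.beq (iterF [k0, k1] 5 (Nat.pow 2 13)) c80 = true := by decide +kernel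
theorem orb640 : Nat.beq (iterF [k0, k1] 8 (Nat.pow 2 6)) c640 = true := by decide +kernel
theorem orb1024 : Nat.beq (iterF [k0, k1] 9 (Nat.pow 2 4)) c1024 = true := by decide +kernel

theorem cover : Nat.beq ([c10, c80, c640, c1024].foldl Nat.lor (Nat.pow 2 1968)) (row 0) = true := by decide +kernel
theorem sizes : subsOk 12 1755 [c10, c80, c640, c1024] (Nat.pow 2 1968) = true := by decide +kernel
theorem row0_lt : row 0 < 2 ^ 4060 := by
  have h : Nat.blt (row 0) (Nat.pow 2 4060) = true := by decide +kernel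
  rw [Nat.blt_eq] at h
  exact h

theorem orbit_sub : ∀ x ∈ orbit T p1, (row 0).testBit x = true := by
  rintro _ ⟨g, rfl⟩
  have h := H1_row (T_le g.2) p1
  have h2 : (row 0).testBit (p1 : ℕ) = true := chk_parts.2.1
  rw [h2] at h
  exact h

theorem pow0 : Nat.beq (powF x0 13 0) 0 && (Nat.beq (powF x0 13 29) 29 && (Nat.beq (powF x0 13 580) 580 &&
  Nat.beq (powF x0 13 577) 577)) = true := by decide +kernel
theorem pow1 : Nat.beq (powF x1 13 0) 0 && (Nat.beq (powF x1 13 29) 29 && (Nat.beq (powF x1 13 580) 580 &&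
  Nat.beq (powF x1 13 577) 577)) = true := by decide +kernel

/-- an element of `H` is determined by the images of the base points -/
theorem eq_one_of_fix {g : Equiv.Perm (Fin 4060)} (hg : g ∈ H) (h1 : g b1 = b1) (h2 : g b2 = b2) (h3 : g b3 = b3)
    (h4 : g b4 = b4) : g = 1 := by
  have h : g ∈ H4 := ⟨⟨⟨⟨hg, h1⟩, h2⟩, h3⟩, h4⟩
  have h5 : H4 = ⊥ := Subgroup.card_eq_one.1 card_H4
  rw [h5] at h
  exact Subgroup.mem_bot.1 h

theorem pow_eq_one {l : List (ℕ × ℕ)} (h : Mem H l) {k : ℕ} (hk : (Nat.beq (powF l k 0) 0 &&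
    (Nat.beq (powF l k 29) 29 && (Nat.beq (powF l k 580) 580 && Nat.beq (powF l k 577) 577))) = true) :
    perm h.1 ^ k = 1 := by
  rw [Bool.and_eq_true, Bool.and_eq_true, Bool.and_eq_true] at hk
  exact eq_one_of_fix (H.pow_mem h.2 k) (perm_pow_fix _ hk.1) (perm_pow_fix _ hk.2.1) (perm_pow_fix _ hk.2.2.1)
    (perm_pow_fix _ hk.2.2.2)

theorem T_ne_bot : T ≠ ⊥ := by
  intro h
  have h1 := card_T
  rw [h, Subgroup.card_bot] at h1
  omega

/-- the group of order 17971200 is simple -/
theorem isSimpleGroup_T : IsSimpleGroup T := by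
  apply isSimpleGroup_of_orbit T p1 T_ne_bot
  · intro g hg hfix
    have h1 : g p1 = p1 := hfix p1 (mem_orbit_self p1)
    have hsub : (orbit T p1) = {x : Fin 4060 | (row 0).testBit x = true} := by
      apply Set.eq_of_subset_of_ncard_le
      · intro x hx
        exact orbit_sub x hx
      · rw [← Nat.card_coe_set_eq (orbit T p1), card_orbitT]
        have e : {x : Fin 4060 | (row 0).testBit x = true} = ((pts 4060 (row 0) : Finset (Fin 4060)) : Set (Fin 4060)) := by
          ext x
          rw [Finset.mem_coe, mem_pts]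
          rfl
        rw [e, Set.ncard_coe_finset]
        refine (card_pts_le (K := 12) (by norm_num) _).trans ?_
        have : Nat.ble (popc 12 (row 0)) 1755 = true := by decide +kernel
        exact Nat.le_of_ble_eq_true this
      · exact Set.toFinite _
    have hmem : ∀ x : Fin 4060, (row 0).testBit x = true → g x = x := by
      intro x hx
      apply hfix
      rw [hsub]
      exact hx
    have h2 : g p2 = p2 := by
      apply hmem
      have : tb (row 0) 4 = true := by decide +kernel
      rw [tb_eq] at this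
      exact this
    have h3 : g p3 = p3 := by
      apply hmem
      have : tb (row 0) 3 = true := by decide +kernel
      rw [tb_eq] at this
      exact this
    have h : g ∈ T3 := ⟨⟨⟨hg, h1⟩, h2⟩, h3⟩
    have h5 : T3 = ⊥ := Subgroup.card_eq_one.1 card_T3
    rw [h5] at h
    exact Subgroup.mem_bot.1 h
  · intro O hb hO hinv hd
    rw [card_orbitT] at hd ⊢
    refine block_of_subs (G := T) (b := p1) (L := 12) (S := row 0) (cs := [c10, c80, c640, c1024]) (by norm_num)
      row0_lt orbit_sub cover ?_ sizes O hb hO hinv hd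
    intro c hc
    simp only [List.mem_cons, List.not_mem_nil, or_false] at hc
    have key : ∀ (y : Fin 4060) (k c : ℕ), Nat.beq (iterF [k0, k1] k (Nat.pow 2 y)) c = true →
        ∃ y : Fin 4060, ∀ x : Fin 4060, c.testBit x = true → ∃ g ∈ T, g p1 = p1 ∧ g y = x := by
      intro y k c h
      refine ⟨y, fun x hx => ?_⟩
      obtain ⟨g, hg, hgx⟩ := exists_of_iterF gensT1 h hx
      exact ⟨g, hg.1, hg.2, hgx⟩
    rcases hc with rfl | rfl | rfl | rfl
    · exact key ⟨189, by norm_num⟩ 4 c10 orb10
    · exact key ⟨13, by norm_num⟩ 5 c80 orb80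
    · exact key ⟨6, by norm_num⟩ 8 c640 orb640
    · exact key ⟨4, by norm_num⟩ 9 c1024 orb1024
  · intro K _ _ hK
    have h1 : Nat.card ↥(T ⊓ stabilizer (Equiv.Perm (Fin 4060)) p1) = 10240 := card_T1
    rw [T, Subgroup.closure_le]
    rintro g (rfl | rfl)
    · exact hK _ tmem0.2 13 (by rw [h1]; norm_num) (pow_eq_one (xmem0.mono inf_le_left) pow0)
    · exact hK _ tmem1.2 13 (by rw [h1]; norm_num) (pow_eq_one (xmem1.mono inf_le_left) pow1)

end Cfsg.Agent.SporadicB.RuTits
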